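import Mathlib
import Cfsg.Agent.Lib.L3K.Defs

/-!
Vocabulary for the recognition of `PSL_n(q)`, `PSU_n(q)` (`q` odd, `n ≥ 5`) from the diagonal
elementary abelian 2-subgroup.  See `plans/GHD.md`.
-/

set_option autoImplicit false

namespace CfsgLib.GHD

open Subgroup Cfsg CfsgLib.W2 CfsgLib.Tech CfsgLib.PComp CfsgLib.Abel2 CfsgLib.L3K

universe u

variable {G : Type u} [Group G]

/-- `C(A)` -/
abbrev CS (A : Subgroup G) : Subgroup G := centralizer (A : Set G)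

/-- `N(A)` -/
abbrev NS (A : Subgroup G) : Subgroup G := normalizer (A : Set G)

/-- `O(C(A))` -/
abbrev OC (A : Subgroup G) : Subgroup G := opOf 2 (CS A)

/-- `A` has index 2 in `E` -/
def Hyp (A E : Subgroup G) : Prop := A ≤ E ∧ A.relIndex E = 2

/-- weak balance in corank 2 -/
def WB (E : Subgroup G) : Prop := ∀ F A, Hyp F A → Hyp A E → ⁅OC A, E⁆ ≤ OC F

variable {ι : Type} [Fintype ι] [DecidableEq ι]

/-- vectors of even weight -/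
def Ev (v : ι → ZMod 2) : Prop := ∑ i, v i = 0

/-- the vector `eᵢ + eⱼ` -/
def ee (i j : ι) : ι → ZMod 2 := Pi.single i 1 + Pi.single j 1

/-- the involution `diag(.., -1, .., -1, ..)` -/
def zz (ζ : (ι → ZMod 2) → G) (i j : ι) : G := ζ (ee i j)

/-- the group of all `ζ v`, `v` even -/
def EE (ζ : (ι → ZMod 2) → G) : Subgroup G := closure {g | ∃ v, Ev v ∧ ζ v = g}

/-- the root hyperplane `vᵢ = vⱼ` -/
def F2 (ζ : (ι → ZMod 2) → G) (i j : ι) : Subgroup G :=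
  closure {g | ∃ v, Ev v ∧ v i = v j ∧ ζ v = g}

/-- the subgroup `vᵢ = vⱼ = vₖ` -/
abbrev F3 (ζ : (ι → ZMod 2) → G) (i j k : ι) : Subgroup G := F2 ζ i j ⊓ F2 ζ j k

/-- the fundamental subgroup `[C(Fᵢⱼ), E]` -/
def LF (ζ : (ι → ZMod 2) → G) (i j : ι) : Subgroup G := ⁅CS (F2 ζ i j), EE ζ⁆

/-- `⟨Lᵢⱼ, Lⱼₖ⟩` -/
abbrev MF (ζ : (ι → ZMod 2) → G) (i j k : ι) : Subgroup G := LF ζ i j ⊔ LF ζ j k

/-- three distinct indices -/
structure D3 (i j k : ι) : Prop where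
  ij : i ≠ j
  ik : i ≠ k
  jk : j ≠ k

/-- four distinct indices -/
structure D4 (i j k l : ι) : Prop extends D3 i j k where
  il : i ≠ l
  jl : j ≠ l
  kl : k ≠ l

/-- `ζ` is a homomorphism on the even vectors whose kernel lies in the span of the all-one
vector, and there are at least five indices. -/
structure Lab (ζ : (ι → ZMod 2) → G) : Prop where
  five : 5 ≤ Fintype.card ι
  mul : ∀ u v, Ev u → Ev v → ζ (u + v) = ζ u * ζ v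
  ker : ∀ v, Ev v → ζ v = 1 → v = 0 ∨ v = 1

/-- `g` permutes the labels by `σ` -/
def Acts (ζ : (ι → ZMod 2) → G) (g : G) (σ : Equiv.Perm ι) : Prop :=
  ∀ i j, g * zz ζ i j * g⁻¹ = zz ζ (σ i) (σ j)

/-- `M` is a perfect normal subgroup of `C(Fᵢⱼₖ)` containing `zᵢⱼ`, `zⱼₖ`, of type `L₃` modulo
its core. -/
structure Comp (ζ : (ι → ZMod 2) → G) (i j k : ι) (M : Subgroup G) : Prop where
  le : M ≤ CS (F3 ζ i j k)
  norm : CS (F3 ζ i j k) ≤ NS M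
  zij : zz ζ i j ∈ M
  zjk : zz ζ j k ∈ M
  perfect : ⁅M, M⁆ = M
  type : L3T (Lb M)

/-- The local data around the diagonal group `E`. -/
structure Frame (ζ : (ι → ZMod 2) → G) : Prop extends Lab ζ where
  comp : ∀ {i j k}, D3 i j k → ∃ M, Comp ζ i j k M
  wb : ∀ F A, Hyp F A → Hyp A (EE ζ) → (∀ i j k, D3 i j k → F ≠ F3 ζ i j k) →
    ⁅OC A, EE ζ⁆ ≤ OC F
  comm : ∀ {i j k l}, D4 i j k l → ⁅LF ζ i j, LF ζ k l⁆ ≤ OC (F2 ζ i j ⊓ F2 ζ k l)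
  perm : ∀ g ∈ NS (EE ζ), ∃ σ, Acts ζ g σ
  cl : ∀ {i j}, i ≠ j → ∀ y ∈ CS (EE ζ), IsConj (zz ζ i j) y → ∃ k l, k ≠ l ∧ y = zz ζ k l
  pair : ∀ {i j}, i ≠ j → ∀ y ∈ Cx (zz ζ i j), IsConj (zz ζ i j) y →
    ∃ g ∈ Cx (zz ζ i j), g * y * g⁻¹ ∈ EE ζ
  ab : ∀ P ≤ CS (EE ζ), IsPGroup 2 P → ∀ a ∈ P, ∀ b ∈ P, a * b = b * a
  nr : ∀ A, Hyp A (EE ζ) → (∀ i j, i ≠ j → A ≠ F2 ζ i j) → CS A ≤ OC A ⊔ CS (EE ζ)
  top : ∀ F ≤ EE ζ, ∀ M : Subgroup G, NS (EE ζ) ⊓ CS F ≤ M →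
    (∀ A, Hyp A (EE ζ) → F ≤ A → CS A ≤ M) → CS F ≤ M

/-- A frame in which `E` centralises the cores. -/
structure Post (ζ : (ι → ZMod 2) → G) : Prop extends Frame ζ where
  core : ∀ F ≤ EE ζ, OC F ≤ CS (EE ζ)

end CfsgLib.GHD
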