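import Mathlib
import Cfsg.Agent.Lib.GHD.Defs

/-! The combinatorics of the labelled group `E`. -/

set_option autoImplicit false

namespace CfsgLib.GHD

open Subgroup Cfsg CfsgLib.W2 CfsgLib.Tech CfsgLib.PComp CfsgLib.Abel2 CfsgLib.L3K

universe u

variable {G : Type u} [Group G]

theorem z2_cases (a : ZMod 2) : a = 0 ∨ a = 1 := by revert a; decide

theorem z2_add_self (a : ZMod 2) : a + a = 0 := by revert a; decide

namespace Hyp

variable {A E : Subgroup G}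

theorem mul_mem_iff (h : Hyp A E) {a b : G} (ha : a ∈ E) (hb : b ∈ E) :
    a * b ∈ A ↔ (a ∈ A ↔ b ∈ A) :=
  mul_mem_iff_of_index_two h.2 (a := ⟨a, ha⟩) (b := ⟨b, hb⟩)

theorem exists_not_mem (h : Hyp A E) : ∃ a ∈ E, a ∉ A := by
  by_contra! hn
  have := h.2
  rw [relIndex_eq_one.2 hn] at this
  omega

theorem mem_or (h : Hyp A E) {a b : G} (ha : a ∈ E) (hb : b ∈ E) (hn : b ∉ A) :
    a ∈ A ∨ a * b ∈ A := by
  rw [h.mul_mem_iff ha hb]
  tauto

theorem of_iff (h1 : A ≤ E) {b : G} (hb : b ∈ E) (hn : b ∉ A)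
    (h : ∀ a ∈ E, a ∉ A → a * b ∈ A) : Hyp A E := by
  refine ⟨h1, index_eq_two_iff.2 ⟨⟨b, hb⟩, fun a => ?_⟩⟩
  by_cases ha : (a : G) ∈ A
  · exact Or.inr ⟨ha, fun e => hn ((mul_mem_cancel_left ha).1 e)⟩
  · exact Or.inl ⟨h a a.2 ha, ha⟩

/-- a subgroup between a hyperplane and the whole group -/
theorem eq_or_eq (h : Hyp A E) {B : Subgroup G} (h1 : A ≤ B) (h2 : B ≤ E) : B = A ∨ B = E := by
  by_cases hb : B ≤ A
  · exact Or.inl (le_antisymm hb h1)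
  · obtain ⟨b, hb, hn⟩ := SetLike.not_le_iff_exists.1 hb
    refine Or.inr (le_antisymm h2 fun a ha => ?_)
    rcases h.mem_or ha (h2 hb) hn with e | e
    · exact h1 e
    · exact (mul_mem_cancel_right hb).1 (h1 e)

theorem eq_of_le (h : Hyp A E) {B : Subgroup G} (hB : Hyp B E) (h1 : A ≤ B) : B = A := by
  refine (h.eq_or_eq h1 hB.1).resolve_right fun e => ?_
  obtain ⟨a, ha, hn⟩ := hB.exists_not_mem
  exact hn (e ▸ ha)

theorem inf (h : Hyp A E) {B : Subgroup G} (hB : B ≤ E) (hn : ¬ B ≤ A) : Hyp (A ⊓ B) B := by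
  obtain ⟨b, hb, hn⟩ := SetLike.not_le_iff_exists.1 hn
  exact of_iff inf_le_right hb (fun e => hn e.1) fun a ha h1 =>
    ⟨(h.mem_or (hB ha) (hB hb) hn).resolve_left fun e => h1 ⟨e, ha⟩, mul_mem ha hb⟩

theorem sup_eq (h : Hyp A E) {b : G} (hb : b ∈ E) (hn : b ∉ A) : A ⊔ zpowers b = E :=
  (h.eq_or_eq le_sup_left (sup_le h.1 (zpowers_le.2 hb))).resolve_left fun e =>
    hn (e ▸ mem_sup_right (mem_zpowers b))

theorem cj (h : Hyp A E) (g : G) : Hyp (cj g A) (cj g E) :=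
  ⟨map_mono h.1, by rw [relIndex_map_map_of_injective _ _ (MulAut.conj g).injective, h.2]⟩

theorem cent_inf (h : Hyp A E) {b : G} (hb : b ∈ E) (hn : b ∉ A) : CS A ⊓ Cx b = CS E := by
  refine le_antisymm (fun c hc => mem_centralizer_iff.2 fun a ha => ?_)
    (le_inf (centralizer_le h.1) (centralizer_le (Set.singleton_subset_iff.2 hb)))
  have h1 := mem_Cx.1 hc.2
  rcases h.mem_or ha hb hn with e | e
  · exact mem_centralizer_iff.1 hc.1 a e
  · have h2 := mem_centralizer_iff.1 hc.1 _ e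
    rw [mul_assoc, ← h1, ← mul_assoc, ← mul_assoc] at h2
    exact mul_right_cancel h2

end Hyp

variable {ι : Type} [Fintype ι] [DecidableEq ι] {ζ : (ι → ZMod 2) → G} {i j k l : ι}
  {u v : ι → ZMod 2}

omit [DecidableEq ι] in
theorem Ev.zero : Ev (0 : ι → ZMod 2) := by simp [Ev]

omit [DecidableEq ι] in
theorem Ev.add (hu : Ev u) (hv : Ev v) : Ev (u + v) := by
  simp only [Ev, Pi.add_apply, Finset.sum_add_distrib] at *
  rw [hu, hv, add_zero]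

omit [DecidableEq ι] in
theorem Ev.comp (hv : Ev v) (σ : Equiv.Perm ι) : Ev (v ∘ σ) :=
  (Equiv.sum_comp σ v).trans hv

theorem ev_ee (i j : ι) : Ev (ee i j) := by
  simp only [Ev, ee, Pi.add_apply, Finset.sum_add_distrib, Finset.sum_pi_single', Finset.mem_univ,
    if_true]
  decide

omit [Fintype ι] [DecidableEq ι] in
theorem vadd_self (v : ι → ZMod 2) : v + v = 0 := funext fun i => z2_add_self (v i)

omit [Fintype ι] in
theorem ee_apply (i j m : ι) :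
    ee i j m = (if m = i then 1 else 0) + if m = j then 1 else 0 := by
  simp [ee, Pi.single_apply]

omit [Fintype ι] in
theorem ee_symm (i j : ι) : ee i j = ee j i := add_comm _ _

omit [Fintype ι] in
theorem ee_self (i : ι) : ee i i = 0 := vadd_self _

omit [Fintype ι] in
theorem ee_add (i j k : ι) : ee i j + ee j k = ee i k := by
  rw [ee, ee, add_assoc, ← add_assoc (Pi.single j 1), vadd_self, zero_add, ee]

omit [Fintype ι] in
theorem ee_left (h : i ≠ j) : ee i j i = 1 := by simp [ee_apply, h]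

omit [Fintype ι] in
theorem ee_right (h : i ≠ j) : ee i j j = 1 := by simp [ee_apply, h.symm]

omit [Fintype ι] in
theorem ee_of_ne (h1 : k ≠ i) (h2 : k ≠ j) : ee i j k = 0 := by simp [ee_apply, h1, h2]

omit [Fintype ι] in
theorem ee_comp (σ : Equiv.Perm ι) (i j : ι) : ee i j ∘ ⇑σ⁻¹ = ee (σ i) (σ j) := by
  funext m
  simp only [Function.comp, ee_apply, Equiv.Perm.inv_eq_iff_eq]

omit [Fintype ι] [DecidableEq ι] in
theorem D4.d3 (d : D4 i j k l) : D3 j k l := ⟨d.jk, d.jl, d.kl⟩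

omit [Fintype ι] [DecidableEq ι] in
theorem D4.symm (d : D4 i j k l) : D4 k l i j :=
  ⟨⟨d.kl, d.ik.symm, d.il.symm⟩, d.jk.symm, d.jl.symm, d.ij⟩

omit [Fintype ι] [DecidableEq ι] in
theorem D3.rot (d : D3 i j k) : D3 j k i := ⟨d.jk, d.ij.symm, d.ik.symm⟩

omit [Fintype ι] [DecidableEq ι] in
theorem D3.swap (d : D3 i j k) : D3 j i k := ⟨d.ij.symm, d.jk, d.ik⟩

/-- induction on even vectors -/
theorem Ev.induction {p : (ι → ZMod 2) → Prop} (h0 : p 0)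
    (h1 : ∀ v i j, Ev v → p v → p (v + ee i j)) (hv : Ev v) : p v := by
  induction hn : (Finset.univ.filter fun i => v i ≠ 0).card using Nat.strong_induction_on
    generalizing v with
  | _ n ih =>
  by_cases hz : v = 0
  · exact hz ▸ h0
  obtain ⟨i, hi⟩ : ∃ i, v i ≠ 0 := Function.ne_iff.1 hz
  obtain ⟨j, hj, hji⟩ : ∃ j, v j ≠ 0 ∧ j ≠ i := by
    by_contra! hc
    refine hi (Eq.trans (Finset.sum_eq_single i (fun b _ hb => ?_) (by simp)).symm hv)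
    by_contra h
    exact hb (hc b h)
  have e : v = v + ee i j + ee i j := by rw [add_assoc, vadd_self, add_zero]
  rw [e]
  refine h1 _ _ _ (hv.add (ev_ee i j)) (ih _ ?_ (hv.add (ev_ee i j)) rfl)
  rw [← hn]
  refine Finset.card_lt_card ⟨fun m hm => ?_, fun hs => ?_⟩
  · simp only [Finset.mem_filter, Finset.mem_univ, true_and, Pi.add_apply] at hm ⊢
    intro h0
    by_cases h2 : m = i
    · exact hi (h2 ▸ h0)
    by_cases h3 : m = j
    · exact hj (h3 ▸ h0)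
    exact hm (by rw [h0, ee_of_ne h2 h3, add_zero])
  · have := hs (Finset.mem_filter.2 ⟨Finset.mem_univ i, hi⟩)
    simp only [Finset.mem_filter, Finset.mem_univ, true_and, Pi.add_apply,
      ee_left hji.symm] at this
    exact this (by rw [(z2_cases (v i)).resolve_left hi]; decide)

omit [Group G] [Fintype ι] in
theorem zz_symm (ζ : (ι → ZMod 2) → G) (i j : ι) : zz ζ i j = zz ζ j i := by
  rw [zz, zz, ee_symm]

omit [DecidableEq ι] in
theorem F2_symm (ζ : (ι → ZMod 2) → G) (i j : ι) : F2 ζ i j = F2 ζ j i := by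
  simp only [F2, eq_comm]

omit [DecidableEq ι] in
theorem LF_symm (ζ : (ι → ZMod 2) → G) (i j : ι) : LF ζ i j = LF ζ j i := by
  rw [LF, LF, F2_symm]

omit [DecidableEq ι] in
theorem F2_self (ζ : (ι → ZMod 2) → G) (i : ι) : F2 ζ i i = EE ζ := by
  simp only [F2, EE, true_and]

omit [DecidableEq ι] in
theorem F2_le (ζ : (ι → ZMod 2) → G) (i j : ι) : F2 ζ i j ≤ EE ζ :=
  closure_mono fun _ ⟨v, h1, _, h2⟩ => ⟨v, h1, h2⟩

omit [DecidableEq ι] in
theorem mem_E (hv : Ev v) : ζ v ∈ EE ζ := subset_closure ⟨v, hv, rfl⟩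

theorem zz_mem (ζ : (ι → ZMod 2) → G) (i j : ι) : zz ζ i j ∈ EE ζ := mem_E (ev_ee i j)

omit [Fintype ι] in
theorem Acts.one : Acts ζ 1 1 := fun _ _ => by simp

omit [Fintype ι] in
theorem Acts.mul {g g' : G} {σ σ' : Equiv.Perm ι} (h : Acts ζ g σ) (h' : Acts ζ g' σ') :
    Acts ζ (g * g') (σ * σ') := fun i j => by
  rw [Equiv.Perm.mul_apply, Equiv.Perm.mul_apply, ← h, ← h']
  group

omit [Fintype ι] in
theorem Acts.inv {g : G} {σ : Equiv.Perm ι} (h : Acts ζ g σ) : Acts ζ g⁻¹ σ⁻¹ := fun i j => by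
  have := h (σ⁻¹ i) (σ⁻¹ j)
  simp only [Equiv.Perm.coe_inv, Equiv.apply_symm_apply] at this ⊢
  rw [← this]
  group

namespace Lab

variable (h : Lab ζ)
include h

omit [DecidableEq ι] in
theorem zero : ζ 0 = 1 := by
  have := h.mul 0 0 Ev.zero Ev.zero
  rw [add_zero] at this
  exact left_eq_mul.1 this

omit [DecidableEq ι] in
theorem sq (hv : Ev v) : ζ v * ζ v = 1 := by rw [← h.mul v v hv hv, vadd_self, h.zero]

omit [DecidableEq ι] in
theorem inv (hv : Ev v) : (ζ v)⁻¹ = ζ v := inv_eq_of_mul_eq_one_right (h.sq hv)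

omit [DecidableEq ι] in
theorem mem_closure_iff {p : (ι → ZMod 2) → Prop} (h0 : p 0)
    (h1 : ∀ u v, p u → p v → p (u + v)) {g : G} :
    g ∈ closure {g | ∃ v, (Ev v ∧ p v) ∧ ζ v = g} ↔ ∃ v, (Ev v ∧ p v) ∧ ζ v = g := by
  refine ⟨fun hg => ?_, fun hg => subset_closure hg⟩
  induction hg using closure_induction with
  | mem x hx => exact hx
  | one => exact ⟨0, ⟨Ev.zero, h0⟩, h.zero⟩
  | mul x y _ _ hx hy =>
    obtain ⟨u, hu, rfl⟩ := hx
    obtain ⟨v, hv, rfl⟩ := hy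
    exact ⟨u + v, ⟨hu.1.add hv.1, h1 _ _ hu.2 hv.2⟩, h.mul _ _ hu.1 hv.1⟩
  | inv x _ hx =>
    obtain ⟨u, hu, rfl⟩ := hx
    exact ⟨u, hu, (h.inv hu.1).symm⟩

omit [DecidableEq ι] in
theorem mem_E_iff {g : G} : g ∈ EE ζ ↔ ∃ v, Ev v ∧ ζ v = g := by
  simpa only [and_true, EE] using
    h.mem_closure_iff (p := fun _ => True) trivial (fun _ _ _ _ => trivial) (g := g)

omit [DecidableEq ι] in
theorem mem_F2_iff {g : G} : g ∈ F2 ζ i j ↔ ∃ v, Ev v ∧ v i = v j ∧ ζ v = g := by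
  simpa only [and_assoc, F2] using h.mem_closure_iff (p := fun v => v i = v j) rfl
    (fun u v hu hv => by rw [Pi.add_apply, Pi.add_apply, hu, hv]) (g := g)

omit [DecidableEq ι] in
theorem eq_iff (hu : Ev u) (hv : Ev v) (e : ζ u = ζ v) : u = v ∨ u = v + 1 := by
  have h1 : ζ (u + v) = 1 := by rw [h.mul _ _ hu hv, e, h.sq hv]
  have h2 : u = v + (u + v) := by rw [add_comm u, ← add_assoc, vadd_self, zero_add]
  rcases h.ker _ (hu.add hv) h1 with h3 | h3 <;> rw [h3] at h2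
  · exact Or.inl (h2.trans (add_zero _))
  · exact Or.inr h2

omit [DecidableEq ι] in
theorem mem_F2 (hv : Ev v) : ζ v ∈ F2 ζ i j ↔ v i = v j := by
  rw [h.mem_F2_iff]
  refine ⟨?_, fun e => ⟨v, hv, e, rfl⟩⟩
  rintro ⟨u, hu, e, e'⟩
  rcases h.eq_iff hu hv e' with rfl | rfl
  · exact e
  · exact add_right_cancel e

omit [DecidableEq ι] in
theorem E_sq {g : G} (hg : g ∈ EE ζ) : g * g = 1 := by
  obtain ⟨v, hv, rfl⟩ := h.mem_E_iff.1 hg
  exact h.sq hv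

omit [DecidableEq ι] in
theorem E_comm {a b : G} (ha : a ∈ EE ζ) (hb : b ∈ EE ζ) : a * b = b * a := by
  obtain ⟨u, hu, rfl⟩ := h.mem_E_iff.1 ha
  obtain ⟨v, hv, rfl⟩ := h.mem_E_iff.1 hb
  rw [← h.mul _ _ hu hv, ← h.mul _ _ hv hu, add_comm]

omit [DecidableEq ι] in
theorem E_le_CS {A : Subgroup G} (hA : A ≤ EE ζ) : EE ζ ≤ CS A := fun _ hb =>
  mem_centralizer_iff.2 fun _ ha => h.E_comm (hA ha) hb

omit [DecidableEq ι] in
theorem E_two : IsPGroup 2 (EE ζ) := fun g =>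
  ⟨1, Subtype.ext (by rw [pow_one, _root_.sq]; exact h.E_sq g.2)⟩

omit [DecidableEq ι] in
theorem E_elem : IsElementaryAbelian 2 (EE ζ) :=
  ⟨⟨⟨fun a b => Subtype.ext (h.E_comm a.2 b.2)⟩⟩, fun a ha => by rw [_root_.sq, h.E_sq ha]⟩

theorem zz_self (i : ι) : zz ζ i i = 1 := by rw [zz, ee_self, h.zero]

theorem zz_mul (i j k : ι) : zz ζ i j * zz ζ j k = zz ζ i k := by
  rw [zz, zz, ← h.mul _ _ (ev_ee _ _) (ev_ee _ _), ee_add, zz]

theorem zz_sq (i j : ι) : zz ζ i j * zz ζ i j = 1 := h.E_sq (zz_mem ζ i j)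

theorem zz_inv (i j : ι) : (zz ζ i j)⁻¹ = zz ζ i j := inv_eq_of_mul_eq_one_right (h.zz_sq i j)

theorem zz_comm (i j k l : ι) : zz ζ i j * zz ζ k l = zz ζ k l * zz ζ i j :=
  h.E_comm (zz_mem ζ i j) (zz_mem ζ k l)

omit [Group G] h in
theorem exists_ne (h5 : 5 ≤ Fintype.card ι) (i j k l : ι) :
    ∃ m, m ≠ i ∧ m ≠ j ∧ m ≠ k ∧ m ≠ l := by
  by_contra! hn
  have h1 : (Finset.univ : Finset ι) ⊆ {i, j, k, l} := fun m _ => by
    simp only [Finset.mem_insert, Finset.mem_singleton]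
    by_contra! hc
    exact hc.2.2.2 (hn m hc.1 hc.2.1 hc.2.2.1)
  have h2 := Finset.card_le_card h1
  have h3 : ({i, j, k, l} : Finset ι).card ≤ 4 := Finset.card_le_four
  rw [Finset.card_univ] at h2
  omega

theorem fresh (i j k l : ι) : ∃ m, m ≠ i ∧ m ≠ j ∧ m ≠ k ∧ m ≠ l := exists_ne h.five i j k l

theorem exists_d3 (d : i ≠ j) : ∃ k, D3 i j k := by
  obtain ⟨m, h1, h2, -⟩ := h.fresh i j i j
  exact ⟨m, d, h1.symm, h2.symm⟩

theorem exists_d4 (d : D3 i j k) : ∃ l, D4 i j k l := by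
  obtain ⟨m, h1, h2, h3, -⟩ := h.fresh i j k k
  exact ⟨m, d, h1.symm, h2.symm, h3.symm⟩

theorem zz_mem_F2 {a b : ι} : zz ζ a b ∈ F2 ζ i j ↔ ee a b i = ee a b j := h.mem_F2 (ev_ee a b)

theorem zz_mem_self (i j : ι) : zz ζ i j ∈ F2 ζ i j := by
  by_cases e : i = j
  · rw [e, h.zz_self]; exact one_mem _
  · rw [h.zz_mem_F2, ee_left e, ee_right e]

theorem zz_mem_of_d4 (d : D4 i j k l) : zz ζ k l ∈ F2 ζ i j := by
  rw [h.zz_mem_F2, ee_of_ne d.ik d.il, ee_of_ne d.jk d.jl]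

theorem zz_not_mem (d : D3 i j k) : zz ζ j k ∉ F2 ζ i j := by
  rw [h.zz_mem_F2, ee_of_ne d.ij d.ik, ee_left d.jk]
  decide

theorem zz_not_mem' (d : D3 i j k) : zz ζ i k ∉ F2 ζ i j := by
  rw [F2_symm]
  exact h.zz_not_mem d.swap

theorem zz_ne_one (d : i ≠ j) : zz ζ i j ≠ 1 := fun e => by
  obtain ⟨k, d⟩ := h.exists_d3 d
  exact h.zz_not_mem d.rot.rot (e ▸ one_mem _)

theorem zz_ord (d : i ≠ j) : orderOf (zz ζ i j) = 2 :=
  orderOf_eq_prime (by rw [_root_.sq, h.zz_sq]) (h.zz_ne_one d)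

theorem zz_inj (d : i ≠ j) (e : zz ζ i j = zz ζ k l) : i = k ∧ j = l ∨ i = l ∧ j = k := by
  rcases h.eq_iff (ev_ee _ _) (ev_ee _ _) e with e | e
  · have h1 := congrFun e i
    have h2 := congrFun e j
    rw [ee_left d] at h1
    rw [ee_right d] at h2
    by_cases a : i = k
    · refine Or.inl ⟨a, by_contra fun b => ?_⟩
      rw [ee_of_ne (a ▸ d.symm) b] at h2
      exact absurd h2 (by decide)
    by_cases b : i = l
    · refine Or.inr ⟨b, by_contra fun c => ?_⟩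
      rw [ee_of_ne c (b ▸ d.symm)] at h2
      exact absurd h2 (by decide)
    rw [ee_of_ne a b] at h1
    exact absurd h1 (by decide)
  · obtain ⟨m, h1, h2, h3, h4⟩ := h.fresh i j k l
    have := congrFun e m
    rw [Pi.add_apply, ee_of_ne h1 h2, ee_of_ne h3 h4, Pi.one_apply] at this
    exact absurd this (by decide)

theorem hyp_F2 (d : i ≠ j) : Hyp (F2 ζ i j) (EE ζ) := by
  obtain ⟨k, d⟩ := h.exists_d3 d
  refine Hyp.of_iff (F2_le ζ i j) (zz_mem ζ j k) (h.zz_not_mem d) fun a ha hn => ?_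
  obtain ⟨v, hv, rfl⟩ := h.mem_E_iff.1 ha
  rw [h.mem_F2 hv] at hn
  rw [zz, ← h.mul _ _ hv (ev_ee _ _), h.mem_F2 (hv.add (ev_ee _ _)), Pi.add_apply, Pi.add_apply,
    ee_of_ne d.ij d.ik, ee_left d.jk]
  revert hn
  generalize v i = x, v j = y
  revert x y
  decide

omit [DecidableEq ι] in
theorem F3_le (i j k : ι) : F3 ζ i j k ≤ F2 ζ i k := fun g hg => by
  obtain ⟨v, hv, rfl⟩ := h.mem_E_iff.1 (F2_le ζ i j hg.1)
  exact (h.mem_F2 hv).2 (((h.mem_F2 hv).1 hg.1).trans ((h.mem_F2 hv).1 hg.2))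

omit [DecidableEq ι] in
theorem F3_rot (i j k : ι) : F3 ζ i j k = F3 ζ j k i :=
  le_antisymm (le_inf inf_le_right (F2_symm ζ i k ▸ h.F3_le i j k))
    (le_inf (F2_symm ζ j i ▸ h.F3_le j k i) inf_le_left)

omit [DecidableEq ι] in
theorem F3_swap (i j k : ι) : F3 ζ i j k = F3 ζ j i k :=
  le_antisymm (le_inf (F2_symm ζ i j ▸ inf_le_left) (h.F3_le i j k))
    (le_inf (F2_symm ζ j i ▸ inf_le_left) (h.F3_le j i k))

theorem hyp_F3 (d : D3 i j k) : Hyp (F3 ζ i j k) (F2 ζ i j) := by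
  rw [F3, inf_comm]
  refine (h.hyp_F2 d.jk).inf (F2_le ζ i j) fun e => ?_
  exact h.zz_not_mem' d.rot (zz_symm ζ i j ▸ e (h.zz_mem_self i j))

theorem zz_not_mem_F3 (d : D3 i j k) : zz ζ i j ∉ F3 ζ i j k := fun e =>
  h.zz_not_mem' d.rot (zz_symm ζ i j ▸ e.2)

theorem cent_F2 (d : D3 i j k) : CS (F3 ζ i j k) ⊓ Cx (zz ζ i j) = CS (F2 ζ i j) :=
  (h.hyp_F3 d).cent_inf (h.zz_mem_self i j) (h.zz_not_mem_F3 d)

theorem cent_E (d : D3 i j k) : CS (F2 ζ i j) ⊓ Cx (zz ζ j k) = CS (EE ζ) :=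
  (h.hyp_F2 d.ij).cent_inf (zz_mem ζ j k) (h.zz_not_mem d)

/-- the three hyperplanes above `Fᵢⱼₖ` -/
theorem hyp_cases (d : D3 i j k) {A : Subgroup G} (hA : Hyp A (EE ζ)) (h1 : F3 ζ i j k ≤ A) :
    A = F2 ζ i j ∨ A = F2 ζ j k ∨ A = F2 ζ i k := by
  have key : ∀ {i j k : ι}, D3 i j k → F3 ζ i j k ≤ A → zz ζ i j ∈ A → A = F2 ζ i j :=
    fun d h1 hz => (h.hyp_F2 d.ij).eq_of_le hA (by
      rw [← (h.hyp_F3 d).sup_eq (h.zz_mem_self _ _) (h.zz_not_mem_F3 d)]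
      exact sup_le h1 (zpowers_le.2 hz))
  by_cases a : zz ζ i j ∈ A
  · exact Or.inl (key d h1 a)
  by_cases b : zz ζ j k ∈ A
  · exact Or.inr (Or.inl (key d.rot (h.F3_rot i j k ▸ h1) b))
  have c : zz ζ k i ∈ A := by
    rw [zz_symm, ← h.zz_mul i j k, hA.mul_mem_iff (zz_mem ζ _ _) (zz_mem ζ _ _)]
    exact iff_of_false a b
  exact Or.inr (Or.inr (F2_symm ζ k i ▸
    key d.rot.rot (h.F3_rot j k i ▸ h.F3_rot i j k ▸ h1) c))

theorem F2_inj (d : i ≠ j) (e : F2 ζ i j = F2 ζ k l) : i = k ∧ j = l ∨ i = l ∧ j = k := by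
  have key : ∀ {i j k l : ι}, i ≠ j → F2 ζ i j = F2 ζ k l → j = k ∨ j = l := by
    intro i j k l d e
    by_contra! hn
    obtain ⟨m, h1, h2, h3, h4⟩ := h.fresh i j k l
    refine h.zz_not_mem ⟨d, h1.symm, h2.symm⟩ (e ▸ h.zz_mem_F2.2 ?_)
    rw [ee_of_ne hn.1.symm h3.symm, ee_of_ne hn.2.symm h4.symm]
  have h1 := key d e
  have h2 := key d.symm (F2_symm ζ i j ▸ e)
  rcases h1 with rfl | rfl <;> rcases h2 with rfl | rfl <;> simp_all

/-- hyperplanes are kernels of linear forms -/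
theorem exists_form {A : Subgroup G} (hA : Hyp A (EE ζ)) :
    ∃ c : ι → ZMod 2, ∀ v, Ev v → (ζ v ∈ A ↔ ∑ i, c i * v i = 0) := by
  classical
  obtain ⟨o⟩ : Nonempty ι := Fintype.card_pos_iff.1 (by have := h.five; omega)
  refine ⟨fun i => if zz ζ o i ∈ A then 0 else 1, fun v hv => ?_⟩
  refine hv.induction (p := fun v => ζ v ∈ A ↔ ∑ i, (if zz ζ o i ∈ A then 0 else 1) * v i = 0)
    (by simp [h.zero]) fun v i j hv ih => ?_
  have e : ζ (ee i j) = zz ζ o i * zz ζ o j := by rw [zz_symm ζ o i, h.zz_mul, zz]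
  rw [h.mul _ _ hv (ev_ee _ _), hA.mul_mem_iff (mem_E hv) (mem_E (ev_ee _ _)), ih, e,
    hA.mul_mem_iff (zz_mem ζ _ _) (zz_mem ζ _ _)]
  simp only [Pi.add_apply, mul_add, Finset.sum_add_distrib, ee, Pi.single_apply, mul_ite, mul_one,
    mul_zero, Finset.sum_ite_eq', Finset.mem_univ, if_true]
  generalize ∑ i, (if zz ζ o i ∈ A then (0 : ZMod 2) else 1) * v i = x
  by_cases a : zz ζ o i ∈ A <;> by_cases b : zz ζ o j ∈ A <;> simp only [a, b] <;> revert x <;>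
    decide

theorem E_le {K : Subgroup G} (hK : ∀ i j, zz ζ i j ∈ K) : EE ζ ≤ K := fun g hg => by
  obtain ⟨v, hv, rfl⟩ := h.mem_E_iff.1 hg
  exact hv.induction (p := fun v => ζ v ∈ K) (h.zero ▸ one_mem K) fun v i j hv ih =>
    h.mul _ _ hv (ev_ee i j) ▸ mul_mem ih (hK i j)

variable {g : G} {σ : Equiv.Perm ι}

theorem acts_apply (a : Acts ζ g σ) (hv : Ev v) : g * ζ v * g⁻¹ = ζ (v ∘ ⇑σ⁻¹) := by
  refine hv.induction (p := fun v => g * ζ v * g⁻¹ = ζ (v ∘ ⇑σ⁻¹)) ?_ fun v i j hv ih => ?_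
  · rw [show (0 : ι → ZMod 2) ∘ ⇑σ⁻¹ = 0 from rfl, h.zero, mul_one, mul_inv_cancel]
  · rw [h.mul _ _ hv (ev_ee _ _), show (v + ee i j) ∘ ⇑σ⁻¹ = v ∘ ⇑σ⁻¹ + ee i j ∘ ⇑σ⁻¹ from rfl,
      h.mul _ _ (hv.comp _) ((ev_ee _ _).comp _), ← ih, ee_comp, ← conj_mul]
    exact congrArg _ (a i j)

theorem cj_F2 (a : Acts ζ g σ) (i j : ι) : cj g (F2 ζ i j) = F2 ζ (σ i) (σ j) := by
  have key : ∀ {g : G} {σ : Equiv.Perm ι} {i j : ι} {x : G}, Acts ζ g σ → x ∈ F2 ζ i j →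
      g * x * g⁻¹ ∈ F2 ζ (σ i) (σ j) := by
    intro g σ i j x a hx
    obtain ⟨v, hv, e, rfl⟩ := h.mem_F2_iff.1 hx
    rw [h.acts_apply a hv, h.mem_F2 (hv.comp _)]
    simpa using e
  ext x
  rw [mem_cj]
  refine ⟨fun hx => by simpa [mul_assoc] using key a hx, fun hx => by simpa using key a.inv hx⟩

theorem cj_E (a : Acts ζ g σ) : cj g (EE ζ) = EE ζ := by
  obtain ⟨o⟩ : Nonempty ι := Fintype.card_pos_iff.1 (by have := h.five; omega)
  rw [← F2_self ζ o, h.cj_F2 a, F2_self, F2_self]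

theorem acts_mem (a : Acts ζ g σ) : g ∈ NS (EE ζ) := mem_normalizer_iff_cj.2 (h.cj_E a)

theorem cj_LF (a : Acts ζ g σ) (i j : ι) : cj g (LF ζ i j) = LF ζ (σ i) (σ j) := by
  rw [LF, cj, map_commutator, ← cj, ← cj, cj_centralizer, h.cj_F2 a, h.cj_E a, LF]

theorem cj_MF (a : Acts ζ g σ) (i j k : ι) : cj g (MF ζ i j k) = MF ζ (σ i) (σ j) (σ k) := by
  rw [MF, cj, Subgroup.map_sup, ← cj, ← cj, h.cj_LF a, h.cj_LF a]

theorem cj_F3 (a : Acts ζ g σ) (i j k : ι) : cj g (F3 ζ i j k) = F3 ζ (σ i) (σ j) (σ k) := by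
  rw [F3, cj, map_inf _ _ _ (MulAut.conj g).injective, ← cj, ← cj, h.cj_F2 a, h.cj_F2 a]

omit h in
theorem acts_one (hg : g ∈ CS (EE ζ)) : Acts ζ g 1 := fun i j => by
  rw [mul_inv_eq_iff_eq_mul]
  exact (mem_centralizer_iff.1 hg _ (zz_mem ζ i j)).symm

theorem mem_CS_of_acts (a : Acts ζ g 1) : g ∈ CS (EE ζ) :=
  mem_centralizer_iff.2 fun _ hx => mem_Cx.1
    (h.E_le (K := Cx g) (fun i j => mem_Cx.2 (mul_inv_eq_iff_eq_mul.1 (a i j)).symm) hx)

omit [DecidableEq ι] in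
theorem LF_le (i j : ι) : LF ζ i j ≤ CS (F2 ζ i j) := by
  rw [LF, commutator_le]
  intro c hc x hx
  have h1 := h.E_le_CS (F2_le ζ i j) hx
  exact mul_mem (mul_mem (mul_mem hc h1) (inv_mem hc)) (inv_mem h1)

omit [DecidableEq ι] h in
theorem le_NS_LF (i j : ι) : CS (F2 ζ i j) ≤ NS (LF ζ i j) := normalizer_commutator_ge_left _ _

omit [DecidableEq ι] h in
theorem CE_le_NS_LF (i j : ι) : CS (EE ζ) ≤ NS (LF ζ i j) :=
  (centralizer_le (F2_le ζ i j)).trans (le_NS_LF i j)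

end Lab

end CfsgLib.GHD
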