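import Mathlib
import Cfsg.Agent.Lib.GHD.Lab
import Cfsg.Agent.Lib.L3K.Kd

/-! The canonical subgroups `Mᵢⱼₖ = [C(Fᵢⱼₖ), E]` and `Lᵢⱼ`. -/

set_option autoImplicit false

namespace CfsgLib.GHD

open Subgroup Cfsg CfsgLib.W2 CfsgLib.Tech CfsgLib.PComp CfsgLib.Abel2 CfsgLib.L3K
open scoped MatrixGroups

universe u

variable {G : Type u} [Group G] {ι : Type} [Fintype ι] [DecidableEq ι]

/-- `Mᵢⱼₖ = [C(Fᵢⱼₖ), E]` -/
def MG (ζ : (ι → ZMod 2) → G) (i j k : ι) : Subgroup G := ⁅CS (F3 ζ i j k), EE ζ⁆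

/-- `Lᵢⱼ`, the derived group of the centraliser of `zᵢⱼ` in `Mᵢⱼₖ` (any `k`) -/
def LG (ζ : (ι → ZMod 2) → G) (i j : ι) : Subgroup G :=
  ⨆ (k : ι) (_ : D3 i j k), LD (MG ζ i j k) (zz ζ i j)

variable {ζ : (ι → ZMod 2) → G} {g : G} {σ : Equiv.Perm ι}

omit [Fintype ι] [DecidableEq ι] in
theorem D3.perm {i j k : ι} (σ : Equiv.Perm ι) : D3 (σ i) (σ j) (σ k) ↔ D3 i j k :=
  ⟨fun d => ⟨fun e => d.ij (e ▸ rfl), fun e => d.ik (e ▸ rfl), fun e => d.jk (e ▸ rfl)⟩,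
    fun d => ⟨σ.injective.ne d.ij, σ.injective.ne d.ik, σ.injective.ne d.jk⟩⟩

namespace Lab

variable (h : Lab ζ)
include h

omit [DecidableEq ι] in
theorem MG_rot (i j k : ι) : MG ζ i j k = MG ζ j k i := by rw [MG, h.F3_rot, MG]

omit [DecidableEq ι] in
theorem MG_swap (i j k : ι) : MG ζ i j k = MG ζ j i k := by rw [MG, h.F3_swap, MG]

theorem LG_symm (i j : ι) : LG ζ i j = LG ζ j i := by
  have key : ∀ i j, LG ζ i j ≤ LG ζ j i := fun i j => iSup₂_le fun k d =>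
    le_iSup₂_of_le k d.swap (by rw [h.MG_swap, zz_symm])
  exact le_antisymm (key i j) (key j i)

theorem cj_MG (a : Acts ζ g σ) (i j k : ι) : cj g (MG ζ i j k) = MG ζ (σ i) (σ j) (σ k) := by
  rw [MG, cj, map_commutator, ← cj, ← cj, cj_centralizer, h.cj_F3 a, h.cj_E a, MG]

theorem cj_LG (a : Acts ζ g σ) (i j : ι) : cj g (LG ζ i j) = LG ζ (σ i) (σ j) := by
  rw [LG, LG, cj, Subgroup.map_iSup]
  refine σ.iSup_congr fun k => Eq.symm ?_
  rw [Subgroup.map_iSup, ← cj, cj_LD, h.cj_MG a, a]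
  exact iSup_congr_Prop (D3.perm σ).symm fun _ => rfl

omit [DecidableEq ι] in
theorem MG_le (i j k : ι) : MG ζ i j k ≤ CS (F3 ζ i j k) :=
  le_normalizer_iff_commutator_le_left.1
    ((h.E_le_CS (inf_le_left.trans (F2_le ζ i j))).trans le_normalizer)

omit [DecidableEq ι] h in
theorem le_NS_MG (i j k : ι) : CS (F3 ζ i j k) ≤ NS (MG ζ i j k) :=
  normalizer_commutator_ge_left _ _

theorem LG_le (i j : ι) : LG ζ i j ≤ CS (F2 ζ i j) := iSup₂_le fun k d =>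
  (LD_le _ _).trans ((inf_le_inf_right _ (h.MG_le i j k)).trans (h.cent_F2 d).le)

theorem le_NS_LG (i j : ι) : CS (F2 ζ i j) ≤ NS (LG ζ i j) := fun c hc => by
  rw [mem_normalizer_iff_cj, LG, cj, Subgroup.map_iSup]
  refine iSup_congr fun k => ?_
  rw [Subgroup.map_iSup]
  refine iSup_congr fun d => mem_normalizer_iff_cj.1 ?_
  rw [← h.cent_F2 d] at hc
  exact mem_normalizer_LD (le_NS_MG i j k hc.1) hc.2

theorem CE_le_NS_LG (i j : ι) : CS (EE ζ) ≤ NS (LG ζ i j) :=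
  (centralizer_le (F2_le ζ i j)).trans (h.le_NS_LG i j)

end Lab

end CfsgLib.GHD
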