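import Mathlib
import Cfsg.Prelude.Def_CaseTheorems
import Cfsg.Agent.Lib.GHD.Defs2

/-! Vocabulary for Sylow 2-subgroups `W ≀ C₂`, `W` quasi-dihedral or wreathed.  See part 2 of
`plans/GHD.md`. -/

set_option autoImplicit false

namespace CfsgLib.GHD

open Subgroup Cfsg CfsgLib.W2 CfsgLib.Tech CfsgLib.PComp CfsgLib.Abel2 CfsgLib.L3K CfsgLib.GHA

universe u

variable {G : Type u} [Group G] {W : Type*} [Group W]

/-- `y` is a non-central involution, `w` being the central one -/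
structure Nc (w y : W) : Prop where
  sq : y * y = 1
  ne_one : y ≠ 1
  ne : y ≠ w

/-- The facts on a Sylow 2-subgroup `W` of `GL₂(q)` used for both types: `w = -1`,
`u = diag(1, -1)`, `b` and `i` are elements of order 4 of `SL₂(q)`, `i` in the Frattini
subgroup. -/
structure WD (w u b i : W) : Prop where
  two : IsPGroup 2 W
  type : IsQuasiDihedral W ∨ IsWreathed W
  ww : w * w = 1
  w_ne : w ≠ 1
  w_comm : ∀ x, x * w = w * x
  w_der : w ∈ commutator W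
  w_four : ∃ v : W, v ^ 4 = w
  z_inv : ∀ x ∈ center W, x * x = 1 → x = 1 ∨ x = w
  z_phi : ∀ f : W →* Multiplicative (ZMod 2), ∀ x ∈ center W, f x = 1
  nc : Nc w u
  sw : ∃ n : W, n * u * n⁻¹ = u * w
  four : ∀ {x y : W}, Nc w x → Nc w y → x * y = y * x → y = x ∨ y = x * w
  cab : ∀ {y : W}, Nc w y → ∀ p ∈ Cx y, ∀ q ∈ Cx y, p * q = q * p
  cmax : ∀ {y : W}, Nc w y → Nat.card (Cx y) ≤ Nat.card (Cx u)
  i_nc : i ∉ center W
  i_comm : ∀ x, i * x * i⁻¹ = x ∨ i * x * i⁻¹ = x * w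
  i_phi : ∀ f : W →* Multiplicative (ZMod 2), f i = 1
  alt : (∀ v : W, ¬ Nc w (v * v)) ∨
    ∀ R : Subgroup W, R.index = 2 → (∀ p ∈ R, ∀ q ∈ R, p * q = q * p) → u ∈ R
  nu : ∃ φ : W →* W, (∀ g, φ g ∈ center W) ∧ φ u = w
  gen : ∃ (N : ℕ) (y : W), y ^ N = u ∧ ∀ f : W →* Multiplicative (ZMod 2), f b = 1 →
    (∀ x : W, x ^ N = w → f x = 1) ∧ (f y = 1 → f = 1)

/-- `ψ` embeds `W × W`, the involution `τ` interchanges the factors and `⟨ψ(W × W), τ⟩` is a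
Sylow 2-subgroup. -/
structure Syl5 (ψ : W × W →* G) (τ : G) : Prop where
  inj : Function.Injective ψ
  tt : τ * τ = 1
  swap : ∀ a b, τ * ψ (a, b) * τ⁻¹ = ψ (b, a)
  syl : IsSylowIn 2 (Sw ψ τ) ⊤

/-- `ψ (1, u)` is conjugate to `ψ (1, w)` in `C(ψ (w, 1))` -/
def Fu (ψ : W × W →* G) (w u : W) : Prop :=
  ∃ g ∈ Cx (ψ (w, 1)), g * ψ (1, u) * g⁻¹ = ψ (1, w)

/-- `ψ (B × B)` -/
abbrev A4 (ψ : W × W →* G) (B : Subgroup W) : Subgroup G := (B.prod B).map ψ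

/-- The fusion in `H = C(ψ (w, 1))`. -/
structure Fus (ψ : W × W →* G) (w u b i : W) (Q : Subgroup (W × W)) : Prop where
  sc : ∀ g ∈ Cx (ψ (w, 1)), ∀ p ∈ Q, ∀ p', g * ψ p * g⁻¹ = ψ p' → p' ∈ Q
  cent : ∀ p : W × W, p ∈ centralizer (Q : Set (W × W)) ↔ p.1 ∈ center W
  fu : Fu ψ w u
  fj : ∃ g ∈ Cx (ψ (w, 1)), ∃ c ∈ center W, ∃ c' ∈ center W, g * ψ (c, b) * g⁻¹ = ψ (c', i)

/-- The component `M` of type `L₃` of `H = C(ψ (w, 1))`, with Sylow 2-subgroup `1 × W`. -/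
structure Loc5 (ψ : W × W →* G) (τ : G) (w : W) (M : Subgroup G) : Prop extends Syl5 ψ τ where
  le : M ≤ Cx (ψ (w, 1))
  norm : Cx (ψ (w, 1)) ≤ NS M
  core : Oc (ψ (w, 1)) ≤ M
  mem : ∀ p, ψ p ∈ M ↔ p.1 = 1
  type : L3T (Lb M)

/-- `Loc5` together with the action of the first factor on `M`. -/
structure Loc6 (ψ : W × W →* G) (τ : G) (w : W) (M : Subgroup G) : Prop
    extends Loc5 ψ τ w M where
  px : ∀ {y : W}, Nc w y → ψ (y, w) ∈ cbar M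

/-- the labelling of `⟨w, u⟩ × ⟨w, u⟩` -/
def ζ5 (ψ : W × W →* G) (w u : W) (v : Fin 5 → ZMod 2) : G :=
  ψ (u ^ (v 0).val * (u * w) ^ (v 1).val, u ^ (v 2).val * (u * w) ^ (v 3).val)

/-- the involution with four eigenvalues `-1` and the eigenvalue `1` at `k` -/
def aa (ζ : (Fin 5 → ZMod 2) → G) (k : Fin 5) : G := ζ (1 + Pi.single k 1)

end CfsgLib.GHD
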