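import Mathlib
import Cfsg.Agent.Lib.GHD.Five
import Cfsg.Agent.Lib.Transfer.Thompson
import Cfsg.Agent.Lib.GHA.SigB
import Cfsg.Agent.Lib.Core.Frattini

/-! Calculus in `W ≀ C₂` and the first fusion facts (package BASE of `plans/GHD.md`). -/

set_option autoImplicit false
set_option linter.unusedSectionVars false

namespace CfsgLib.GHD

open Subgroup Cfsg CfsgLib.W2 CfsgLib.Tech CfsgLib.PComp CfsgLib.Abel2 CfsgLib.L3K CfsgLib.GHA

universe u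

variable {G : Type u} [Group G] {W : Type*} [Group W]

/-- The normaliser of a weakly closed subgroup `A` controls fusion in `C(A)`. -/
theorem exists_ctrl [Finite G] {S K A : Subgroup G} (hS : IsSylowIn 2 S K) (hA : A ≤ S)
    (wc : ∀ k ∈ K, cj k A ≤ S → k ∈ NS A) {X : Set G} {g : G} (hg : g ∈ K)
    (h1 : ∀ x ∈ X, x ∈ CS A) (h2 : ∀ x ∈ X, g * x * g⁻¹ ∈ CS A) :
    ∃ n ∈ K, n ∈ NS A ∧ ∀ x ∈ X, n * x * n⁻¹ = g * x * g⁻¹ := by
  let Y : Set G := (fun x => g * x * g⁻¹) '' X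
  have hA0 : A ≤ K ⊓ centralizer Y := fun a ha => ⟨hS.le (hA ha), by
    rintro _ ⟨x, hx, rfl⟩
    exact (h2 x hx a ha).symm⟩
  have hA1 : cj g A ≤ K ⊓ centralizer Y := cj_le_iff.2 fun a ha =>
    ⟨K.mul_mem (mul_mem hg (hS.le (hA ha))) (inv_mem hg), by
      rintro _ ⟨x, hx, rfl⟩
      rw [conj_mul, conj_mul, h1 x hx a ha]⟩
  obtain ⟨P, hP, hAP⟩ := exists_isSylowIn_ge (hS.pgroup.to_le hA) hA0
  obtain ⟨c, hc, h3⟩ := hP.exists_cj_le (isPGroup_cj g (hS.pgroup.to_le hA)) hA1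
  obtain ⟨k, hk, h4⟩ := hS.exists_cj_le hP.pgroup (hP.le.trans inf_le_left)
  have h5 := wc k hk ((cj_mono k hAP).trans h4)
  have h6 := wc (k * (c * g)) (mul_mem hk (mul_mem hc.1 hg))
    (by rw [cj_mul, cj_mul]; exact (cj_mono k h3).trans h4)
  refine ⟨c * g, mul_mem hc.1 hg, (mul_mem_cancel_left h5).1 h6, fun x hx => ?_⟩
  have h7 : g * x * g⁻¹ * c = c * (g * x * g⁻¹) := hc.2 _ ⟨x, hx, rfl⟩
  calc c * g * x * (c * g)⁻¹ = c * (g * x * g⁻¹) * c⁻¹ := by group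
    _ = g * x * g⁻¹ := by rw [← h7, mul_inv_cancel_right]

/-- If `Y / (Y ⊓ C)` is a 2-group then `Y = (Y ⊓ C) (Y ⊓ T)`. -/
theorem exists_mul_sylow [Finite G] {T K Y C : Subgroup G} (hT : IsSylowIn 2 T K) (hY : Y ≤ K)
    (hn : T ≤ NS Y) (hC : Y ≤ NS C) (h2 : ∀ g ∈ Y, ∃ m : ℕ, g ^ 2 ^ m ∈ C) {g : G} (hg : g ∈ Y) :
    ∃ s ∈ Y, s ∈ T ∧ s⁻¹ * g ∈ C := by
  have h1 : IsSylowIn 2 (T ⊓ Y) Y := by
    have := (hT.of_le le_sup_left (sup_le hT.le hY)).inf_of_le_normalizer (N := Y)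
      (sup_le hn le_normalizer)
    rwa [inf_eq_right.2 (le_sup_right : Y ≤ T ⊔ Y)] at this
  have : (C.subgroupOf Y).Normal :=
    ⟨fun n hn g => conj_mem_of_mem_normalizer (H := C) (hC g.2) hn⟩
  have h3 := Core.sylow_sup_eq_top_of_isPGroup_quotient h1.toSylow (C.subgroupOf Y) (fun q => by
    obtain ⟨y, rfl⟩ := QuotientGroup.mk_surjective q
    obtain ⟨m, hm⟩ := h2 y y.2
    exact ⟨m, by rw [← QuotientGroup.mk_pow, QuotientGroup.eq_one_iff]; exact hm⟩)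
  obtain ⟨s, hs, c, hc, e⟩ := mem_sup_of_normal_right.1 (h3.ge (mem_top ⟨g, hg⟩))
  refine ⟨s, s.2, (h1.mem_toSylow.1 hs).1, ?_⟩
  have e1 : g = s * c := (congrArg Subtype.val e).symm
  rw [e1, inv_mul_cancel_left]
  exact hc

/-- an element centralising the involution `e` modulo a group of odd order -/
theorem exists_shift [Finite G] {O F : Subgroup G} (hO : Odd (Nat.card O)) {c e : G}
    (hc : c ∈ CS F) (he : e ∈ CS F) (h2 : e * e = 1) (h : c * e * c⁻¹ * e⁻¹ ∈ O) :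
    ∃ o ∈ O, o ∈ CS F ∧ o⁻¹ * c ∈ Cx e := by
  have hi : e⁻¹ = e := inv_eq_of_mul_eq_one_right h2
  rw [hi] at h
  obtain ⟨o, ho, e1⟩ := SG.conj_of_odd (a := c * e * c⁻¹) (by rw [conj_mul, h2]; simp) h2
    (hO.of_dvd_nat (orderOf_dvd_natCard _ h))
  refine ⟨o, zpowers_le.2 h ho,
    zpowers_le.2 (mul_mem (mul_mem (mul_mem hc he) (inv_mem hc)) he) ho, mem_Cx'.2 ?_⟩
  calc o⁻¹ * c * e * (o⁻¹ * c)⁻¹ = o⁻¹ * (c * e * c⁻¹) * o := by group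
    _ = e := by rw [← e1]; group

theorem Nc.ord {w y : W} (h : Nc w y) : orderOf y = 2 := ord_two h.sq h.ne_one

theorem Nc.inv {w y : W} (h : Nc w y) : y⁻¹ = y := inv_eq_of_mul_eq_one_right h.sq

namespace WD

variable {w u b i : W} (hW : WD w u b i)
include hW

theorem w_mem : w ∈ center W := mem_center_iff.2 hW.w_comm

theorem ord_w : orderOf w = 2 := ord_two hW.ww hW.w_ne

theorem w_inv : w⁻¹ = w := inv_eq_of_mul_eq_one_right hW.ww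

theorem nc_mul {y : W} (h : Nc w y) : Nc w (y * w) := by
  refine ⟨?_, fun e => h.ne ?_, fun e => h.ne_one (mul_eq_right.1 e)⟩
  · rw [mul_assoc, ← mul_assoc w, ← hW.w_comm, mul_assoc, hW.ww, mul_one, h.sq]
  · rw [eq_inv_of_mul_eq_one_left e, hW.w_inv]

theorem nc_conj {y : W} (h : Nc w y) (n : W) : Nc w (n * y * n⁻¹) := by
  refine ⟨by rw [conj_mul, h.sq]; simp, fun e => h.ne_one (conj_eq_one_iff.1 e), fun e => h.ne ?_⟩
  rw [mul_inv_eq_iff_eq_mul, ← hW.w_comm] at e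
  exact mul_left_cancel e

omit hW in
theorem invol_cases (w : W) {y : W} (h : y * y = 1) : y = 1 ∨ y = w ∨ Nc w y := by
  by_cases h1 : y = 1
  · exact Or.inl h1
  by_cases h2 : y = w
  exacts [Or.inr (Or.inl h2), Or.inr (Or.inr ⟨h, h1, h2⟩)]

theorem nc_not_mem {y : W} (h : Nc w y) : y ∉ center W := by
  exact fun e => (hW.z_inv y e h.sq).elim h.ne_one h.ne

/-- a homomorphism with central values kills `w` -/
theorem map_w {φ : W →* W} (h : ∀ g, φ g ∈ center W) : φ w = 1 := by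
  refine (show commutator W ≤ φ.ker from commutator_le.2 fun p _ q _ => ?_) hW.w_der
  rw [MonoidHom.mem_ker, map_commutatorElement, commutatorElement_eq_one_iff_mul_comm]
  exact mem_center_iff.1 (h q) _

theorem hom_w (f : W →* Multiplicative (ZMod 2)) : f w = 1 := hW.z_phi f w hW.w_mem

/-- `W` has 2-rank 2 -/
theorem elem {R : Set W} (h1 : ∀ x ∈ R, x * x = 1) (h2 : ∀ x ∈ R, ∀ y ∈ R, x * y = y * x) :
    ∃ y, Nc w y ∧ ∀ x ∈ R, x = 1 ∨ x = w ∨ x = y ∨ x = y * w := by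
  by_cases h : ∃ y ∈ R, Nc w y
  · obtain ⟨y, hy, hn⟩ := h
    refine ⟨y, hn, fun x hx => ?_⟩
    rcases invol_cases w (h1 x hx) with e | e | e
    exacts [Or.inl e, Or.inr (Or.inl e), Or.inr (Or.inr (hW.four hn e (h2 y hy x hx)))]
  · refine ⟨u, hW.nc, fun x hx => ?_⟩
    rcases invol_cases w (h1 x hx) with e | e | e
    exacts [Or.inl e, Or.inr (Or.inl e), (h ⟨x, hx, e⟩).elim]

end WD

namespace Syl5

variable {ψ : W × W →* G} {τ : G} (h : Syl5 ψ τ)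
include h

theorem eq_iff {a b c d : W} : ψ (a, b) = ψ (c, d) ↔ a = c ∧ b = d := by
  rw [h.inj.eq_iff, Prod.mk.injEq]

theorem eq_one_iff {a b : W} : ψ (a, b) = 1 ↔ a = 1 ∧ b = 1 := by
  rw [← one_pp ψ, h.eq_iff]

theorem τ_inv : τ⁻¹ = τ := inv_eq_of_mul_eq_one_right h.tt

theorem τ_mul (a b : W) : τ * ψ (a, b) = ψ (b, a) * τ := by rw [← h.swap a b, inv_mul_cancel_right]

theorem mul_ττ (a b c d : W) : ψ (a, b) * τ * (ψ (c, d) * τ) = ψ (a * d, b * c) := by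
  rw [mul_assoc, ← mul_assoc τ, h.τ_mul, mul_assoc, h.tt, mul_one, mul_pp]

theorem inv_τ (a b : W) : (ψ (a, b) * τ)⁻¹ = ψ (b⁻¹, a⁻¹) * τ :=
  inv_eq_of_mul_eq_one_right (by rw [h.mul_ττ, mul_inv_cancel, mul_inv_cancel, one_pp])

theorem conj_τ (a b c d : W) :
    ψ (a, b) * (ψ (c, d) * τ) * (ψ (a, b))⁻¹ = ψ (a * c * b⁻¹, b * d * a⁻¹) * τ := by
  rw [inv_pp, ← mul_assoc, mul_pp, mul_assoc, h.τ_mul, ← mul_assoc, mul_pp]

theorem τ_conj (a b c d : W) :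
    ψ (a, b) * τ * ψ (c, d) * (ψ (a, b) * τ)⁻¹ = ψ (a * d * a⁻¹, b * c * b⁻¹) := by
  rw [← conj_pp, ← h.swap c d]; group

theorem comm_iff {a b c d : W} :
    ψ (a, b) * ψ (c, d) = ψ (c, d) * ψ (a, b) ↔ a * c = c * a ∧ b * d = d * b := by
  rw [mul_pp, mul_pp, h.eq_iff]

omit h in
theorem pp_mem (p : W × W) : ψ p ∈ Sw ψ τ := mem_sup_left ⟨_, rfl⟩

omit h in
theorem τ_mem : τ ∈ Sw ψ τ := mem_sup_right (mem_zpowers τ)

omit h in
theorem ppτ_mem (p : W × W) : ψ p * τ ∈ Sw ψ τ := mul_mem (pp_mem p) τ_mem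

theorem mem_Sw {g : G} : g ∈ Sw ψ τ ↔ ∃ a b, g = ψ (a, b) ∨ g = ψ (a, b) * τ := by
  refine ⟨fun hg => ?_, ?_⟩
  · let M : Subgroup G :=
      { carrier := {g | ∃ a b, g = ψ (a, b) ∨ g = ψ (a, b) * τ}
        one_mem' := ⟨1, 1, Or.inl (one_pp ψ).symm⟩
        mul_mem' := by
          rintro _ _ ⟨a, b, rfl | rfl⟩ ⟨c, d, rfl | rfl⟩
          · exact ⟨_, _, Or.inl (mul_pp ψ a b c d)⟩
          · exact ⟨_, _, Or.inr (by rw [← mul_assoc, mul_pp])⟩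
          · exact ⟨_, _, Or.inr (by rw [mul_assoc, h.τ_mul, ← mul_assoc, mul_pp])⟩
          · exact ⟨_, _, Or.inl (h.mul_ττ a b c d)⟩
        inv_mem' := by
          rintro _ ⟨a, b, rfl | rfl⟩
          · exact ⟨_, _, Or.inl (inv_pp ψ a b)⟩
          · exact ⟨_, _, Or.inr (h.inv_τ a b)⟩ }
    refine (sup_le ?_ (zpowers_le.2 ?_) : Sw ψ τ ≤ M) hg
    · rintro _ ⟨⟨a, b⟩, rfl⟩
      exact ⟨a, b, Or.inl rfl⟩
    · exact ⟨1, 1, Or.inr (by rw [one_pp, one_mul])⟩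
  · rintro ⟨a, b, rfl | rfl⟩
    exacts [pp_mem _, ppτ_mem _]

theorem sq_mem {g : G} (hg : g ∈ Sw ψ τ) : ∃ a b, g * g = ψ (a, b) := by
  obtain ⟨a, b, rfl | rfl⟩ := h.mem_Sw.1 hg
  exacts [⟨_, _, mul_pp ψ a b a b⟩, ⟨_, _, h.mul_ττ a b a b⟩]

/-- the involutions outside `W × W` -/
theorem invol_out {a b : W} (h1 : ψ (a, b) * τ * (ψ (a, b) * τ) = 1) :
    ψ (a, b) * τ = ψ (a, 1) * τ * (ψ (a, 1))⁻¹ := by
  rw [h.mul_ττ, h.eq_one_iff] at h1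
  have h2 := h.conj_τ a 1 1 1
  rw [one_pp, one_mul] at h2
  rw [h2, eq_inv_of_mul_eq_one_left h1.2]; simp

theorem orderOf_pp (p : W × W) : orderOf (ψ p) = orderOf p := orderOf_injective ψ h.inj p

variable {w u b i : W} (hW : WD w u b i)
include hW

theorem ne_τ (p q : W × W) : ψ p ≠ ψ q * τ := by
  intro e
  have e1 : τ = ψ (q⁻¹ * p) := by rw [map_mul, e, map_inv, inv_mul_cancel_left]
  have e2 := h.swap w 1
  rw [e1, ← map_mul, ← map_inv, ← map_mul] at e2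
  have e3 := congrArg Prod.snd (h.inj e2)
  exact hW.w_ne (by simpa using e3.symm)

theorem ord_τ : orderOf τ = 2 := by
  exact ord_two h.tt fun e => h.ne_τ hW 1 1 (by rw [e, mul_one])

theorem relIndex_two : ψ.range.relIndex (Sw ψ τ) = 2 := by
  refine relIndex_eq_two_iff.2 ⟨τ, τ_mem, fun g hg => ?_⟩
  obtain ⟨a, b, rfl | rfl⟩ := h.mem_Sw.1 hg
  · exact Or.inr ⟨⟨_, rfl⟩, fun ⟨q, hq⟩ => h.ne_τ hW q _ hq⟩
  · refine Or.inl ⟨⟨(a, b), by rw [mul_assoc, h.tt, mul_one]⟩, fun ⟨q, hq⟩ => h.ne_τ hW q _ hq⟩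

omit hW in
theorem comm_out_iff {a b c d : W} :
    ψ (a, b) * (ψ (c, d) * τ) = ψ (c, d) * τ * ψ (a, b) ↔ a * c = c * b ∧ b * d = d * a := by
  rw [mul_assoc (ψ (c, d)), h.τ_mul, ← mul_assoc, ← mul_assoc, mul_left_inj, mul_pp, mul_pp,
    h.eq_iff]

theorem ord_z1 : orderOf (ψ (w, 1)) = 2 := by
  exact ord_two (by rw [mul_pp, hW.ww, mul_one, one_pp]) fun e => hW.w_ne (h.eq_one_iff.1 e).1

theorem ord_a : orderOf (ψ (w, w)) = 2 := by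
  exact ord_two (by rw [mul_pp, hW.ww, one_pp]) fun e => hW.w_ne (h.eq_one_iff.1 e).1

theorem T_le : ψ.range ≤ Cx (ψ (w, 1)) := by
  rintro _ ⟨⟨p, q⟩, rfl⟩
  exact mem_Cx.2 (h.comm_iff.2 ⟨hW.w_comm p, by simp⟩)

theorem T_le' : ψ.range ≤ Cx (ψ (1, w)) := by
  rintro _ ⟨⟨p, q⟩, rfl⟩
  exact mem_Cx.2 (h.comm_iff.2 ⟨by simp, hW.w_comm q⟩)

theorem S_le : Sw ψ τ ≤ Cx (ψ (w, w)) := by
  refine sup_le ?_ (zpowers_le.2 (mem_Cx.2 (h.τ_mul w w)))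
  rintro _ ⟨⟨p, q⟩, rfl⟩
  exact mem_Cx.2 (h.comm_iff.2 ⟨hW.w_comm p, hW.w_comm q⟩)

/-- the subgroup of index 2 defined by `f` -/
theorem exists_sub (f : W →* Multiplicative (ZMod 2)) :
    ∃ M : Subgroup G, M ≤ Sw ψ τ ∧ M.relIndex (Sw ψ τ) = 2 ∧
      (∀ p q, ψ (p, q) ∈ M ↔ f p = f q) ∧ ∀ p q, ψ (p, q) * τ ∈ M ↔ f p ≠ f q := by
  have k1 : ∀ a b c d : Multiplicative (ZMod 2), (a = b → c = d → a * c = b * d) ∧
      (a = b → c ≠ d → a * c ≠ b * d) ∧ (a ≠ b → c = d → a * d ≠ b * c) ∧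
      (a ≠ b → c ≠ d → a * d = b * c) ∧ (a ≠ b → b⁻¹ ≠ a⁻¹) := by
    intro a b c d
    refine ⟨?_, ?_, ?_, ?_, ?_⟩ <;> revert a b c d <;> decide
  let M : Subgroup G :=
    { carrier := {g | ∃ p q, g = ψ (p, q) ∧ f p = f q ∨ g = ψ (p, q) * τ ∧ f p ≠ f q}
      one_mem' := ⟨1, 1, Or.inl ⟨(one_pp ψ).symm, rfl⟩⟩
      mul_mem' := by
        rintro _ _ ⟨a, b, ⟨rfl, h1⟩ | ⟨rfl, h1⟩⟩ ⟨c, d, ⟨rfl, h2⟩ | ⟨rfl, h2⟩⟩
        · exact ⟨_, _, Or.inl ⟨mul_pp ψ a b c d, by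
            rw [map_mul, map_mul]; exact (k1 _ _ _ _).1 h1 h2⟩⟩
        · exact ⟨a * c, b * d, Or.inr ⟨by rw [← mul_assoc, mul_pp], by
            rw [map_mul, map_mul]; exact (k1 _ _ _ _).2.1 h1 h2⟩⟩
        · exact ⟨a * d, b * c, Or.inr ⟨by rw [mul_assoc, h.τ_mul, ← mul_assoc, mul_pp], by
            rw [map_mul, map_mul]; exact (k1 _ _ _ _).2.2.1 h1 h2⟩⟩
        · exact ⟨_, _, Or.inl ⟨h.mul_ττ a b c d, by
            rw [map_mul, map_mul]; exact (k1 _ _ _ _).2.2.2.1 h1 h2⟩⟩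
      inv_mem' := by
        rintro _ ⟨a, b, ⟨rfl, h1⟩ | ⟨rfl, h1⟩⟩
        · exact ⟨_, _, Or.inl ⟨inv_pp ψ a b, by rw [map_inv, map_inv, h1]⟩⟩
        · exact ⟨_, _, Or.inr ⟨h.inv_τ a b, by
            rw [map_inv, map_inv]; exact (k1 _ _ 1 1).2.2.2.2 h1⟩⟩ }
  have m1 : ∀ p q, ψ (p, q) ∈ M ↔ f p = f q := fun p q => ⟨by
    rintro ⟨a, b, ⟨e, h1⟩ | ⟨e, -⟩⟩
    · obtain ⟨rfl, rfl⟩ := h.eq_iff.1 e
      exact h1
    · exact (h.ne_τ hW _ _ e).elim, fun e => ⟨p, q, Or.inl ⟨rfl, e⟩⟩⟩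
  have m2 : ∀ p q, ψ (p, q) * τ ∈ M ↔ f p ≠ f q := fun p q => ⟨by
    rintro ⟨a, b, ⟨e, -⟩ | ⟨e, h1⟩⟩
    · exact (h.ne_τ hW _ _ e.symm).elim
    · obtain ⟨rfl, rfl⟩ := h.eq_iff.1 (mul_right_cancel e)
      exact h1, fun e => ⟨p, q, Or.inr ⟨rfl, e⟩⟩⟩
  refine ⟨M, ?_, relIndex_eq_two_iff.2 ⟨τ, τ_mem, fun g hg => ?_⟩, m1, m2⟩
  · rintro _ ⟨a, b, ⟨rfl, -⟩ | ⟨rfl, -⟩⟩
    exacts [pp_mem _, ppτ_mem _]
  · obtain ⟨a, b, rfl | rfl⟩ := h.mem_Sw.1 hg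
    · rw [m1, m2]
      by_cases e : f a = f b
      exacts [Or.inr ⟨e, fun e1 => e1 e⟩, Or.inl ⟨e, e⟩]
    · rw [mul_assoc, h.tt, mul_one, m1, m2]
      by_cases e : f a = f b
      exacts [Or.inl ⟨e, fun e1 => e1 e⟩, Or.inr ⟨e, e⟩]

/-- a change of coordinates -/
theorem twist [Finite W] {φ : W →* W} (hφ : ∀ g, φ g ∈ center W) :
    ∃ ψ' : W × W →* G, Syl5 ψ' τ ∧ ∀ p q, ψ' (p, q) = ψ (p * φ q, φ p * q) := by
  have hc : ∀ g x, φ g * x = x * φ g := fun g x => (mem_center_iff.1 (hφ g) x).symm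
  let α : W × W →* W × W := MonoidHom.mk' (fun p => (p.1 * φ p.2, φ p.1 * p.2)) (by
    rintro ⟨a, b⟩ ⟨c, d⟩
    simp only [Prod.mk_mul_mk, map_mul, Prod.mk.injEq]
    constructor
    · rw [mul_assoc, mul_assoc, ← mul_assoc c, ← hc b c, mul_assoc]
    · rw [mul_assoc, mul_assoc, ← mul_assoc (φ c), hc c b, mul_assoc])
  have hα : Function.Injective α := by
    rw [injective_iff_map_eq_one]
    rintro ⟨a, b⟩ e
    obtain ⟨e1, e2⟩ : a * φ b = 1 ∧ φ a * b = 1 := Prod.mk.inj e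
    have e3 : φ (φ a) = a := by
      rw [eq_inv_of_mul_eq_one_left e2, map_inv, ← eq_inv_of_mul_eq_one_left e1]
    have e4 : a = 1 := by
      by_contra hn
      obtain ⟨x, hx, ho⟩ := exists_involution_of_pgroup (T := zpowers a)
        (hW.two.to_subgroup _) (by simpa using hn)
      have h1 : φ (φ x) = x := by
        obtain ⟨n, rfl⟩ := mem_zpowers_iff.1 hx
        rw [map_zpow, map_zpow, e3]
      rcases hW.z_inv x (h1 ▸ hφ _) (sq_of_ord ho) with e5 | e5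
      · exact ne_one_of_ord ho e5
      · rw [e5, hW.map_w hφ, map_one] at h1
        exact hW.w_ne h1.symm
    rw [e4, map_one, one_mul] at e2
    rw [e4, e2]; rfl
  have hr : (ψ.comp α).range = ψ.range := by
    rw [MonoidHom.range_comp, MonoidHom.range_eq_top.2 (Finite.injective_iff_surjective.1 hα),
      MonoidHom.range_eq_map]
  refine ⟨ψ.comp α, ⟨h.inj.comp hα, h.tt, fun a b => ?_, by rw [Sw, hr]; exact h.syl⟩,
    fun _ _ => rfl⟩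
  change τ * ψ (a * φ b, φ a * b) * τ⁻¹ = ψ (b * φ a, φ b * a)
  rw [h.swap, hc, hc]

variable [Finite G]

omit hW in
theorem card_T : Nat.card ψ.range = Nat.card W * Nat.card W := by
  rw [← Nat.card_prod]
  exact (Nat.card_congr (MonoidHom.ofInjective h.inj).toEquiv).symm

theorem card_S : Nat.card (Sw ψ τ) = 2 * (Nat.card W * Nat.card W) := by
  rw [← card_mul_relIndex' (le_sup_left : ψ.range ≤ Sw ψ τ), h.relIndex_two hW, h.card_T, mul_comm]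

theorem card_le_two {K : Subgroup G} (hK : K ≤ Sw ψ τ) :
    Nat.card K ≤ 2 * Nat.card ↥(ψ.range ⊓ K) := by
  rw [← card_mul_relIndex' (inf_le_right : ψ.range ⊓ K ≤ K), inf_relIndex_right, mul_comm]
  exact Nat.mul_le_mul_right _ ((relIndex_le_of_le_right hK (by rw [h.relIndex_two hW]; omega)).trans
    (h.relIndex_two hW).le)

theorem card_cent_out (p : W × W) :
    Nat.card ↥(Sw ψ τ ⊓ Cx (ψ p * τ)) ≤ 2 * Nat.card W := by
  have : Finite W := Finite.of_injective _ (h.inj.comp (Prod.mk_left_injective 1))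
  refine (h.card_le_two hW inf_le_left).trans (Nat.mul_le_mul_left _ ?_)
  obtain ⟨c, d⟩ := p
  have h1 : ψ.range ⊓ (Sw ψ τ ⊓ Cx (ψ (c, d) * τ)) ≤
      (ψ.comp ((MonoidHom.id W).prod (MulAut.conj c⁻¹).toMonoidHom)).range := by
    rintro _ ⟨⟨⟨a, b⟩, rfl⟩, -, h2⟩
    refine ⟨a, ?_⟩
    change ψ (a, c⁻¹ * a * c⁻¹⁻¹) = _
    rw [inv_inv, mul_assoc, (h.comm_out_iff.1 (mem_Cx.1 h2)).1, inv_mul_cancel_left]
  exact (card_le_of_le h1).trans (Nat.card_le_card_of_surjective _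
    (MonoidHom.rangeRestrict_surjective _))

theorem card_cent_τ : Nat.card ↥(Sw ψ τ ⊓ Cx τ) = 2 * Nat.card W := by
  have h1 : ψ.range ⊓ (Sw ψ τ ⊓ Cx τ) = Kd ψ := by
    refine le_antisymm ?_ ?_
    · rintro _ ⟨⟨⟨a, b⟩, rfl⟩, -, h2⟩
      have h3 := mem_Cx.1 h2
      rw [h.τ_mul, mul_left_inj, h.eq_iff] at h3
      exact ⟨a, by rw [← h3.1]; rfl⟩
    · rintro _ ⟨a, rfl⟩
      exact ⟨⟨_, rfl⟩, pp_mem _, mem_Cx.2 (h.τ_mul a a).symm⟩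
  have h2 : ψ.range.relIndex (Sw ψ τ ⊓ Cx τ) = 2 := by
    refine relIndex_eq_two_iff.2 ⟨τ, ⟨τ_mem, mem_Cx.2 rfl⟩, fun g hg => ?_⟩
    obtain ⟨a, b, rfl | rfl⟩ := h.mem_Sw.1 hg.1
    · exact Or.inr ⟨⟨_, rfl⟩, fun ⟨q, hq⟩ => h.ne_τ hW q _ hq⟩
    · refine Or.inl ⟨⟨(a, b), by rw [mul_assoc, h.tt, mul_one]⟩, fun ⟨q, hq⟩ => h.ne_τ hW q _ hq⟩
  rw [← card_mul_relIndex' (inf_le_right : ψ.range ⊓ (Sw ψ τ ⊓ Cx τ) ≤ _), inf_relIndex_right, h2,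
    h1, mul_comm]
  congr 1
  exact (Nat.card_congr (MonoidHom.ofInjective (f := ψ.comp ((MonoidHom.id W).prod (MonoidHom.id W)))
    fun a b e => (h.eq_iff.1 e).1).toEquiv).symm

omit hW in
theorem card_cent_T (p q : W) :
    Nat.card ↥(ψ.range ⊓ Cx (ψ (p, q))) = Nat.card (Cx p) * Nat.card (Cx q) := by
  have h1 : ψ.range ⊓ Cx (ψ (p, q)) = ((Cx p).prod (Cx q)).map ψ := by
    refine le_antisymm ?_ ?_
    · rintro _ ⟨⟨⟨a, b⟩, rfl⟩, h2⟩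
      have h3 := h.comm_iff.1 (mem_Cx.1 h2)
      exact ⟨_, ⟨mem_Cx.2 h3.1, mem_Cx.2 h3.2⟩, rfl⟩
    · rintro _ ⟨⟨a, b⟩, ⟨h2, h3⟩, rfl⟩
      exact ⟨⟨_, rfl⟩, mem_Cx.2 (h.comm_iff.2 ⟨mem_Cx.1 h2, mem_Cx.1 h3⟩)⟩
  rw [h1, card_map_of_injective h.inj, Nat.card_congr (prodEquiv _ _).toEquiv, Nat.card_prod]

theorem card_cent_in (p q : W) :
    Nat.card ↥(Sw ψ τ ⊓ Cx (ψ (p, q))) ≤ 2 * (Nat.card (Cx p) * Nat.card (Cx q)) := by
  refine (h.card_le_two hW inf_le_left).trans (Nat.mul_le_mul_left _ ?_)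
  rw [← inf_assoc, inf_eq_left.2 (le_sup_left : ψ.range ≤ Sw ψ τ), h.card_cent_T]

omit hW [Finite G] in
theorem cent_in {p q : W} (hn : ¬ IsConj p q) :
    Sw ψ τ ⊓ Cx (ψ (p, q)) = ψ.range ⊓ Cx (ψ (p, q)) := by
  refine le_antisymm (fun g hg => ⟨?_, hg.2⟩) (inf_le_inf_right _ le_sup_left)
  obtain ⟨a, b, rfl | rfl⟩ := h.mem_Sw.1 hg.1
  · exact ⟨_, rfl⟩
  · have h1 := (h.comm_out_iff.1 (mem_Cx.1 hg.2).symm).2
    exact (hn (isConj_iff.2 ⟨b, by rw [← h1, mul_inv_cancel_right]⟩)).elim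

/-- EXT towards `a = ψ (w, w)` -/
theorem ext_a {x : G} (e : IsConj x (ψ (w, w))) :
    ∃ g, g * x * g⁻¹ = ψ (w, w) ∧ ∀ s ∈ Sw ψ τ, s * x = x * s → g * s * g⁻¹ ∈ Sw ψ τ := by
  obtain ⟨k, e⟩ := isConj_iff.1 e
  obtain ⟨g, -, h1⟩ := exists_ext h.syl.pgroup le_top
    (isSylowIn_cent_of_central h.syl (h.S_le hW)) (mem_top k) e
  exact ⟨g, h1⟩

omit [Finite G] in
theorem cent_z1 : Sw ψ τ ⊓ Cx (ψ (w, 1)) = ψ.range := by
  rw [h.cent_in (fun e => hW.w_ne (isConj_one_left.1 e)), inf_eq_left.2 (h.T_le hW)]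

omit [Finite G] in
theorem cent_z2 : Sw ψ τ ⊓ Cx (ψ (1, w)) = ψ.range := by
  rw [h.cent_in (fun e => hW.w_ne (isConj_one_right.1 e)), inf_eq_left.2 (h.T_le' hW)]

theorem not_conj : ¬ IsConj (ψ (w, 1)) (ψ (w, w)) := by
  intro e
  obtain ⟨g, h1, h2⟩ := h.ext_a hW e
  have h3 : cj g ψ.range ≤ Sw ψ τ :=
    cj_le_iff.2 fun s hs => h2 s (mem_sup_left hs) (mem_Cx.1 (h.T_le hW hs))
  have h4 : (cj g ψ.range).relIndex (Sw ψ τ) = 2 := by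
    have h5 := card_mul_relIndex' h3
    rw [card_cj, ← card_mul_relIndex' (le_sup_left : ψ.range ≤ Sw ψ τ), h.relIndex_two hW] at h5
    exact Nat.eq_of_mul_eq_mul_left Nat.card_pos h5
  have h5 : ∀ s ∈ Sw ψ τ, s * s ∈ cj g ψ.range := fun s hs =>
    mul_self_mem_of_index_two h4 (⟨s, hs⟩ : Sw ψ τ)
  have h6 : ∀ s ∈ cj g ψ.range, s ∈ Cx (g * ψ (1, w) * g⁻¹) := by
    rw [← cj_Cx]; exact cj_mono g (h.T_le' hW)
  have h7 : cj g ψ.range ≤ ψ.range := by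
    obtain ⟨y, y', e1 | e1⟩ := h.mem_Sw.1 (cj_le_iff.1 h3 _ ⟨(1, w), rfl⟩)
    · have h8 : ∀ p, p * y = y * p ∧ p * y' = y' * p := fun p => by
        have := h6 _ (h5 _ (ppτ_mem (p, 1)))
        rwa [h.mul_ττ, mul_one, one_mul, e1, mem_Cx, h.comm_iff] at this
      have h9 : ψ (y, y') * ψ (y, y') = 1 := by
        rw [← e1, conj_mul, mul_pp, hW.ww, mul_one, one_pp]; simp
      rw [mul_pp, h.eq_one_iff] at h9
      rcases hW.z_inv y (mem_center_iff.2 fun p => (h8 p).1) h9.1 with rfl | rfl <;>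
        rcases hW.z_inv y' (mem_center_iff.2 fun p => (h8 p).2) h9.2 with rfl | rfl
      · rw [one_pp, conj_eq_one_iff, h.eq_one_iff] at e1
        exact (hW.w_ne e1.2).elim
      · rw [e1] at h6
        exact (le_inf h3 h6).trans (h.cent_z2 hW).le
      · rw [e1] at h6
        exact (le_inf h3 h6).trans (h.cent_z1 hW).le
      · rw [← h1, mul_left_inj, mul_right_inj, h.eq_iff] at e1
        exact (hW.w_ne e1.2).elim
    · obtain ⟨v, hv⟩ := hW.w_four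
      have := h6 _ (h5 _ (pp_mem (v * v, 1)))
      rw [mul_pp, mul_one, e1, mem_Cx, h.comm_out_iff, mul_one, mul_eq_right] at this
      exact (hW.w_ne (by rw [← hv, ← this.1]; simp only [pow_succ, pow_zero, one_mul, mul_assoc])).elim
  have hn := mem_normalizer_of_cj_le h7
  obtain ⟨⟨y, y'⟩, e1⟩ := cj_le_iff.1 h7 _ ⟨(i, 1), rfl⟩
  have h8 : ∀ p q, p * y * p⁻¹ = y ∧ q * y' * q⁻¹ = y' ∨
      p * y * p⁻¹ = w * y ∧ q * y' * q⁻¹ = w * y' := fun p q => by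
    obtain ⟨⟨p', q'⟩, e2⟩ := conj_mem_of_mem_normalizer' hn ⟨(p, q), rfl⟩
    have e3 : ψ (p * y * p⁻¹, q * y' * q⁻¹) = g * ψ (p' * i * p'⁻¹, q' * 1 * q'⁻¹) * g⁻¹ := by
      rw [← conj_pp, ← conj_pp, e1, e2]; group
    rw [mul_one, mul_inv_cancel] at e3
    rcases hW.i_comm p'⁻¹ with e4 | e4
    · rw [show p' * i * p'⁻¹ = i by rw [mul_assoc, mul_inv_eq_iff_eq_mul.1 e4]; group, ← e1,
        h.eq_iff] at e3
      exact Or.inl e3
    · rw [show p' * i * p'⁻¹ = w * i by rw [mul_assoc, mul_inv_eq_iff_eq_mul.1 e4]; group,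
        ← one_mul (1 : W), ← mul_pp ψ w 1 i 1, ← conj_mul, h1, ← e1, mul_pp, h.eq_iff] at e3
      exact Or.inr e3
  refine hW.i_nc (mem_center_iff.2 fun p => ?_)
  obtain ⟨⟨p', q'⟩, e2⟩ := cj_le_iff.1 h7 _ ⟨(p, 1), rfl⟩
  have h9 : ψ (p', q') * ψ (y, y') = ψ (y, y') * ψ (p', q') := h.comm_iff.2
    ⟨(h8 p' 1).elim (fun e => mul_inv_eq_iff_eq_mul.1 e.1) fun e => (hW.w_ne (by simpa using e.2)).elim,
      (h8 1 q').elim (fun e => mul_inv_eq_iff_eq_mul.1 e.2) fun e => (hW.w_ne (by simpa using e.1)).elim⟩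
  rw [e1, e2, conj_mul, conj_mul, mul_left_inj, mul_right_inj, h.comm_iff] at h9
  exact h9.1

/-- a conjugate of `z₁` in `S` is not central in `S` -/
theorem not_le {x : G} (e : IsConj (ψ (w, 1)) x) (hx : x ∈ Sw ψ τ) : ¬ Sw ψ τ ≤ Cx x := by
  intro h1
  obtain ⟨k, hk⟩ := isConj_iff.1 e
  have ho : orderOf x = 2 := by rw [← hk, ord_conj, h.ord_z1 hW]
  obtain ⟨y, y', rfl | rfl⟩ := h.mem_Sw.1 hx
  · have h2 := mem_Cx.1 (h1 τ_mem)
    rw [h.τ_mul, mul_left_inj, h.eq_iff] at h2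
    obtain ⟨rfl, -⟩ := h2
    have h3 := sq_of_ord ho
    rw [mul_pp, h.eq_one_iff] at h3
    rcases hW.z_inv y' (mem_center_iff.2 fun p =>
      (h.comm_iff.1 (mem_Cx.1 (h1 (pp_mem (p, 1))))).1) h3.1 with rfl | rfl
    · exact ne_one_of_ord ho (one_pp ψ)
    · exact h.not_conj hW e
  · have h2 := (h.comm_out_iff.1 (mem_Cx.1 (h1 (pp_mem (w, 1))))).1
    rw [mul_one, mul_eq_right] at h2
    exact hW.w_ne h2

theorem syl_T : IsSylowIn 2 ψ.range (Cx (ψ (w, 1))) := by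
  have := isSylowIn_cent_of_index h.syl (pp_mem (w, 1)) (by rw [h.cent_z1 hW, h.card_S hW, h.card_T])
    fun k _ hk => h.not_le hW (isConj_iff.2 ⟨k, rfl⟩) hk
  rwa [h.cent_z1 hW, top_inf_eq] at this

/-- EXT towards `z₁ = ψ (w, 1)` -/
theorem ext_z {x : G} (e : IsConj x (ψ (w, 1))) :
    ∃ g, g * x * g⁻¹ = ψ (w, 1) ∧ ∀ s ∈ Sw ψ τ, s * x = x * s → g * s * g⁻¹ ∈ ψ.range := by
  obtain ⟨k, e⟩ := isConj_iff.1 e
  obtain ⟨g, -, h1, h2⟩ := exists_ext h.syl.pgroup le_top (b := ψ (w, 1))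
    (by rw [h.cent_z1 hW, top_inf_eq]; exact h.syl_T hW) (mem_top k) e
  refine ⟨g, h1, fun s hs hc => (h.cent_z1 hW).le ⟨h2 s hs hc, ?_⟩⟩
  rw [← h1]
  exact conj_mem_Cx.2 (mem_Cx.2 hc)

variable [IsSimpleGroup G]

theorem normal_cases {N : Subgroup G} (hN : N.Normal) (h1 : ψ (w, 1) ∈ N) : N = ⊤ :=
  hN.eq_bot_or_eq_top.resolve_left fun e => ne_one_of_ord (h.ord_z1 hW) (mem_bot.1 (e ▸ h1))

theorem no_index_two (M : Subgroup G) : M.index ≠ 2 := by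
  intro e
  obtain ⟨v, hv⟩ := hW.w_four
  have h1 := mul_self_mem_of_index_two e (ψ (v * v, 1))
  rw [mul_pp, mul_one, show v * v * (v * v) = w by
    rw [← hv]; simp only [pow_succ, pow_zero, one_mul, mul_assoc]] at h1
  rw [h.normal_cases hW (normal_of_index_eq_two e) h1, index_top] at e
  omega

omit hW [IsSimpleGroup G] in
theorem odd_index : ¬ 2 ∣ (Sw ψ τ).index := by
  rw [← relIndex_top_right]; exact h.syl.not_dvd

/-- `Z*` -/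
theorem zstar {z : G} (hz : z ∈ Sw ψ τ) (h1 : z ≠ 1) :
    ∃ k, k * z * k⁻¹ ∈ Sw ψ τ ∧ k * z * k⁻¹ ≠ z := by
  by_contra hn
  push Not at hn
  have h2 : opOf 2 (⊤ : Subgroup G) = ⊥ :=
    (opOf_normal (p := 2) ⊤).eq_bot_or_eq_top.resolve_right fun e =>
      ne_one_of_ord (h.ord_z1 hW)
        (eq_one_of_mem_opOf (H := ⊤) h.syl.pgroup (pp_mem _) (e.ge (mem_top _)))
  have h3 : (⊤ : Subgroup G) ≤ Cx z :=
    le_of_weaklyClosed h.syl hz (fun k _ => hn k) (h2.le.trans bot_le) inf_le_right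
  have h4 : center G = ⊤ := (inferInstance : (center G).Normal).eq_bot_or_eq_top.resolve_left
    fun e => h1 (mem_bot.1 (e ▸ mem_center_iff.2 fun g => mem_Cx.1 (h3 (mem_top g))))
  have h5 := mem_center_iff.1 (h4.ge (mem_top (ψ (w, 1)))) τ
  rw [h.τ_mul, mul_left_inj, h.eq_iff] at h5
  exact hW.w_ne h5.2

/-- Thompson's transfer lemma -/
theorem thompson (f : W →* Multiplicative (ZMod 2)) {x : G} (hx : orderOf x = 2) :
    ∃ p q, f p = f q ∧ IsConj x (ψ (p, q)) := by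
  obtain ⟨M, h1, h2, h3, h4⟩ := h.exists_sub hW f
  obtain ⟨g, hg⟩ := Transfer.exists_conj_mem_of_no_index_two (h.no_index_two hW) h.odd_index h2 hx
  obtain ⟨p, q, e | e⟩ := h.mem_Sw.1 (h1 hg)
  · exact ⟨p, q, (h3 p q).1 (e ▸ hg), isConj_iff.2 ⟨g, e⟩⟩
  · have h5 := sq_of_ord ((ord_conj g x).trans hx)
    rw [e, h.mul_ττ, h.eq_one_iff] at h5
    refine ((h4 p q).1 (e ▸ hg) ?_).elim
    have h6 := congrArg f h5.1
    rw [map_mul, map_one] at h6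
    revert h6
    generalize f p = s
    generalize f q = t
    revert s t
    decide

/-- the excluded fusion pattern -/
theorem pat (h1 : ∀ y : W, Nc w y → IsConj (ψ (w, 1)) (ψ (y, 1)))
    (h2 : ∀ x y : W, x * x = 1 → x ≠ 1 → y * y = 1 → y ≠ 1 → IsConj (ψ (w, w)) (ψ (x, y))) :
    False := by
  have sq : ∀ {x : G} {p q : W}, orderOf x = 2 → IsConj x (ψ (p, q)) →
      p * p = 1 ∧ q * q = 1 ∧ (p = 1 → q ≠ 1) := fun {x p q} ho e => by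
    obtain ⟨k, hk⟩ := isConj_iff.1 e
    have h3 : orderOf (ψ (p, q)) = 2 := by rw [← hk, ord_conj, ho]
    have h4 := sq_of_ord h3
    rw [mul_pp, h.eq_one_iff] at h4
    exact ⟨h4.1, h4.2, fun e1 e2 => ne_one_of_ord h3 (h.eq_one_iff.2 ⟨e1, e2⟩)⟩
  have d1 : ∀ {y : W}, y * y = 1 → y ≠ 1 → IsConj (ψ (w, 1)) (ψ (y, 1)) := fun hy hn => by
    rcases WD.invol_cases w hy with e | rfl | e
    exacts [(hn e).elim, IsConj.refl _, h1 _ e]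
  have d2 : ∀ {y : W}, y * y = 1 → y ≠ 1 → IsConj (ψ (w, 1)) (ψ (1, y)) := fun hy hn =>
    (d1 hy hn).trans (isConj_iff.2 ⟨τ, h.swap _ _⟩)
  have pa : ∀ {p q : W}, IsConj (ψ (w, w)) (ψ (p, q)) → p ≠ 1 ∧ q ≠ 1 := fun e => by
    obtain ⟨h3, h4, h5⟩ := sq (h.ord_a hW) e
    refine ⟨?_, ?_⟩ <;> rintro rfl
    exacts [h.not_conj hW ((d2 h4 (h5 rfl)).trans e.symm),
      h.not_conj hW ((d1 h3 fun e1 => h5 e1 rfl).trans e.symm)]
  have tau : ∀ {x : W}, x * x = 1 → IsConj τ (ψ (x, x) * τ) := fun {x} hx =>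
    isConj_iff.2 ⟨_, (h.invol_out (by rw [h.mul_ττ, hx, one_pp])).symm⟩
  have cτ : ∀ x : W, ψ (x, x) * τ = τ * ψ (x, x) := fun x => (h.τ_mul x x).symm
  have uw := hW.nc_mul hW.nc
  obtain ⟨p, q, -, e⟩ := h.thompson hW 1 (h.ord_τ hW)
  obtain ⟨e1, e2, e3⟩ := sq (h.ord_τ hW) e
  have e4 : IsConj τ (ψ (w, 1)) ∨ IsConj τ (ψ (w, w)) := by
    by_cases hp : p = 1
    · subst hp; exact Or.inl (e.trans (d2 e2 (e3 rfl)).symm)
    by_cases hq : q = 1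
    · subst hq; exact Or.inl (e.trans (d1 e1 hp).symm)
    exact Or.inr (e.trans (h2 p q e1 hp e2 hq).symm)
  rcases e4 with e4 | e4
  · obtain ⟨g, g1, g2⟩ := h.ext_z hW e4
    have key : ∀ {x : W}, x * x = 1 → x ≠ 1 → ∃ y, g * ψ (x, x) * g⁻¹ = ψ (w, y) := fun {x} hx hn => by
      obtain ⟨⟨y, y'⟩, e5⟩ := g2 _ (pp_mem (x, x)) (cτ x)
      have h3 := (h2 x x hx hn hx hn).trans (isConj_iff.2 ⟨g, e5.symm⟩)
      have h4 : IsConj (ψ (w, 1)) (ψ (y * w, y' * 1)) := (e4.symm.trans (tau hx)).trans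
        (isConj_iff.2 ⟨g, by rw [← conj_mul, g1, ← e5, mul_pp]⟩)
      obtain ⟨h5, h6, -⟩ := sq (h.ord_z1 hW) h4
      have h7 : y * w = 1 := by
        by_contra h8
        exact h.not_conj hW (h4.trans (h2 _ _ h5 h8 h6 (by simpa using (pa h3).2)).symm)
      exact ⟨y', by rw [← e5, eq_inv_of_mul_eq_one_left h7, hW.w_inv]⟩
    obtain ⟨y1, h3⟩ := key hW.nc.sq hW.nc.ne_one
    obtain ⟨y2, h4⟩ := key hW.ww hW.w_ne
    obtain ⟨y3, h5⟩ := key uw.sq uw.ne_one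
    rw [← mul_pp, ← conj_mul, h3, h4, mul_pp, hW.ww, h.eq_iff] at h5
    exact hW.w_ne h5.1.symm
  · obtain ⟨g, g1, g2⟩ := h.ext_a hW e4
    have key : ∀ {x y y' : W}, x * x = 1 → x ≠ 1 → g * ψ (x, x) * g⁻¹ = ψ (y, y') →
        Nc w y ∧ Nc w y' := fun {x y y'} hx hn e5 => by
      have h3 := (h2 x x hx hn hx hn).trans (isConj_iff.2 ⟨g, e5⟩)
      have h4 : IsConj (ψ (w, w)) (ψ (y * w, y' * w)) := (e4.symm.trans (tau hx)).trans
        (isConj_iff.2 ⟨g, by rw [← conj_mul, g1, e5, mul_pp]⟩)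
      obtain ⟨h5, h6, -⟩ := sq (h.ord_a hW) h3
      exact ⟨⟨h5, (pa h3).1, fun e6 => (pa h4).1 (by rw [e6, hW.ww])⟩,
        ⟨h6, (pa h3).2, fun e6 => (pa h4).2 (by rw [e6, hW.ww])⟩⟩
    obtain ⟨v, hv⟩ := hW.w_four
    obtain ⟨s, s', e5⟩ := h.sq_mem (g2 _ (pp_mem (v, v)) (cτ v))
    have e6 : g * ψ (w, w) * g⁻¹ = ψ (s * s, s' * s') := by
      rw [← mul_pp, ← e5, conj_mul, conj_mul, mul_pp, mul_pp, ← hv]
      simp only [pow_succ, pow_zero, one_mul, mul_assoc]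
    obtain ⟨n1, n2⟩ := key hW.ww hW.w_ne e6
    rcases hW.alt with ha | ha
    · exact ha s n1
    let φ : W →* G :=
      (MulAut.conj g).toMonoidHom.comp (ψ.comp ((MonoidHom.id W).prod (MonoidHom.id W)))
    have hφ : ∀ x, φ x = g * ψ (x, x) * g⁻¹ := fun x => rfl
    have h3 : ∀ {x y y' : W}, φ x = ψ (y, y') → y ∈ Cx (s * s) ∧ y' ∈ Cx (s' * s') := fun e7 => by
      rw [mem_Cx, mem_Cx, ← h.comm_iff, ← e6, ← e7, ← hφ, ← map_mul, ← map_mul, hW.w_comm]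
    have h4 : ∀ p ∈ ψ.range.comap φ, ∀ q ∈ ψ.range.comap φ, p * q = q * p := by
      rintro p ⟨⟨p1, p2⟩, hp⟩ q ⟨⟨q1, q2⟩, hq⟩
      have h5 : φ p * φ q = φ q * φ p := by
        rw [← hp, ← hq, h.comm_iff]
        exact ⟨hW.cab n1 _ (h3 hp.symm).1 _ (h3 hq.symm).1,
          hW.cab n2 _ (h3 hp.symm).2 _ (h3 hq.symm).2⟩
      rw [hφ, hφ, conj_mul, conj_mul, mul_left_inj, mul_right_inj, h.comm_iff] at h5
      exact h5.1
    have h5 : (ψ.range.comap φ).index = 2 := by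
      have h6 : φ.range ≤ Sw ψ τ := by
        rintro _ ⟨x, rfl⟩
        exact g2 _ (pp_mem _) (cτ x)
      have h7 := relIndex_le_of_le_right (H := ψ.range) h6 (by rw [h.relIndex_two hW]; omega)
      have h8 : (ψ.range.comap φ).index ≠ 1 := fun e7 => hW.i_nc (mem_center_iff.2 fun x =>
        h4 x ((index_eq_one.1 e7).ge (mem_top _)) i ((index_eq_one.1 e7).ge (mem_top _)))
      have h9 : ψ.range.relIndex φ.range ≠ 0 := index_ne_zero_of_finite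
      rw [index_comap] at h8 ⊢
      rw [h.relIndex_two hW] at h7
      omega
    obtain ⟨⟨x, x'⟩, e7⟩ := ha _ h5 h4
    have n3 := (key hW.nc.sq hW.nc.ne_one e7.symm).1
    have n4 := (key (y := x * (s * s)) (y' := x' * (s' * s')) uw.sq uw.ne_one
      (by rw [← mul_pp, ← conj_mul, ← hφ, ← e7, e6, mul_pp])).1
    rcases hW.four n1 n3 (mem_Cx.1 (h3 e7.symm).1).symm with e8 | e8
    · exact n4.ne_one (by rw [e8, n1.sq])
    · exact n4.ne (by rw [e8, mul_assoc, ← hW.w_comm, ← mul_assoc, n1.sq, one_mul])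

end Syl5

end CfsgLib.GHD
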