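import Mathlib
import Cfsg.Agent.Lib.GHD.FBase
import Cfsg.Agent.Lib.PGroup.Basic

/-! Package FHL1 of `plans/GHD.md`: the group `O²(C_H(Q))`. -/

set_option autoImplicit false

namespace CfsgLib.GHD

open Subgroup Cfsg CfsgLib.W2 CfsgLib.Tech CfsgLib.PComp CfsgLib.Abel2 CfsgLib.L3K CfsgLib.GHA

universe u

namespace FH1

/-- The transfer into the abelian factor `Z` of a Sylow 2-subgroup `Z × W`. -/
theorem exists_graph {C Z W : Type*} [Group C] [Finite C] [CommGroup Z] [Finite Z] [Group W]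
    (hZ : IsPGroup 2 Z) {w : Z} (ww : w * w = 1) (w1 : w ≠ 1)
    (hw : ∀ x : Z, x * x = 1 → x = 1 ∨ x = w) {ρ : Z × W →* C} (inj : Function.Injective ρ)
    (hi : ¬ 2 ∣ ρ.range.index) (hc : ∀ g, g * ρ (w, 1) = ρ (w, 1) * g)
    (hl : ∀ f : C →* Multiplicative (ZMod 2), (∀ c, f (ρ (c, 1)) = 1) → f = 1) :
    commutator C ≤ pResidual 2 C ∧
      ∃ φ : W →* Z, ∀ c q, ρ (c, q) ∈ pResidual 2 C ↔ c = φ q := by
  let π : ρ.range →* Z := (MonoidHom.fst Z W).comp (MonoidHom.ofInjective inj).symm.toMonoidHom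
  have hπ : ∀ p h, π ⟨ρ p, h⟩ = p.1 := fun p h =>
    congrArg Prod.fst ((MonoidHom.ofInjective inj).symm_apply_apply p)
  let V : C →* Z := MonoidHom.transfer π
  let θ : Z →* Z := V.comp (ρ.comp (MonoidHom.inl Z W))
  have hθ : θ w = w := by
    have h1 : V (ρ (w, 1)) = w ^ ρ.range.index :=
      Transfer.transfer_eq_pow_of_forall π _ w fun k t h _ => by
        have e : t⁻¹ * ρ (w, 1) ^ k * t = ρ (w ^ k, 1) := by
          rw [← ((show Commute t⁻¹ (ρ (w, 1)) from hc _).pow_right k).symm.eq,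
            inv_mul_cancel_right, ← map_pow, Prod.pow_mk, one_pow]
        exact (congrArg π (Subtype.ext e)).trans (hπ (w ^ k, 1) ⟨_, rfl⟩)
    obtain ⟨m, hm⟩ := Nat.odd_iff.2 (Nat.two_dvd_ne_zero.1 hi)
    refine h1.trans ?_
    rw [hm, pow_succ, pow_mul, sq, ww, one_pow, one_mul]
  have θi : Function.Injective θ := (injective_iff_map_eq_one θ).2 fun x hx => by
    by_contra h1
    obtain ⟨k, hk⟩ := IsPGroup.iff_orderOf.1 hZ x
    obtain ⟨k, rfl⟩ := Nat.exists_eq_succ_of_ne_zero (n := k)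
      fun e => h1 (orderOf_eq_one_iff.1 (by rw [hk, e, pow_zero]))
    rcases hw (x ^ 2 ^ k) (by rw [← sq, ← pow_mul, ← pow_succ, ← hk, pow_orderOf_eq_one]) with
      e | e
    · have := Nat.le_of_dvd (by positivity) (orderOf_dvd_of_pow_eq_one e)
      rw [hk, pow_succ] at this
      have : 0 < 2 ^ k := by positivity
      omega
    · exact w1 (by rw [← hθ, ← e, map_pow, hx, one_pow])
  let e : Z ≃* Z := MulEquiv.ofBijective θ (Finite.injective_iff_bijective.1 θi)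
  have := Transfer.pResidual_normal 2 C
  have hX : pResidual 2 C ⊔ (ρ.comp (MonoidHom.inl Z W)).range = ⊤ := by
    let m := QuotientGroup.mk' (pResidual 2 C)
    rcases eq_top_or_exists_le_coatom ((ρ.comp (MonoidHom.inl Z W)).range.map m) with
      h | ⟨M, hM, h⟩
    · rw [sup_comm, ← QuotientGroup.ker_mk' (pResidual 2 C), ← comap_map_eq, h, comap_top]
    · obtain ⟨f, hf⟩ := Transfer.exists_hom_of_relIndex_two (Q := M) (P := ⊤) (by
        rw [relIndex_top_right,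
          PGroup.index_eq_prime_of_isCoatom Transfer.isPGroup_quotient_pResidual hM])
      have h1 := hl (f.comp (topEquiv.symm.toMonoidHom.comp m))
        fun c => (hf _).1 (h ⟨_, ⟨c, rfl⟩, rfl⟩)
      refine absurd (eq_top_iff.2 fun x _ => by_contra fun hx => ?_) hM.1
      obtain ⟨x, rfl⟩ := QuotientGroup.mk'_surjective _ x
      exact absurd (((hf ⟨m x, trivial⟩).2 hx).symm.trans (DFunLike.congr_fun h1 x))
        (by decide : Multiplicative.ofAdd (1 : ZMod 2) ≠ 1)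
  have hV : pResidual 2 C = V.ker := by
    refine le_antisymm (Transfer.pResidual_le_ker hZ V) fun x hx => ?_
    obtain ⟨y, hy, _, ⟨c, rfl⟩, rfl⟩ := mem_sup_of_normal_left.1 (hX ▸ mem_top x)
    rw [MonoidHom.mem_ker, map_mul, Transfer.pResidual_le_ker hZ V hy, one_mul] at hx
    rw [(injective_iff_map_eq_one θ).1 θi c hx, map_one, mul_one]
    exact hy
  refine ⟨hV ▸ Abelianization.commutator_subset_ker V,
    (e.symm.toMonoidHom.comp (V.comp (ρ.comp (MonoidHom.inr Z W))))⁻¹, fun c q => ?_⟩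
  have e1 : V (ρ (c, q)) = e c * V (ρ (1, q)) := by
    rw [show ((c, q) : Z × W) = (c, 1) * (1, q) by simp, map_mul, map_mul]; rfl
  rw [hV, MonoidHom.mem_ker, e1, mul_eq_one_iff_eq_inv, ← MulEquiv.eq_symm_apply, map_inv]
  rfl

variable {G : Type u} [Group G] [Finite G] {W : Type*} [Group W] {w u b i : W}
  {ψ : W × W →* G} {τ : G} {Q : Subgroup (W × W)}

/-- `C_H(Q)` -/
abbrev CC (ψ : W × W →* G) (w : W) (Q : Subgroup (W × W)) : Subgroup G :=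
  Cx (ψ (w, 1)) ⊓ CS (Q.map ψ)

/-- the homomorphisms onto `C₂` that kill `Z × 1` -/
def Gd (f : CC ψ w Q →* Multiplicative (ZMod 2)) : Prop :=
  ∀ x : CC ψ w Q, ∀ c, (x : G) = ψ (c, 1) → f x = 1

omit [Finite G] in
theorem le_norm : Cx (ψ (w, 1)) ⊓ NS (Q.map ψ) ≤ NS (CC ψ w Q) := fun n hn =>
  mem_normalizer_iff_cj.2 (by
    rw [cj_inf, cj_eq_of_mem hn.1, cj_centralizer, mem_normalizer_iff_cj.1 hn.2])

/-- the conjugate of a homomorphism -/
def cnj (f : CC ψ w Q →* Multiplicative (ZMod 2)) {n : G}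
    (hn : n ∈ Cx (ψ (w, 1)) ⊓ NS (Q.map ψ)) : CC ψ w Q →* Multiplicative (ZMod 2) :=
  f.comp ((CC ψ w Q).normalizerMonoidHom ⟨n, le_norm hn⟩).toMonoidHom

omit [Finite G] in
theorem cnj_eq (f : CC ψ w Q →* Multiplicative (ZMod 2)) {n : G}
    (hn : n ∈ Cx (ψ (w, 1)) ⊓ NS (Q.map ψ)) {x y : CC ψ w Q} (e : (y : G) = n * x * n⁻¹) :
    cnj f hn x = f y := congrArg f (Subtype.ext e.symm)

omit [Finite G] in
theorem conj_eq (f : CC ψ w Q →* Multiplicative (ZMod 2)) {d : G} (hd : d ∈ CC ψ w Q)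
    {x y : CC ψ w Q} (e : (y : G) = d * x * d⁻¹) : f x = f y := by
  rw [show y = ⟨d, hd⟩ * x * ⟨d, hd⟩⁻¹ from Subtype.ext e, map_mul, map_mul, map_inv,
    mul_inv_cancel_comm]

variable (hW : WD w u b i) (hS : Syl5 ψ τ) (hF : Fus ψ w u b i Q)
include hW hS hF

omit [Finite G] in
theorem mem_C {p : W × W} : ψ p ∈ CC ψ w Q ↔ p.1 ∈ center W := by
  rw [← hF.cent]
  refine ⟨fun h q hq => hS.inj ?_, fun h => ⟨hS.T_le hW ⟨p, rfl⟩, ?_⟩⟩
  · rw [map_mul, map_mul]; exact h.2 _ ⟨q, hq, rfl⟩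
  · rintro _ ⟨q, hq, rfl⟩
    rw [← map_mul, ← map_mul, h q hq]

omit hW hS in
theorem wc : ∀ k ∈ Cx (ψ (w, 1)), cj k (Q.map ψ) ≤ ψ.range → k ∈ NS (Q.map ψ) :=
  fun k hk h => mem_normalizer_of_forall (by
    rintro _ ⟨p, hp, rfl⟩
    obtain ⟨p', e⟩ := h (conj_mem_cj.2 ⟨p, hp, rfl⟩)
    exact ⟨p', hF.sc k hk p hp p' e.symm, e⟩)

theorem syl_R : IsSylowIn 2 (ψ.range ⊓ CC ψ w Q) (CC ψ w Q) := by
  have h1 : ψ.range ≤ Cx (ψ (w, 1)) ⊓ NS (Q.map ψ) := fun t ht =>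
    ⟨hS.T_le hW ht, wc hF t (hS.T_le hW ht)
      ((cj_mono t (map_le_range ψ Q)).trans (cj_eq_of_mem ht).le)⟩
  have h2 := ((hS.syl_T hW).of_le h1 inf_le_left).inf_of_le_normalizer le_norm
  rwa [inf_eq_right.2 (inf_le_inf_left _ (centralizer_le_normalizer _))] at h2

theorem ctrl {g : G} (hg : g ∈ Cx (ψ (w, 1))) {p q : W × W} (hp : p.1 ∈ center W)
    (hq : q.1 ∈ center W) (e : g * ψ p * g⁻¹ = ψ q) :
    ∃ n ∈ Cx (ψ (w, 1)) ⊓ NS (Q.map ψ), n * ψ p * n⁻¹ = ψ q := by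
  obtain ⟨n, h1, h2, h3⟩ := exists_ctrl (hS.syl_T hW) (map_le_range ψ Q) (wc hF) (X := {ψ p}) hg
    (fun x hx => hx ▸ ((mem_C hW hS hF).2 hp).2)
    (fun x hx => by rw [hx, e]; exact ((mem_C hW hS hF).2 hq).2)
  exact ⟨n, ⟨h1, h2⟩, (h3 _ rfl).trans e⟩

/-- the restriction to the second factor -/
def res (f : CC ψ w Q →* Multiplicative (ZMod 2)) : W →* Multiplicative (ZMod 2) :=
  f.comp ((ψ.comp (MonoidHom.inr W W)).codRestrict _ fun _ => (mem_C hW hS hF).2 (one_mem _))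

variable {f : CC ψ w Q →* Multiplicative (ZMod 2)} (hf : Gd f)
include hf

omit [Finite G] in
theorem val {x : CC ψ w Q} {c q : W} (e : (x : G) = ψ (c, q)) : f x = res hW hS hF f q := by
  have hc : c ∈ center W := (mem_C hW hS hF (p := (c, q))).1 (e ▸ x.2)
  rw [show x = ⟨ψ (c, 1), (mem_C hW hS hF).2 hc⟩ * ⟨ψ (1, q), (mem_C hW hS hF).2 (one_mem _)⟩ from
    Subtype.ext (by rw [e, coe_mul, mul_pp, mul_one, one_mul]), map_mul, hf _ c rfl, one_mul]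
  rfl

theorem gd_cnj {n : G} (hn : n ∈ Cx (ψ (w, 1)) ⊓ NS (Q.map ψ)) : Gd (cnj f hn) := fun x c e => by
  have hc : c ∈ center W := (mem_C hW hS hF (p := (c, 1))).1 (e ▸ x.2)
  obtain ⟨d, hd, h1⟩ := (syl_R hW hS hF).frattini (le_norm hn)
  have hx : (x : G) ∈ ψ.range ⊓ CC ψ w Q := ⟨⟨_, e.symm⟩, x.2⟩
  obtain ⟨⟨⟨c', q'⟩, e1⟩, h2⟩ := conj_mem_of_mem_normalizer h1 hx
  have hq : q' ∈ center W := mem_center_iff.2 fun g => by
    obtain ⟨⟨⟨r, s⟩, e2⟩, -⟩ := conj_mem_of_mem_normalizer' h1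
      (⟨⟨(1, g), rfl⟩, (mem_C hW hS hF).2 (one_mem _)⟩ : ψ (1, g) ∈ ψ.range ⊓ CC ψ w Q)
    have e3 : ψ (1, g) = d * n * ψ (r, s) * (d * n)⁻¹ := by rw [e2]; group
    refine (hS.comm_iff.1 (?_ : ψ (1, g) * ψ (c', q') = _)).2
    rw [e1, e3, conj_mul, conj_mul, e, mul_pp, mul_pp, mem_center_iff.1 hc, mul_one, one_mul]
  have e4 : cnj f hn x = f ⟨_, h2⟩ :=
    (cnj_eq f hn (y := ⟨_, conj_mem_of_mem_normalizer (le_norm hn) x.2⟩) rfl).trans
      (conj_eq f hd (by simp only; group))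
  rw [e4, val hW hS hF hf e1.symm]
  exact hW.z_phi _ q' hq

theorem res_b : res hW hS hF f b = 1 := by
  obtain ⟨g, hg, c, hc, c', hc', e⟩ := hF.fj
  obtain ⟨n, hn, e1⟩ := ctrl hW hS hF hg hc hc' e
  rw [← val hW hS hF hf (x := ⟨ψ (c, b), (mem_C hW hS hF).2 hc⟩) rfl,
    ← cnj_eq f (inv_mem hn) (x := ⟨ψ (c', i), (mem_C hW hS hF).2 hc'⟩)
      (by simp only [← e1]; group),
    val hW hS hF (gd_cnj hW hS hF hf _) rfl]
  exact hW.i_phi _

theorem res_eq : res hW hS hF f = 1 := by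
  obtain ⟨N, y, hy, h⟩ := hW.gen
  refine (h _ (res_b hW hS hF hf)).2 ?_
  obtain ⟨g, hg, e⟩ := hF.fu
  obtain ⟨n, hn, e1⟩ := ctrl hW hS hF hg (one_mem _) (one_mem _) e
  have h1 : ψ (1, y) ∈ CC ψ w Q := (mem_C hW hS hF).2 (one_mem _)
  have h2 := conj_mem_of_mem_normalizer (le_norm hn) h1
  have e2 : (n * ψ (1, y) * n⁻¹) ^ N = ψ (1, w) := by rw [conj_pow, pow_pp, one_pow, hy, e1]
  obtain ⟨k, hk⟩ := hW.two y
  obtain ⟨d, hd, ⟨⟨c, x⟩, e3⟩, h3⟩ := ((syl_R hW hS hF).of_le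
    (le_inf inf_le_right (inf_le_left.trans (hS.T_le' hW))) inf_le_left).exists_conj_mem
    ⟨h2, mem_Cx.2 (e2 ▸ (Commute.self_pow _ N).eq)⟩
    (isPGroup_zpowers_of_pow (k := k) (by rw [conj_pow, pow_pp, one_pow, hk, one_pp]; simp))
  have e4 : x ^ N = w := (hS.eq_iff.1 (by
    rw [← pow_pp, e3, conj_pow, e2, mem_Cx'.1 hd.2] : ψ (c ^ N, x ^ N) = ψ (1, w))).2
  have hf' := gd_cnj hW hS hF hf (inv_mem hn)
  rw [← val hW hS hF hf (x := ⟨_, h1⟩) rfl,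
    ← cnj_eq f (inv_mem hn) (x := ⟨_, h2⟩) (by simp only; group),
    conj_eq _ hd.1 (y := ⟨_, h3⟩) rfl, val hW hS hF hf' e3.symm]
  exact (h _ (res_b hW hS hF hf')).1 x e4

theorem eq_one : f = 1 := by
  have h1 : (ψ.range ⊓ CC ψ w Q).subgroupOf (CC ψ w Q) ≤ f.ker := by
    rintro x ⟨⟨⟨c, q⟩, e⟩, -⟩
    rw [MonoidHom.mem_ker, val hW hS hF hf e.symm, res_eq hW hS hF hf, MonoidHom.one_apply]
  have h2 : f.ker.index ∣ 2 := by
    rw [index_ker]
    exact (card_subgroup_dvd_card f.range).trans (by simp)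
  rcases (Nat.dvd_prime Nat.prime_two).1 h2 with e | e
  · exact MonoidHom.ker_eq_top_iff.1 (index_eq_one.1 e)
  · exact absurd (e ▸ index_dvd_of_le h1) (syl_R hW hS hF).not_dvd

end FH1

variable {G : Type u} [Group G] [Finite G] {W : Type*} [Group W] [Finite W] {w u b i : W}
  {ψ : W × W →* G} {τ : G} {Q : Subgroup (W × W)}

open FH1 in
open scoped IsMulCommutative in
theorem exists_res (hW : WD w u b i) (hS : Syl5 ψ τ) (hF : Fus ψ w u b i Q) :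
    ∃ (φ : W →* W) (X : Subgroup G), (∀ g, φ g ∈ center W) ∧
      X ≤ Cx (ψ (w, 1)) ⊓ CS (Q.map ψ) ∧
      ⁅Cx (ψ (w, 1)) ⊓ CS (Q.map ψ), Cx (ψ (w, 1)) ⊓ CS (Q.map ψ)⁆ ≤ X ∧
      IsSylowIn 2 (ψ.comp (φ.prod (MonoidHom.id W))).range X ∧ ∀ K : Subgroup X, K.index ≠ 2 := by
  let ρ : center W × W →* CC ψ w Q :=
    (ψ.comp ((center W).subtype.prodMap (MonoidHom.id W))).codRestrict _
      fun p => (mem_C hW hS hF).2 p.1.2
  have hρ : ∀ c q, (ρ (c, q) : G) = ψ (c, q) := fun _ _ => rfl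
  have hr : ρ.range = (ψ.range ⊓ CC ψ w Q).subgroupOf (CC ψ w Q) := by
    refine le_antisymm ?_ ?_
    · rintro _ ⟨p, rfl⟩
      exact ⟨⟨_, rfl⟩, (ρ p).2⟩
    · rintro x ⟨⟨⟨c, q⟩, e⟩, h⟩
      exact ⟨(⟨c, (mem_C hW hS hF (p := (c, q))).1 (e ▸ h)⟩, q), Subtype.ext e⟩
  obtain ⟨h1, φ, h2⟩ := exists_graph (hW.two.to_subgroup (center W)) (w := ⟨w, hW.w_mem⟩)
    (Subtype.ext hW.ww) (fun e => hW.w_ne (congrArg Subtype.val e))
    (fun x hx => (hW.z_inv x x.2 (congrArg Subtype.val hx)).imp Subtype.ext Subtype.ext) (ρ := ρ)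
    (fun p q e => by
      have := hS.eq_iff.1 (congrArg Subtype.val e)
      exact Prod.ext (Subtype.ext this.1) this.2)
    (hr ▸ (syl_R hW hS hF).not_dvd) (fun g => Subtype.ext (mem_Cx.1 g.2.1))
    fun f hf => eq_one hW hS hF fun x c e =>
      (congrArg f (Subtype.ext e :
        x = ρ (⟨c, (mem_C hW hS hF (p := (c, 1))).1 (e ▸ x.2)⟩, 1))).trans (hf _)
  have := Transfer.pResidual_normal 2 (CC ψ w Q)
  have hX := map_subtype_le (pResidual 2 (CC ψ w Q))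
  refine ⟨(center W).subtype.comp φ, (pResidual 2 (CC ψ w Q)).map (CC ψ w Q).subtype,
    fun g => (φ g).2, hX, ?_, ?_, Transfer.index_ne_two_of_pResidual_eq_top ?_⟩
  · rw [← map_subtype_commutator]
    exact map_mono h1
  · have h3 := (syl_R hW hS hF).inf_of_le_normalizer
      (N := (pResidual 2 (CC ψ w Q)).map (CC ψ w Q).subtype) fun g hg =>
        mem_normalizer_of_forall (by
          rintro _ ⟨x, hx, rfl⟩
          exact ⟨_, this.conj_mem x hx ⟨g, hg⟩, rfl⟩)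
    rw [inf_eq_right.2 hX] at h3
    convert h3 using 1
    refine le_antisymm ?_ ?_
    · rintro _ ⟨q, rfl⟩
      exact ⟨⟨⟨_, rfl⟩, (ρ (φ q, q)).2⟩, ρ (φ q, q), (h2 _ _).2 rfl, rfl⟩
    · rintro _ ⟨h4, x, hx, rfl⟩
      obtain ⟨⟨c, q⟩, rfl⟩ : x ∈ ρ.range := hr ▸ h4
      obtain rfl := (h2 _ _).1 hx
      exact ⟨q, rfl⟩
  · let e := (pResidual 2 (CC ψ w Q)).equivMapOfInjective _ (CC ψ w Q).subtype_injective
    rw [← Transfer.map_pResidual_mulEquiv e, Transfer.pResidual_pResidual, ← MonoidHom.range_eq_map,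
      MonoidHom.range_eq_top]
    exact e.surjective

end CfsgLib.GHD
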