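import Mathlib
import Cfsg.Agent.Lib.GHD.FBase
import Cfsg.Agent.Lib.TwoGrp.QD2

/-! Tools for packages FSD1, FSD2 of `plans/GHD.md`: `W` quasi-dihedral. -/

set_option autoImplicit false
set_option linter.unusedSectionVars false

namespace CfsgLib.GHD

open Subgroup Cfsg CfsgLib.W2 CfsgLib.Tech CfsgLib.PComp CfsgLib.Abel2 CfsgLib.L3K CfsgLib.GHA
open CfsgLib.TwoGrp

universe u

namespace Sd

theorem c2_sq : ∀ z : Multiplicative (ZMod 2), z * z = 1 := by decide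

theorem c2_eq : ∀ a b : Multiplicative (ZMod 2), a ≠ 1 → b ≠ 1 → a = b := by decide

theorem c2_mul : ∀ a b : Multiplicative (ZMod 2), a * b = 1 → a = b := by decide

theorem c2_even (z : Multiplicative (ZMod 2)) (m : ℤ) : z ^ (2 * m) = 1 := by
  rw [zpow_mul, zpow_two, c2_sq, one_zpow]

theorem c2_conj {W : Type*} [Group W] (f : W →* Multiplicative (ZMod 2)) {p q : W}
    (e : IsConj p q) : f p = f q := isConj_iff_eq.1 (f.map_isConj e)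

theorem conj_mul_comm {W : Type*} [Group W] (p q : W) : IsConj (p * q) (q * p) :=
  isConj_iff.2 ⟨q, by group⟩

theorem isConj_of {W : Type*} [Group W] {g p q : W} (e : g * p * g⁻¹ = q) : IsConj p q :=
  isConj_iff.2 ⟨g, e⟩

theorem conj_sq {W : Type*} [Group W] (g p : W) :
    g * p * g⁻¹ * (g * p * g⁻¹) = g * (p * p) * g⁻¹ := by group

theorem conj_inj {W : Type*} [Group W] {g p q : W} (e : g * p * g⁻¹ = g * q * g⁻¹) : p = q :=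
  mul_left_cancel (mul_right_cancel e)

theorem conj_symm {W : Type*} [Group W] {g p q : W} (e : g * p * g⁻¹ = q) :
    g⁻¹ * q * g⁻¹⁻¹ = p := by rw [← e]; group

theorem conj_trans {W : Type*} [Group W] {g g' p q r : W} (e : g * p * g⁻¹ = q)
    (e' : g' * q * g'⁻¹ = r) : g' * g * p * (g' * g)⁻¹ = r := by rw [← e', ← e]; group

theorem card_cent_conj {G : Type*} [Group G] {S : Subgroup G} {t : G} (ht : t ∈ S) (s : G) :
    Nat.card ↥(S ⊓ Cx (t * s * t⁻¹)) = Nat.card ↥(S ⊓ Cx s) := by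
  rw [← card_cj t (S ⊓ Cx s), cj_inf, cj_eq_of_mem ht, cj_Cx]

section W
variable {W : Type*} [Group W] [Finite W] {k : ℕ} {x y : W} (h : IsQD ⊤ k x y)
include h

theorem cases (g : W) : ∃ i : ℤ, g = x ^ i ∨ g = x ^ i * y := (h.mem g).1 (mem_top g)

theorem card_W : Nat.card W = 16 * k := by rw [← h.card_eq, card_top]

theorem k_pos : 1 ≤ k := by exact_mod_cast h.kpos

theorem sq_eq (g : W) : ∃ m : ℤ, g * g = x ^ (2 * m) := by
  obtain ⟨i, rfl | rfl⟩ := cases h g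
  · exact ⟨i, by group⟩
  · exact ⟨2 * k * i, by rw [h.xpowy_sq]; congr 1; ring⟩

theorem sq_inv {g : W} (e : g * g * (g * g) = 1) : g * g = 1 ∨ g * g = x ^ (4 * k : ℤ) := by
  obtain ⟨m, hm⟩ := sq_eq h g
  rw [hm] at e ⊢
  exact h.eq_of_sq_eq_one e

theorem nc_eq {v : W} (hv : Nc (x ^ (4 * k : ℤ)) v) : ∃ a : ℤ, v = x ^ (2 * a) * y :=
  (h.eq_of_orderOf_two (mem_top v) hv.ord).resolve_left hv.ne

theorem nc_conj {v : W} (hv : Nc (x ^ (4 * k : ℤ)) v) : ∃ n : W, n * y * n⁻¹ = v := by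
  obtain ⟨a, rfl⟩ := nc_eq h hv
  obtain ⟨j, e⟩ := h.exists_conj_xpowy 0 a
  exact ⟨x ^ j, by simpa using e⟩

theorem odd_conj (a : ℤ) : ∃ n : W, n * (x * y) * n⁻¹ = x ^ (2 * a + 1) * y := by
  obtain ⟨j, e⟩ := h.exists_conj_xpowy 1 a
  exact ⟨x ^ j, by rw [add_comm]; simpa using e⟩

theorem sq_not_nc (g : W) : ¬ Nc (x ^ (4 * k : ℤ)) (g * g) := fun hv =>
  (sq_inv h hv.sq).elim hv.ne_one hv.ne

theorem card_out (i : ℤ) : Nat.card (Cx (x ^ i * y)) = 4 := by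
  have e : Cx (x ^ i * y) = qdSub x y ((4 * k : ℕ) : ℤ) i := by
    push_cast
    refine h.ext le_top le_top (fun j => ?_) fun j => ?_
    · rw [mem_Cx, h.commute_xpow_xpowy_iff, h.xpow_mem_qdSub dvd_rfl]
    · rw [IsQD.xpowy_mem_iff (mem_Cx.2 rfl), mem_Cx, h.commute_xpow_xpowy_iff,
        h.xpowy_mem_qdSub dvd_rfl]
  rw [e, h.card_qdSub (e := 1) (by ring)]

theorem card_nc {v : W} (hv : Nc (x ^ (4 * k : ℤ)) v) : Nat.card (Cx v) = 4 := by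
  obtain ⟨a, rfl⟩ := nc_eq h hv
  exact card_out h _

theorem sq_one_of_dvd {m : ℤ} (e : (4 * k : ℤ) ∣ m) : x ^ m * x ^ m = 1 := by
  rcases h.dvd_iff_eq_one_or_z.1 e with e | e
  · rw [e, mul_one]
  · rw [e, h.z_mul_z]

theorem cent_in {m : ℤ} (hm : x ^ m * x ^ m ≠ 1) {g : W} (e : g * x ^ m = x ^ m * g) :
    ∃ a : ℤ, g = x ^ a := by
  obtain ⟨i, rfl | rfl⟩ := cases h g
  · exact ⟨i, rfl⟩
  · exact absurd (sq_one_of_dvd h (h.commute_xpow_xpowy_iff.1 e.symm)) hm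

theorem card_in {m : ℤ} (hm : x ^ m * x ^ m ≠ 1) : Nat.card (Cx (x ^ m)) = 8 * k := by
  rw [← h.ord, ← Nat.card_zpowers]
  congr 2
  ext g
  refine ⟨fun hg => ?_, ?_⟩
  · obtain ⟨a, rfl⟩ := cent_in h hm (mem_Cx.1 hg)
    exact ⟨a, rfl⟩
  · rintro ⟨a, rfl⟩
    exact mem_Cx.2 (zpow_mul_comm x a m)

theorem i_sq : x ^ (2 * k : ℤ) * x ^ (2 * k : ℤ) ≠ 1 := by
  rw [h.w_mul_w]; exact h.z_ne_one

theorem j_sq : x * y * (x * y) = x ^ (4 * k : ℤ) := by simpa using h.sq_odd 0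

theorem cent_ij {d : W} (e1 : d * x ^ (2 * k : ℤ) = x ^ (2 * k : ℤ) * d)
    (e2 : d * (x * y) = x * y * d) : d = 1 ∨ d = x ^ (4 * k : ℤ) := by
  obtain ⟨a, rfl⟩ := cent_in h (i_sq h) e1
  exact h.dvd_iff_eq_one_or_z.1 ((h.commute_xpow_xpowy_iff (i := 1)).1 (by simpa using e2))

theorem cent_sq {d : W} (e : ∀ q, d * q = q * d) : d * d = 1 := by
  rcases cent_ij h (e _) (e _) with e | e
  · rw [e, mul_one]
  · rw [e, h.z_mul_z]

theorem sq_z {p : W} (e : p * p = x ^ (4 * k : ℤ)) :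
    (p = x ^ (2 * k : ℤ) ∨ p = (x ^ (2 * k : ℤ))⁻¹) ∨ ∃ a : ℤ, p = x ^ (2 * a + 1) * y := by
  obtain ⟨i, rfl | rfl⟩ := cases h p
  · exact Or.inl (h.eq_of_sq_eq_z e)
  · obtain ⟨a, rfl | rfl⟩ := Int.even_or_odd' i
    · exact absurd ((h.sq_even a).symm.trans e).symm h.z_ne_one
    · exact Or.inr ⟨a, rfl⟩

theorem i_conj {p : W} (e : p = x ^ (2 * k : ℤ) ∨ p = (x ^ (2 * k : ℤ))⁻¹) :
    ∃ n : W, n * x ^ (2 * k : ℤ) * n⁻¹ = p := by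
  rcases e with rfl | rfl
  · exact ⟨1, by simp⟩
  · exact ⟨y, h.y_conj_w⟩

omit h [Finite W] in
theorem hom_top {Q : Subgroup W} (hQ : Q.relIndex ⊤ = 2) :
    ∃ f : W →* Multiplicative (ZMod 2), ∀ g, f g = 1 ↔ g ∈ Q := by
  obtain ⟨ϕ, hϕ⟩ := Transfer.exists_hom_of_relIndex_two hQ
  refine ⟨ϕ.comp topEquiv.symm.toMonoidHom, fun g => ⟨fun e => by_contra fun hg => ?_,
    fun hg => (hϕ (topEquiv.symm g)).1 hg⟩⟩
  have := ((hϕ (topEquiv.symm g)).2 hg).symm.trans e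
  exact absurd this (by decide)

theorem exists_f : ∃ f : W →* Multiplicative (ZMod 2), f y ≠ 1 := by
  obtain ⟨f, hf⟩ := hom_top h.relIndex_zpowers_x
  exact ⟨f, fun e => h.y_notMem ((hf y).1 e)⟩

theorem exists_lam : ∃ f : W →* Multiplicative (ZMod 2), (∀ a : ℤ, f (x ^ (2 * a + 1) * y) ≠ 1) ∧
    ∀ p, p * p = 1 → f p = 1 := by
  obtain ⟨f, hf⟩ := hom_top (h.relIndex_qdSub_two 0)
  refine ⟨f, fun a e => ?_, fun p hp => (hf p).2 ?_⟩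
  · have := (h.xpowy_mem_qdSub h.two_dvd).1 ((hf _).1 e)
    omega
  · rcases WD.invol_cases (x ^ (4 * k : ℤ)) hp with rfl | rfl | hv
    · exact one_mem _
    · exact (h.xpow_mem_qdSub h.two_dvd).2 h.two_dvd
    · obtain ⟨a, rfl⟩ := nc_eq h hv
      exact (h.xpowy_mem_qdSub h.two_dvd).2 (by omega)

omit h [Finite W] in
theorem v_four : (x ^ (k : ℤ)) ^ 4 = x ^ (4 * k : ℤ) := by
  rw [← zpow_natCast, ← zpow_mul, mul_comm]; rfl

end W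

section S
variable {G : Type u} [Group G] [Finite G] {W : Type*} [Group W] [Finite W]
  {k : ℕ} {x y : W} {ψ : W × W →* G} {τ : G} (h : IsQD ⊤ k x y)
  (hW : WD (x ^ (4 * k : ℤ)) y (x * y) (x ^ (2 * k : ℤ))) (hS : Syl5 ψ τ)

include hS in
theorem z12 (p q : W) : IsConj (ψ (p, q)) (ψ (q, p)) := isConj_of (hS.swap p q)

omit [Finite G] [Finite W] in
theorem pp_conj {p q p' q' m n : W} (e1 : m * p * m⁻¹ = p') (e2 : n * q * n⁻¹ = q') :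
    ψ (m, n) * ψ (p, q) * (ψ (m, n))⁻¹ = ψ (p', q') := by rw [conj_pp, e1, e2]

include h hS in
theorem four_cases {s : G} (hs : s ∈ Sw ψ τ) (e : s ^ 4 * s ^ 4 = 1) :
    ∃ c d, (c = 1 ∨ c = x ^ (4 * k : ℤ)) ∧ (d = 1 ∨ d = x ^ (4 * k : ℤ)) ∧ s ^ 4 = ψ (c, d) := by
  obtain ⟨p, q, e1⟩ := hS.sq_mem hs
  have e2 : s ^ 4 = ψ (p * p, q * q) := by
    rw [← mul_pp, ← e1, show 4 = 2 + 2 from rfl, pow_add, sq]
  rw [e2, mul_pp, hS.eq_one_iff] at e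
  exact ⟨_, _, sq_inv h e.1, sq_inv h e.2, e2⟩

include h hW hS

theorem z2_cases {g : G} (hg : g * ψ (1, x ^ (k : ℤ)) * g⁻¹ ∈ Sw ψ τ) :
    g * ψ (1, x ^ (4 * k : ℤ)) * g⁻¹ = ψ (x ^ (4 * k : ℤ), 1) ∨
      g * ψ (1, x ^ (4 * k : ℤ)) * g⁻¹ = ψ (1, x ^ (4 * k : ℤ)) := by
  have e1 : (g * ψ (1, x ^ (k : ℤ)) * g⁻¹) ^ 4 = g * ψ (1, x ^ (4 * k : ℤ)) * g⁻¹ := by
    rw [conj_pow, pow_pp, one_pow, v_four]
  obtain ⟨c, d, hc, hd, e⟩ := four_cases h hS hg (by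
    rw [e1, conj_sq, mul_pp, hW.ww, mul_one, one_pp, mul_one, mul_inv_cancel])
  rw [e1] at e
  rcases hc with rfl | rfl <;> rcases hd with rfl | rfl
  · rw [one_pp, conj_eq_one_iff, hS.eq_one_iff] at e
    exact absurd e.2 hW.w_ne
  · exact Or.inr e
  · exact Or.inl e
  · exact absurd ((z12 hS _ _).trans (isConj_of e)) (hS.not_conj hW)

/-- an element of `T` with coordinates in `⟨w⟩` which is conjugate to `a` -/
theorem eq_a {c d : W} (hc : c = 1 ∨ c = x ^ (4 * k : ℤ)) (hd : d = 1 ∨ d = x ^ (4 * k : ℤ))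
    (e : IsConj (ψ (c, d)) (ψ (x ^ (4 * k : ℤ), x ^ (4 * k : ℤ)))) :
    c = x ^ (4 * k : ℤ) ∧ d = x ^ (4 * k : ℤ) := by
  rcases hc with rfl | rfl <;> rcases hd with rfl | rfl
  · rw [one_pp, isConj_one_right, hS.eq_one_iff] at e
    exact absurd e.1 hW.w_ne
  · exact absurd ((z12 hS _ _).trans e) (hS.not_conj hW)
  · exact absurd e (hS.not_conj hW)
  · exact ⟨rfl, rfl⟩

theorem a_fix {g : G} (hg : g * ψ (x ^ (k : ℤ), x ^ (k : ℤ)) * g⁻¹ ∈ Sw ψ τ) :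
    g * ψ (x ^ (4 * k : ℤ), x ^ (4 * k : ℤ)) * g⁻¹ = ψ (x ^ (4 * k : ℤ), x ^ (4 * k : ℤ)) := by
  have e1 : (g * ψ (x ^ (k : ℤ), x ^ (k : ℤ)) * g⁻¹) ^ 4 =
      g * ψ (x ^ (4 * k : ℤ), x ^ (4 * k : ℤ)) * g⁻¹ := by
    rw [conj_pow, pow_pp, v_four]
  obtain ⟨c, d, hc, hd, e⟩ := four_cases h hS hg (by
    rw [e1, conj_sq, mul_pp, hW.ww, one_pp, mul_one, mul_inv_cancel])
  rw [e1] at e
  obtain ⟨rfl, rfl⟩ := eq_a h hW hS hc hd (isConj_of e).symm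
  exact e

omit h hW in
/-- the squares in `S` -/
theorem sq_cases {s : G} (hs : s ∈ Sw ψ τ) {c d : W} (e : s * s = ψ (c, d)) :
    (∃ p, c = p * p) ∨ IsConj c d := by
  obtain ⟨p, q, rfl | rfl⟩ := hS.mem_Sw.1 hs
  · rw [mul_pp, hS.eq_iff] at e
    exact Or.inl ⟨p, e.1.symm⟩
  · rw [hS.mul_ττ, hS.eq_iff] at e
    exact Or.inr (e.1 ▸ e.2 ▸ conj_mul_comm p q)

omit h hW in
theorem diag_sq (p : W) : ψ (p, 1) * τ * (ψ (p, 1) * τ) = ψ (p, p) := by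
  rw [hS.mul_ττ, mul_one, one_mul]

omit h hW in
/-- an extremal conjugate of a diagonal element is a square -/
theorem ext_sq {t : G} (ht : t ∈ Sw ψ τ) {p : W} (e : IsConj (ψ (p, p)) t)
    (hmax : ∀ s ∈ Sw ψ τ, IsConj t s →
      Nat.card ↥(Sw ψ τ ⊓ Cx s) ≤ Nat.card ↥(Sw ψ τ ⊓ Cx t)) : ∃ s ∈ Sw ψ τ, s * s = t := by
  obtain ⟨c, e⟩ := isConj_iff.1 e
  obtain ⟨g, -, e1, hg⟩ := exists_ext hS.syl.pgroup le_top
    (isSylowIn_cent_of_max hS.syl ht fun g _ hg => hmax _ hg (isConj_of rfl)) (mem_top c) e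
  refine ⟨_, hg _ (Syl5.ppτ_mem (p, 1)) ?_, ?_⟩
  · rw [← diag_sq hS, ← mul_assoc (ψ (p, 1) * τ)]
  · rw [conj_sq, diag_sq hS, e1]

omit h hW in
theorem card_T_le (p q : W) :
    Nat.card (Cx p) * Nat.card (Cx q) ≤ Nat.card ↥(Sw ψ τ ⊓ Cx (ψ (p, q))) := by
  rw [← hS.card_cent_T]
  exact card_le_of_le (inf_le_inf_right _ le_sup_left)

omit h hW in
theorem card_eq_T {p q : W} (hn : ¬ IsConj p q) :
    Nat.card ↥(Sw ψ τ ⊓ Cx (ψ (p, q))) = Nat.card (Cx p) * Nat.card (Cx q) := by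
  rw [hS.cent_in hn, hS.card_cent_T]

end S

end Sd

end CfsgLib.GHD
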