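import Mathlib
import Cfsg.Agent.Lib.GHD.FBase
import Cfsg.Agent.Lib.TwoGrp.QD2
import Cfsg.Agent.Lib.GHD.FSd0

/-! Package FSD1 of `plans/GHD.md`: fusion, `W` quasi-dihedral. -/

set_option autoImplicit false
set_option linter.unusedSectionVars false

namespace CfsgLib.GHD

open Subgroup Cfsg CfsgLib.W2 CfsgLib.Tech CfsgLib.PComp CfsgLib.Abel2 CfsgLib.L3K CfsgLib.GHA
open CfsgLib.TwoGrp

universe u

variable {G : Type u} [Group G] [Finite G] [IsSimpleGroup G] {W : Type*} [Group W] [Finite W]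
  {k : ℕ} {x y : W} {ψ : W × W →* G} {τ : G}

namespace Sd

variable (h : IsQD ⊤ k x y) (hW : WD (x ^ (4 * k : ℤ)) y (x * y) (x ^ (2 * k : ℤ)))
  (hS : Syl5 ψ τ)
include h hW hS

theorem three {t : G} (ht : orderOf t = 2) : IsConj t (ψ (x ^ (4 * k : ℤ), 1)) ∨
    IsConj t (ψ (x ^ (4 * k : ℤ), x ^ (4 * k : ℤ))) ∨ IsConj t (ψ (y, y)) := by
  obtain ⟨f, hf⟩ := exists_f h
  obtain ⟨p, q, e1, e2⟩ := hS.thompson hW f ht
  have h2 : orderOf (ψ (p, q)) = 2 := by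
    obtain ⟨c, e⟩ := isConj_iff.1 e2
    rw [← e, ord_conj, ht]
  have h3 := sq_of_ord h2
  rw [mul_pp, hS.eq_one_iff] at h3
  have hn : ∀ {v}, Nc (x ^ (4 * k : ℤ)) v → f v ≠ 1 := fun hv => by
    obtain ⟨n, e⟩ := nc_conj h hv
    rwa [← c2_conj f (isConj_of e)]
  have hw := hW.hom_w f
  rcases WD.invol_cases (x ^ (4 * k : ℤ)) h3.1 with rfl | rfl | hp <;>
    rcases WD.invol_cases (x ^ (4 * k : ℤ)) h3.2 with rfl | rfl | hq
  · exact absurd (one_pp ψ) (ne_one_of_ord h2)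
  · exact Or.inl (e2.trans (z12 hS _ _))
  · exact absurd (e1.symm.trans f.map_one) (hn hq)
  · exact Or.inl e2
  · exact Or.inr (Or.inl e2)
  · exact absurd (e1.symm.trans hw) (hn hq)
  · exact absurd (e1.trans f.map_one) (hn hp)
  · exact absurd (e1.trans hw) (hn hp)
  · obtain ⟨m, e⟩ := nc_conj h hp
    obtain ⟨n, e'⟩ := nc_conj h hq
    exact Or.inr (Or.inr (e2.trans (isConj_of (pp_conj e e')).symm))

omit h hS in
theorem not_conj_c {v c : W} (hv : Nc (x ^ (4 * k : ℤ)) v) (hc : c = 1 ∨ c = x ^ (4 * k : ℤ)) :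
    ¬ IsConj v c := fun e => by
  obtain ⟨n, e⟩ := isConj_iff.1 e.symm
  rcases hc with rfl | rfl
  · exact hv.ne_one (by rw [← e]; simp)
  · exact hv.ne (by rw [← e, hW.w_comm n]; simp)

/-- the conjugates in `S` of `(u, u)` -/
theorem uu_cases (h1 : ¬ IsConj (ψ (y, y)) (ψ (x ^ (4 * k : ℤ), 1)))
    (h2 : ¬ IsConj (ψ (y, y)) (ψ (x ^ (4 * k : ℤ), x ^ (4 * k : ℤ)))) {s : G} (hs : s ∈ Sw ψ τ)
    (e : IsConj (ψ (y, y)) s) : Nat.card ↥(Sw ψ τ ⊓ Cx s) ≤ 32 * k ∨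
      (Nat.card ↥(Sw ψ τ ⊓ Cx s) ≤ 64 * k ∧
        ∃ c, (c = 1 ∨ c = x ^ (4 * k : ℤ)) ∧ IsConj s (ψ (y, c))) := by
  have hk := k_pos h
  obtain ⟨p, q, rfl | rfl⟩ := hS.mem_Sw.1 hs
  swap
  · have := hS.card_cent_out hW (p, q)
    rw [card_W h] at this
    exact Or.inl (by omega)
  have h3 : ψ (p, q) * ψ (p, q) = 1 := by
    obtain ⟨c, e⟩ := isConj_iff.1 e
    rw [← e, conj_sq, mul_pp, h.yy, one_pp, mul_one, mul_inv_cancel]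
  rw [mul_pp, hS.eq_one_iff] at h3
  have hc : ∀ c : W, Nat.card (Cx c) ≤ 16 * k := fun c => by
    rw [← card_W h]; exact card_le_card_group _
  have k1 : ∀ {v c : W}, Nc (x ^ (4 * k : ℤ)) v → (c = 1 ∨ c = x ^ (4 * k : ℤ)) →
      Nat.card ↥(Sw ψ τ ⊓ Cx (ψ (v, c))) ≤ 64 * k ∧
        ∃ c', (c' = 1 ∨ c' = x ^ (4 * k : ℤ)) ∧ IsConj (ψ (v, c)) (ψ (y, c')) := by
    intro v c hv hc'
    obtain ⟨n, e⟩ := nc_conj h hv
    refine ⟨?_, c, hc', (isConj_of (pp_conj (n := 1) e (by simp))).symm⟩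
    rw [card_eq_T hS (not_conj_c hW hv hc'), card_nc h hv]
    have := hc c
    omega
  have k2 : ∀ {v c : W}, Nc (x ^ (4 * k : ℤ)) v → (c = 1 ∨ c = x ^ (4 * k : ℤ)) →
      Nat.card ↥(Sw ψ τ ⊓ Cx (ψ (c, v))) ≤ 64 * k ∧
        ∃ c', (c' = 1 ∨ c' = x ^ (4 * k : ℤ)) ∧ IsConj (ψ (c, v)) (ψ (y, c')) := by
    intro v c hv hc'
    obtain ⟨e1, c', e2, e3⟩ := k1 hv hc'
    refine ⟨?_, c', e2, (z12 hS _ _).trans e3⟩
    rwa [← hS.swap, card_cent_conj Syl5.τ_mem]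
  rcases WD.invol_cases (x ^ (4 * k : ℤ)) h3.1 with rfl | rfl | hp <;>
    rcases WD.invol_cases (x ^ (4 * k : ℤ)) h3.2 with rfl | rfl | hq
  · rw [one_pp, isConj_one_left, hS.eq_one_iff] at e
    exact absurd e.1 hW.nc.ne_one
  · exact absurd (e.trans (z12 hS _ _)) h1
  · exact Or.inr (k2 hq (Or.inl rfl))
  · exact absurd e h1
  · exact absurd e h2
  · exact Or.inr (k2 hq (Or.inr rfl))
  · exact Or.inr (k1 hp (Or.inl rfl))
  · exact Or.inr (k1 hp (Or.inr rfl))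
  · have := hS.card_cent_in hW p q
    rw [card_nc h hp, card_nc h hq] at this
    exact Or.inl (by omega)

theorem uc_not (h1 : ¬ IsConj (ψ (y, y)) (ψ (x ^ (4 * k : ℤ), 1)))
    (h2 : ¬ IsConj (ψ (y, y)) (ψ (x ^ (4 * k : ℤ), x ^ (4 * k : ℤ)))) {c : W}
    (hc : c = 1 ∨ c = x ^ (4 * k : ℤ)) : ¬ IsConj (ψ (y, y)) (ψ (y, c)) := fun e => by
  obtain ⟨s, hs, e1⟩ := ext_sq hS (Syl5.pp_mem _) e fun s hs e' => by
    have k1 := card_T_le hS y c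
    have k2 : Cx c = ⊤ := eq_top_iff.2 fun g _ => mem_Cx.2 (by
      rcases hc with rfl | rfl
      · simp
      · exact hW.w_comm g)
    rw [k2, card_top, card_W h, card_nc h hW.nc] at k1
    rcases uu_cases h hW hS h1 h2 hs (e.trans e') with k3 | k3
    · omega
    · omega
  rcases sq_cases hS hs e1 with ⟨p, e2⟩ | e2
  · exact sq_not_nc h p (e2 ▸ hW.nc)
  · exact not_conj_c hW hW.nc hc e2

theorem τ_not (h1 : ¬ IsConj (ψ (y, y)) (ψ (x ^ (4 * k : ℤ), 1)))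
    (h2 : ¬ IsConj (ψ (y, y)) (ψ (x ^ (4 * k : ℤ), x ^ (4 * k : ℤ)))) :
    ¬ IsConj (ψ (y, y)) τ := fun e => by
  obtain ⟨s, hs, e1⟩ := ext_sq hS Syl5.τ_mem e fun s hs e' => by
    rw [hS.card_cent_τ hW, card_W h]
    rcases uu_cases h hW hS h1 h2 hs (e.trans e') with k3 | ⟨-, c, hc, k3⟩
    · omega
    · exact absurd ((e.trans e').trans k3) (uc_not h hW hS h1 h2 hc)
  obtain ⟨p, q, e2⟩ := hS.sq_mem hs
  exact hS.ne_τ hW (p, q) 1 (by rw [← e2, e1, map_one, one_mul])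

theorem two {t : G} (ht : orderOf t = 2)
    (hn : ¬ IsConj (ψ (y, y)) (ψ (x ^ (4 * k : ℤ), 1)) →
      ¬ IsConj (ψ (y, y)) (ψ (x ^ (4 * k : ℤ), x ^ (4 * k : ℤ))) → ¬ IsConj (ψ (y, y)) t) :
    IsConj t (ψ (x ^ (4 * k : ℤ), 1)) ∨ IsConj t (ψ (x ^ (4 * k : ℤ), x ^ (4 * k : ℤ))) := by
  rcases three h hW hS ht with e | e | e
  · exact Or.inl e
  · exact Or.inr e
  · by_contra! h0
    exact hn (fun e' => h0.1 (e.trans e')) (fun e' => h0.2 (e.trans e')) e.symm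

theorem τ_conj_z : IsConj (ψ (x ^ (4 * k : ℤ), 1)) τ := by
  rcases two h hW hS (hS.ord_τ hW) (τ_not h hW hS) with e | e
  · exact e.symm
  obtain ⟨g, e1, hg⟩ := hS.ext_a hW e
  have e2 := a_fix h hW hS (hg _ (Syl5.pp_mem _) (hS.τ_mul _ _).symm)
  exact (hS.ne_τ hW _ 1 ((conj_inj (e2.trans e1.symm)).trans (by rw [map_one, one_mul]))).elim

omit h hW in
theorem fu_of {v c : W} {g : G} (e1 : g * ψ (1, c) * g⁻¹ = ψ (1, c))
    (e2 : g * ψ (v, 1) * g⁻¹ = ψ (c, 1)) : Fu ψ c v :=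
  ⟨τ * (g * τ), mem_Cx'.2 (conj_trans (conj_trans (hS.swap _ _) e1) (hS.swap _ _)),
    conj_trans (conj_trans (hS.swap _ _) e2) (hS.swap _ _)⟩

end Sd

open Sd in
theorem fu_sd (h : IsQD ⊤ k x y) (hW : WD (x ^ (4 * k : ℤ)) y (x * y) (x ^ (2 * k : ℤ)))
    (hS : Syl5 ψ τ) : ∃ ψ' : W × W →* G, Syl5 ψ' τ ∧ Fu ψ' (x ^ (4 * k : ℤ)) y ∧
      IsConj (ψ' (x ^ (4 * k : ℤ), 1)) τ := by
  have hτ := τ_conj_z h hW hS
  have ho : orderOf (ψ (y, 1)) = 2 := ord_two (by rw [mul_pp, h.yy, mul_one, one_pp])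
    fun e => hW.nc.ne_one (hS.eq_one_iff.1 e).1
  have hc : ψ (1, x ^ (k : ℤ)) * ψ (y, 1) = ψ (y, 1) * ψ (1, x ^ (k : ℤ)) := by
    rw [hS.comm_iff]; simp
  rcases two h hW hS ho (fun h1 h2 => uc_not h hW hS h1 h2 (Or.inl rfl)) with e | e
  · obtain ⟨g, e1, hg⟩ := hS.ext_z hW e
    rcases Sd.z2_cases h hW hS (mem_sup_left (hg _ (Syl5.pp_mem _) hc)) with e2 | e2
    · exact absurd (hS.eq_iff.1 (conj_inj (e1.trans e2.symm))).1 hW.nc.ne_one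
    · exact ⟨ψ, hS, fu_of hS e2 e1, hτ⟩
  · obtain ⟨g, e1, e2⟩ : ∃ g, g * ψ (y, 1) * g⁻¹ = ψ (x ^ (4 * k : ℤ), x ^ (4 * k : ℤ)) ∧
        g * ψ (1, x ^ (4 * k : ℤ)) * g⁻¹ = ψ (1, x ^ (4 * k : ℤ)) := by
      obtain ⟨g, e1, hg⟩ := hS.ext_a hW e
      rcases Sd.z2_cases h hW hS (hg _ (Syl5.pp_mem _) hc) with e2 | e2
      · exact ⟨τ * g, conj_trans e1 (hS.swap _ _), conj_trans e2 (hS.swap _ _)⟩
      · exact ⟨g, e1, e2⟩
    obtain ⟨φ, hφ, hu⟩ := hW.nu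
    obtain ⟨ψ', hS', e'⟩ := hS.twist hW hφ
    have k1 : ψ' (x ^ (4 * k : ℤ), 1) = ψ (x ^ (4 * k : ℤ), 1) := by
      rw [e', hW.map_w hφ, map_one, mul_one, mul_one]
    have k2 : ψ' (1, x ^ (4 * k : ℤ)) = ψ (1, x ^ (4 * k : ℤ)) := by
      rw [e', hW.map_w hφ, map_one, mul_one, one_mul]
    refine ⟨ψ', hS', fu_of hS' (g := g) (by rw [k2, e2]) ?_, k1 ▸ hτ⟩
    have k3 : ψ' (y, 1) = ψ (y, 1) * ψ (1, x ^ (4 * k : ℤ)) := by
      rw [e', hu, map_one, mul_pp, mul_one, mul_one, one_mul]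
    rw [k1, k3, ← conj_mul, e1, e2, mul_pp, hW.ww, mul_one]

end CfsgLib.GHD
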