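import Mathlib
import Cfsg.Agent.Lib.GHD.FBase
import Cfsg.Agent.Lib.TwoGrp.QD2
import Cfsg.Agent.Lib.GHD.FSd0

/-! Package FSD2 of `plans/GHD.md`: fusion, `W` quasi-dihedral. -/

set_option autoImplicit false
set_option linter.unusedSectionVars false

namespace CfsgLib.GHD

open Subgroup Cfsg CfsgLib.W2 CfsgLib.Tech CfsgLib.PComp CfsgLib.Abel2 CfsgLib.L3K CfsgLib.GHA
open CfsgLib.TwoGrp

universe u

variable {G : Type u} [Group G] [Finite G] [IsSimpleGroup G] {W : Type*} [Group W] [Finite W]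
  {k : ℕ} {x y : W} {ψ : W × W →* G} {τ : G}

namespace Sd

variable (h : IsQD ⊤ k x y) (hW : WD (x ^ (4 * k : ℤ)) y (x * y) (x ^ (2 * k : ℤ)))
  (hS : Syl5 ψ τ)

section fj
variable {l : W →* Multiplicative (ZMod 2)} (l1 : ∀ a : ℤ, l (x ^ (2 * a + 1) * y) ≠ 1)
  (l2 : ∀ p, p * p = 1 → l p = 1)

theorem l_i (m : ℤ) : l (x ^ (2 * m)) = 1 := by rw [map_zpow, c2_even]

include l1 in
theorem l_j : l (x * y) ≠ 1 := by simpa using l1 0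

include h l1 in
theorem ty {p : W} (e : p * p = x ^ (4 * k : ℤ)) :
    ((∃ n, n * x ^ (2 * k : ℤ) * n⁻¹ = p) ∧ l p = 1 ∧ Nat.card (Cx p) = 8 * k) ∨
      ((∃ n, n * (x * y) * n⁻¹ = p) ∧ l p ≠ 1 ∧ Nat.card (Cx p) = 4) := by
  rcases sq_z h e with e | ⟨a, rfl⟩
  · obtain ⟨n, rfl⟩ := i_conj h e
    refine Or.inl ⟨⟨n, rfl⟩, ?_, ?_⟩
    · rw [← c2_conj l (isConj_of rfl), l_i]
    · rw [← cj_Cx, card_cj, card_in h (i_sq h)]
  · exact Or.inr ⟨odd_conj h a, l1 a, card_out h _⟩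

include h in
theorem x0_sq : ψ (x * y, x ^ (2 * k : ℤ)) * ψ (x * y, x ^ (2 * k : ℤ)) =
    ψ (x ^ (4 * k : ℤ), x ^ (4 * k : ℤ)) := by rw [mul_pp, j_sq h, h.w_mul_w]

include h hW hS

omit h in
theorem a_sq {p q : W} (e : IsConj (ψ (x ^ (4 * k : ℤ), x ^ (4 * k : ℤ))) (ψ (p, q))) :
    p * p = 1 ∧ q * q = 1 := by
  obtain ⟨c, e⟩ := isConj_iff.1 e
  rw [← hS.eq_one_iff, ← mul_pp, ← e, conj_sq, mul_pp, hW.ww, one_pp, mul_one, mul_inv_cancel]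

omit hW hS in
theorem x0_conj_sq {s : G} (e : IsConj (ψ (x * y, x ^ (2 * k : ℤ))) s) :
    IsConj (ψ (x ^ (4 * k : ℤ), x ^ (4 * k : ℤ))) (s * s) := by
  obtain ⟨c, rfl⟩ := isConj_iff.1 e
  rw [conj_sq, x0_sq h]
  exact isConj_of rfl

theorem x0_in {p q : W} (e : IsConj (ψ (x * y, x ^ (2 * k : ℤ))) (ψ (p, q))) :
    p * p = x ^ (4 * k : ℤ) ∧ q * q = x ^ (4 * k : ℤ) := by
  have e1 := x0_conj_sq h e
  rw [mul_pp] at e1
  have e2 := a_sq hW hS e1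
  exact eq_a h hW hS (sq_inv h e2.1) (sq_inv h e2.2) e1.symm

include l2 in
theorem x0_trans (hτ : IsConj (ψ (x ^ (4 * k : ℤ), 1)) τ) :
    ∃ p q, l p = l q ∧ IsConj (ψ (x * y, x ^ (2 * k : ℤ))) (ψ (p, q)) := by
  obtain ⟨M, -, hi, m1, m2⟩ := hS.exists_sub hW l
  by_contra! h0
  have h4 : ψ (x * y, x ^ (2 * k : ℤ)) ^ 4 = 1 := by
    rw [show 4 = 2 + 2 from rfl, pow_add, sq, x0_sq h, mul_pp, hW.ww, one_pp]
  obtain ⟨N, -, hN, -⟩ := Transfer.exists_index_two_of_parity hS.odd_index hi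
    (ψ (x * y, x ^ (2 * k : ℤ))) (fun n t ht hn => by
      have e0 : IsConj (ψ (x * y, x ^ (2 * k : ℤ)) ^ n) (t⁻¹ * ψ (x * y, x ^ (2 * k : ℤ)) ^ n * t) :=
        isConj_of (g := t⁻¹) (by rw [inv_inv])
      have h1 := hn.trans (orderOf_dvd_of_pow_eq_one h4)
      have h2 := Nat.le_of_dvd (by norm_num) h1
      interval_cases n
      · omega
      · refine iff_of_false (fun hm => ?_) (by decide)
        rw [pow_one] at e0 ht hm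
        obtain ⟨p, q, e | e⟩ := hS.mem_Sw.1 ht <;> rw [e] at e0 hm
        · exact h0 p q ((m1 p q).1 hm) e0
        · have e1 := x0_conj_sq h e0
          rw [hS.mul_ττ] at e1
          exact (m2 p q).1 hm (c2_mul _ _ (by rw [← map_mul, l2 _ (a_sq hW hS e1).1]))
      · refine iff_of_true ?_ (by decide)
        rw [sq, x0_sq h] at e0 ht ⊢
        obtain ⟨p, q, e | e⟩ := hS.mem_Sw.1 ht
        · rw [e] at e0 ⊢
          have e1 := a_sq hW hS e0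
          exact (m1 p q).2 ((l2 _ e1.1).trans (l2 _ e1.2).symm)
        · have e1 : ψ (p, q) * τ * (ψ (p, q) * τ) = 1 := by
            rw [← e, mul_assoc, mul_assoc, mul_assoc, mul_inv_cancel_left, ← mul_assoc (ψ _),
              mul_pp, hW.ww, one_pp, one_mul, inv_mul_cancel]
          rw [e, hS.invol_out e1] at e0
          exact absurd (hτ.trans ((isConj_of rfl).trans e0.symm)) (hS.not_conj hW)
      · omega
      · rw [h4]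
        exact iff_of_true (by simp) (by decide))
  exact hS.no_index_two hW N hN

include l1 in
theorem x0_cases {s : G} (hs : s ∈ Sw ψ τ) (e : IsConj (ψ (x * y, x ^ (2 * k : ℤ))) s) :
    Nat.card ↥(Sw ψ τ ⊓ Cx s) ≤ 32 * k ∨
      ∃ t ∈ Sw ψ τ, t * ψ (x ^ (2 * k : ℤ), x ^ (2 * k : ℤ)) * t⁻¹ = s := by
  have hk := k_pos h
  obtain ⟨p, q, rfl | rfl⟩ := hS.mem_Sw.1 hs
  swap
  · have := hS.card_cent_out hW (p, q)
    rw [card_W h] at this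
    exact Or.inl (by omega)
  obtain ⟨hp, hq⟩ := x0_in h hW hS e
  rcases ty h l1 hp with ⟨⟨m, e1⟩, a1, b1⟩ | ⟨-, a1, b1⟩ <;>
    rcases ty h l1 hq with ⟨⟨n, e2⟩, a2, b2⟩ | ⟨-, a2, b2⟩
  · exact Or.inr ⟨_, Syl5.pp_mem _, pp_conj e1 e2⟩
  · rw [card_eq_T hS fun e' => a2 ((c2_conj l e').symm.trans a1), b1, b2]
    exact Or.inl (by omega)
  · rw [card_eq_T hS fun e' => a1 ((c2_conj l e').trans a2), b1, b2]
    exact Or.inl (by omega)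
  · have := hS.card_cent_in hW p q
    rw [b1, b2] at this
    exact Or.inl (by omega)

include l1 l2 in
theorem x0_ii (hτ : IsConj (ψ (x ^ (4 * k : ℤ), 1)) τ) :
    IsConj (ψ (x * y, x ^ (2 * k : ℤ))) (ψ (x ^ (2 * k : ℤ), x ^ (2 * k : ℤ))) := by
  by_contra h0
  obtain ⟨p, q, e1, e2⟩ := x0_trans h hW hS l2 hτ
  obtain ⟨hp, hq⟩ := x0_in h hW hS e2
  rcases ty h l1 hp with ⟨⟨m, f1⟩, a1, -⟩ | ⟨⟨m, f1⟩, a1, -⟩ <;>
    rcases ty h l1 hq with ⟨⟨n, f2⟩, a2, -⟩ | ⟨⟨n, f2⟩, a2, -⟩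
  · exact h0 (e2.trans (isConj_of (pp_conj f1 f2)).symm)
  · exact a2 (e1.symm.trans a1)
  · exact a1 (e1.trans a2)
  obtain ⟨s, hs, e3⟩ := ext_sq hS (Syl5.pp_mem _) ((isConj_of (pp_conj f1 f2)).trans e2.symm)
    fun s hs e' => by
      have k1 := card_T_le hS (x * y) (x ^ (2 * k : ℤ))
      have k2 := card_out h 1
      rw [zpow_one] at k2
      rw [k2, card_in h (i_sq h)] at k1
      rcases x0_cases h hW hS l1 hs e' with k3 | ⟨t, -, k3⟩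
      · omega
      · exact absurd (e'.trans (isConj_of k3).symm) h0
  rcases sq_cases hS hs e3 with ⟨r, e4⟩ | e4
  · exact l_j l1 (by rw [e4, map_mul, c2_sq])
  · exact l_j l1 ((c2_conj l e4).trans (l_i _))

end fj

include h hW hS

theorem x0_ext (hτ : IsConj (ψ (x ^ (4 * k : ℤ), 1)) τ) :
    ∃ g, g * ψ (x * y, x ^ (2 * k : ℤ)) * g⁻¹ = ψ (x ^ (2 * k : ℤ), x ^ (2 * k : ℤ)) ∧
      g * ψ (1, x ^ (4 * k : ℤ)) * g⁻¹ = ψ (1, x ^ (4 * k : ℤ)) ∧ g * ψ (x * y, 1) * g⁻¹ ∈ Sw ψ τ := by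
  obtain ⟨l, l1, l2⟩ := exists_lam h
  have e0 := x0_ii h hW hS l1 l2 hτ
  obtain ⟨c, e⟩ := isConj_iff.1 e0
  obtain ⟨g, -, e1, hg⟩ := exists_ext hS.syl.pgroup le_top
    (isSylowIn_cent_of_max hS.syl (Syl5.pp_mem _) fun g _ hg => by
      rcases x0_cases h hW hS l1 hg (e0.trans (isConj_of rfl)) with k3 | ⟨t, ht, k3⟩
      · have k1 := card_T_le hS (x ^ (2 * k : ℤ)) (x ^ (2 * k : ℤ))
        rw [card_in h (i_sq h)] at k1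
        have hk := k_pos h
        nlinarith
      · rw [← k3, card_cent_conj ht]) (mem_top c) e
  have k1 := hg _ (Syl5.pp_mem (x * y, 1)) (by rw [hS.comm_iff]; simp)
  rcases Sd.z2_cases h hW hS (hg _ (Syl5.pp_mem (1, x ^ (k : ℤ))) (by
    rw [hS.comm_iff]; exact ⟨by simp, zpow_mul_comm x _ _⟩)) with e2 | e2
  · refine ⟨τ * g, conj_trans e1 (hS.swap _ _), conj_trans e2 (hS.swap _ _), ?_⟩
    rw [conj_trans (g := g) rfl rfl]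
    exact mul_mem (mul_mem Syl5.τ_mem k1) (inv_mem Syl5.τ_mem)
  · exact ⟨g, e1, e2, k1⟩

end Sd

open Sd in
theorem fj_sd (h : IsQD ⊤ k x y) (hW : WD (x ^ (4 * k : ℤ)) y (x * y) (x ^ (2 * k : ℤ)))
    (hS : Syl5 ψ τ) (hτ : IsConj (ψ (x ^ (4 * k : ℤ), 1)) τ) :
    ∃ c : W, (c = 1 ∨ c = x ^ (4 * k : ℤ)) ∧
      ∃ g ∈ Cx (ψ (x ^ (4 * k : ℤ), 1)) ⊓ Cx (ψ (1, x ^ (4 * k : ℤ))),
        g * ψ (x * y, c) * g⁻¹ = ψ (x ^ (2 * k : ℤ), 1) := by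
  obtain ⟨g, e1, e2, hg⟩ := x0_ext h hW hS hτ
  have e3 : g * ψ (x ^ (4 * k : ℤ), 1) * g⁻¹ = ψ (x ^ (4 * k : ℤ), 1) := by
    have : ψ (x ^ (4 * k : ℤ), 1) = ψ (x * y, x ^ (2 * k : ℤ)) * ψ (x * y, x ^ (2 * k : ℤ)) *
        ψ (1, x ^ (4 * k : ℤ)) := by rw [x0_sq h, mul_pp, hW.ww, mul_one]
    conv_lhs => rw [this, ← conj_mul, ← conj_mul, e1, e2, mul_pp, mul_pp, h.w_mul_w, hW.ww, mul_one]
  have c1 : g * ψ (x * y, 1) * g⁻¹ ∈ Cx (ψ (x ^ (4 * k : ℤ), 1)) := by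
    rw [← e3, conj_mem_Cx]
    exact hS.T_le hW ⟨_, rfl⟩
  have c2 : g * ψ (x * y, 1) * g⁻¹ ∈ Cx (ψ (x ^ (2 * k : ℤ), x ^ (2 * k : ℤ))) := by
    rw [← e1, conj_mem_Cx, mem_Cx, hS.comm_iff]; simp
  have c3 := conj_sq g (ψ (x * y, 1))
  rw [mul_pp, j_sq h, mul_one, e3] at c3
  obtain ⟨p, q, e | e⟩ := hS.mem_Sw.1 hg
  swap
  · rw [e, Cx_comm, mem_Cx, hS.comm_out_iff] at c1
    exact absurd (mul_right_cancel (c1.1.trans ((mul_one p).trans (one_mul p).symm))) hW.w_ne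
  rw [e, mem_Cx, hS.comm_iff] at c2
  rw [e, mul_pp, hS.eq_iff] at c3
  obtain ⟨a, rfl⟩ := cent_in h (i_sq h) c2.1
  obtain ⟨b, rfl⟩ := cent_in h (i_sq h) c2.2
  have hc := h.eq_of_sq_eq_one c3.2
  obtain ⟨n, hn⟩ := i_conj h (h.eq_of_sq_eq_z c3.1)
  have e4 : g * ψ (1, x ^ b) * g⁻¹ = ψ (1, x ^ b) := by
    rcases hc with e' | e' <;> rw [e']
    · simp [one_pp]
    · exact e2
  refine ⟨_, hc, ψ (n⁻¹, 1) * g, mul_mem (mem_inf.2 ⟨hS.T_le hW ⟨_, rfl⟩, hS.T_le' hW ⟨_, rfl⟩⟩)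
    (mem_inf.2 ⟨mem_Cx'.2 e3, mem_Cx'.2 e2⟩), conj_trans (q := ψ (x ^ a, 1)) ?_
      (pp_conj (conj_symm hn) (by simp))⟩
  have : ψ (x * y, x ^ b) = ψ (x * y, 1) * ψ (1, x ^ b) := by rw [mul_pp, mul_one, one_mul]
  rw [this, ← conj_mul, e, e4, mul_pp, c3.2, mul_one]

namespace Sd

variable (h : IsQD ⊤ k x y) (hW : WD (x ^ (4 * k : ℤ)) y (x * y) (x ^ (2 * k : ℤ)))
  (hS : Syl5 ψ τ)

/-- the quaternion subgroup `{(x ^ (2 m), 1), (x ^ (2 m + 1) y, c)}` -/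
def QQ (h : IsQD ⊤ k x y) {c : W} (hc : c * c = 1) : Subgroup (W × W) where
  carrier := {p | ∃ m : ℤ, p = (x ^ (2 * m), 1) ∨ p = (x ^ (2 * m + 1) * y, c)}
  one_mem' := ⟨0, Or.inl (by simp [Prod.one_eq_mk])⟩
  mul_mem' := by
    rintro _ _ ⟨m, rfl | rfl⟩ ⟨n, rfl | rfl⟩
    · exact ⟨m + n, Or.inl (Prod.ext (by simp only [Prod.mk_mul_mk]; group) (mul_one _))⟩
    · exact ⟨m + n, Or.inr (Prod.ext (by simp only [Prod.mk_mul_mk]; group) (one_mul _))⟩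
    · exact ⟨m + (4 * k - 1) * n, Or.inr (Prod.ext (by
        simp only [Prod.mk_mul_mk]; rw [h.xpowy_mul_xpow]; congr 2; ring) (mul_one _))⟩
    · exact ⟨m + (4 * k - 1) * n + 2 * k, Or.inl (Prod.ext (by
        simp only [Prod.mk_mul_mk]; rw [h.xpowy_mul_xpowy]; congr 1; ring) hc)⟩
  inv_mem' := by
    rintro _ ⟨m, rfl | rfl⟩
    · exact ⟨-m, Or.inl (Prod.ext (by simp only [Prod.inv_mk]; group) inv_one)⟩
    · exact ⟨(4 * k + 1) * m + 2 * k, Or.inr (Prod.ext (by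
        simp only [Prod.inv_mk]; rw [h.xpowy_inv]; congr 2; ring) (inv_eq_of_mul_eq_one_right hc))⟩

include h hW hS

/-- EXT in `H` towards `(x ^ m, 1)` -/
theorem ext_H {m : ℤ} (hm : x ^ m * x ^ m ≠ 1) {g s : G} (hg : g ∈ Cx (ψ (x ^ (4 * k : ℤ), 1)))
    (e : g * s * g⁻¹ = ψ (x ^ m, 1)) : ∃ g ∈ Cx (ψ (x ^ (4 * k : ℤ), 1)),
      g * s * g⁻¹ = ψ (x ^ m, 1) ∧ ∀ p, ψ p * s = s * ψ p →
        ∃ (a : ℤ) (q : W), g * ψ p * g⁻¹ = ψ (x ^ a, q) := by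
  have hT := hS.syl_T hW
  obtain ⟨g, hg, e, h1⟩ := exists_ext hT.pgroup hT.le
    (isSylowIn_cent_of_index hT (b := ψ (x ^ m, 1)) ⟨_, rfl⟩ (by
      have : Cx (1 : W) = ⊤ := eq_top_iff.2 fun g _ => mem_Cx.2 (by simp)
      rw [hS.card_T, hS.card_cent_T, card_in h hm, this, card_top, card_W h]
      ring) fun g _ ⟨⟨p, q⟩, e'⟩ h2 => hm (by
        have h3 : ∀ r, p * r = r * p ∧ q * r = r * q := fun r =>
          hS.comm_iff.1 (by rw [e']; exact (mem_Cx.1 (h2 ⟨(r, r), rfl⟩)).symm)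
        have h4 := conj_sq g (ψ (x ^ m, 1))
        rw [← e', mul_pp, cent_sq h fun r => (h3 r).1, cent_sq h fun r => (h3 r).2, one_pp, eq_comm,
          conj_eq_one_iff, mul_pp, hS.eq_one_iff] at h4
        exact h4.1)) hg e
  refine ⟨g, hg, e, fun p hp => ?_⟩
  obtain ⟨⟨a, q⟩, e1⟩ := h1 _ ⟨p, rfl⟩ hp
  have h2 : g * ψ p * g⁻¹ ∈ Cx (ψ (x ^ m, 1)) := e ▸ conj_mem_Cx.2 (mem_Cx.2 hp)
  rw [← e1, mem_Cx, hS.comm_iff] at h2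
  obtain ⟨a, rfl⟩ := cent_in h hm h2.1
  exact ⟨a, q, e1.symm⟩

theorem sc1 {m a : ℤ} (hm : x ^ (2 * m) * x ^ (2 * m) ≠ 1) {g : G}
    (hg : g ∈ Cx (ψ (x ^ (4 * k : ℤ), 1)))
    (e : g * ψ (x ^ a, x ^ (4 * k : ℤ)) * g⁻¹ = ψ (x ^ (2 * m), 1)) : False := by
  obtain ⟨g, -, e, h1⟩ := ext_H h hW hS hm hg e
  have h2 : ∀ (b : ℤ) (q : W), ∃ (b' : ℤ) (q' : W), g * ψ (x ^ b, q) * g⁻¹ = ψ (x ^ b', q') :=
    fun b q => h1 _ (hS.comm_iff.2 ⟨zpow_mul_comm x _ _, hW.w_comm q⟩)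
  have hN : g ∈ NS (((zpowers x).prod ⊤).map ψ) := mem_normalizer_of_forall (by
    rintro _ ⟨⟨_, q⟩, ⟨⟨b, rfl⟩, -⟩, rfl⟩
    obtain ⟨b', q', e'⟩ := h2 b q
    exact ⟨(x ^ b', q'), ⟨⟨b', rfl⟩, mem_top _⟩, e'.symm⟩)
  obtain ⟨⟨p, d⟩, -, e1⟩ := conj_mem_of_mem_normalizer (inv_mem hN)
    (x := ψ (x ^ m, 1)) ⟨(x ^ m, 1), ⟨⟨m, rfl⟩, mem_top _⟩, rfl⟩
  have h3 : ∀ q, d * q = q * d := fun q => by
    obtain ⟨b', q', e'⟩ := h2 0 q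
    have h4 : ψ (p, d) ∈ Cx (ψ (x ^ (0 : ℤ), q)) := by
      rw [e1, ← conj_symm e', conj_mem_Cx, mem_Cx, hS.comm_iff]
      exact ⟨zpow_mul_comm x _ _, by simp⟩
    exact (hS.comm_iff.1 (mem_Cx.1 h4)).2
  have h5 := conj_sq g⁻¹ (ψ (x ^ m, 1))
  rw [← e1, mul_pp, mul_pp, cent_sq h h3, mul_one, ← zpow_add, ← two_mul, conj_symm e,
    hS.eq_iff] at h5
  exact hW.w_ne h5.2.symm

omit h hW in
theorem sq_ne {p q : W} {g : G} {c : W} (hc : c * c = 1) (hq : q * q ≠ 1)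
    (e : g * ψ (p, c) * g⁻¹ = ψ (q, 1)) : p * p ≠ 1 := fun hp => by
  have h1 := conj_sq g (ψ (p, c))
  rw [e, mul_pp, mul_pp, hp, hc, one_pp, mul_one, mul_one, mul_inv_cancel, hS.eq_one_iff] at h1
  exact hq h1.1

omit h in
/-- elements of `1 × W` are not conjugate in `H` into `⟨z₁⟩` -/
theorem not_z1 {v c : W} {g : G} (hg : g ∈ Cx (ψ (x ^ (4 * k : ℤ), 1)))
    (hc : c = 1 ∨ c = x ^ (4 * k : ℤ)) (e : g * ψ (1, v) * g⁻¹ = ψ (c, 1)) : v = 1 := by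
  rcases hc with rfl | rfl
  · rw [one_pp, conj_eq_one_iff, hS.eq_one_iff] at e
    exact e.2
  · exact (hS.eq_iff.1 (conj_inj (e.trans (mem_Cx'.1 hg).symm))).2

theorem sc2 (hu : Fu ψ (x ^ (4 * k : ℤ)) y) {m a : ℤ} (hm : x ^ (2 * m) * x ^ (2 * m) ≠ 1) {g : G}
    (hg : g ∈ Cx (ψ (x ^ (4 * k : ℤ), 1)))
    (e : g * ψ (x ^ (2 * a), y) * g⁻¹ = ψ (x ^ (2 * m), 1)) : False := by
  have ha := sq_ne hS h.yy hm e
  obtain ⟨g, hg, e, h1⟩ := ext_H h hW hS hm hg e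
  obtain ⟨b, q, e1⟩ := h1 (x ^ a, 1) (hS.comm_iff.2 ⟨zpow_mul_comm x _ _, by simp⟩)
  have e2 := conj_sq g (ψ (x ^ a, 1))
  rw [e1, mul_pp, mul_pp, mul_one, ← zpow_add x a, ← two_mul] at e2
  have e3 : g * ψ (1, y) * g⁻¹ = ψ (x ^ (2 * m - 2 * b), q⁻¹ * q⁻¹) := by
    have : ψ (1, y) = ψ (x ^ (2 * a), y) * (ψ (x ^ (2 * a), 1))⁻¹ := by
      rw [inv_pp, mul_pp]; simp
    rw [this, ← conj_mul, ← conj_inv, e, ← e2, inv_pp, mul_pp]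
    congr 2 <;> group
  have e4 := conj_sq g (ψ (1, y))
  rw [e3, mul_pp, mul_pp, h.yy, mul_one, one_pp, mul_one, mul_inv_cancel, hS.eq_one_iff] at e4
  rcases sq_inv h e4.2 with e5 | e5
  · rw [e5] at e3
    exact hW.nc.ne_one (not_z1 hW hS hg (h.eq_of_sq_eq_one e4.1) e3)
  rw [e5] at e3
  rcases h.eq_of_sq_eq_one e4.1 with e6 | e6 <;> rw [e6] at e3
  · refine sc1 h hW hS (a := 2 * m) ha (inv_mem hg) (conj_symm ?_)
    have : ψ (x ^ (2 * a), 1) = ψ (x ^ (2 * a), y) * ψ (1, y) := by rw [mul_pp, h.yy, mul_one]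
    rw [this, ← conj_mul, e, e3, mul_pp, mul_one, one_mul]
  · obtain ⟨g', -, e7⟩ := hu
    exact hS.not_conj hW (((z12 hS _ _).trans (isConj_of e7).symm).trans (isConj_of e3))

theorem caseC (hu : Fu ψ (x ^ (4 * k : ℤ)) y) {m a : ℤ} (hm : x ^ (2 * m) * x ^ (2 * m) ≠ 1)
    {g : G} (hg : g ∈ Cx (ψ (x ^ (4 * k : ℤ), 1))) {q : W} (hq : q * q = 1)
    (e : g * ψ (x ^ (2 * m), 1) * g⁻¹ = ψ (x ^ a, q)) : q = 1 ∧ ∃ b, a = 2 * b := by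
  obtain ⟨b, rfl⟩ : ∃ b, a = 2 * b := by
    have e1 : (g * ψ (x ^ (2 * m), 1) * g⁻¹) ^ (4 * k : ℤ) = 1 := by
      rw [conj_zpow, zpow_pp, one_zpow, ← zpow_mul, h.eq_one_iff.2 ⟨m, by ring⟩, one_pp, mul_one,
        mul_inv_cancel]
    rw [e, zpow_pp, hS.eq_one_iff, ← zpow_mul, h.eq_one_iff] at e1
    obtain ⟨b, e2⟩ := e1.1
    refine ⟨b, mul_right_cancel₀ (b := (4 * k : ℤ)) (by have := h.kpos; omega) ?_⟩
    rw [e2]; ring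
  refine ⟨?_, b, rfl⟩
  rcases WD.invol_cases (x ^ (4 * k : ℤ)) hq with rfl | rfl | hv
  · rfl
  · exact (sc1 h hW hS hm (inv_mem hg) (conj_symm e)).elim
  · obtain ⟨n, e1⟩ := nc_conj h hv
    exact (sc2 h hW hS hu (a := b) hm (mul_mem (inv_mem hg) (hS.T_le hW ⟨(1, n), rfl⟩))
      (conj_trans (pp_conj (by simp) e1) (conj_symm e))).elim

variable {c : W} (hc : c = 1 ∨ c = x ^ (4 * k : ℤ)) {g₀ : G}
  (hg₀ : g₀ ∈ Cx (ψ (x ^ (4 * k : ℤ), 1)) ⊓ Cx (ψ (1, x ^ (4 * k : ℤ))))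
  (e₀ : g₀ * ψ (x * y, c) * g₀⁻¹ = ψ (x ^ (2 * k : ℤ), 1))
include hc hg₀ e₀

theorem caseJ (hu : Fu ψ (x ^ (4 * k : ℤ)) y) {m : ℤ} (hm : x ^ (2 * m) * x ^ (2 * m) ≠ 1)
    {g : G} (hg : g ∈ Cx (ψ (x ^ (4 * k : ℤ), 1))) {q : W} (hq : q * q = 1)
    (e : g * ψ (x ^ (2 * m), 1) * g⁻¹ = ψ (x * y, q)) : q = c := by
  have hcc : c * c = 1 := by
    rcases hc with rfl | rfl
    exacts [mul_one _, hW.ww]
  have k1 : q = c * x ^ (4 * k : ℤ) → False := by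
    rintro rfl
    refine sc1 h hW hS (a := 2 * k) hm (mul_mem (inv_mem hg) (inv_mem hg₀.1))
      (conj_trans (conj_symm ?_) (conj_symm e))
    have : ψ (x * y, c * x ^ (4 * k : ℤ)) = ψ (x * y, c) * ψ (1, x ^ (4 * k : ℤ)) := by
      rw [mul_pp, mul_one]
    rw [this, ← conj_mul, e₀, mem_Cx'.1 hg₀.2, mul_pp, mul_one, one_mul]
  rcases WD.invol_cases (x ^ (4 * k : ℤ)) hq with rfl | rfl | hv
  · exact hc.elim Eq.symm fun e' => (k1 (by rw [e', hW.ww])).elim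
  · exact hc.elim (fun e' => (k1 (by rw [e', one_mul])).elim) Eq.symm
  exfalso
  obtain ⟨g, hg, e1, h1⟩ := ext_H h hW hS hm (inv_mem hg) (conj_symm e)
  have hcq : c * q = q * c := by
    rcases hc with rfl | rfl
    exacts [by simp, (hW.w_comm q).symm]
  obtain ⟨a, r, e2⟩ := h1 (x * y, c) (hS.comm_iff.2 ⟨rfl, hcq⟩)
  have e3 := conj_sq g (ψ (x * y, c))
  rw [e2, mul_pp, mul_pp, j_sq h, hcc, mem_Cx'.1 hg, hS.eq_iff] at e3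
  obtain ⟨rfl, -⟩ := caseC h hW hS hu (i_sq h) (mul_mem hg (inv_mem hg₀.1)) e3.2
    (conj_trans (conj_symm e₀) e2)
  have e4 : g * ψ (1, c * q) * g⁻¹ = ψ (x ^ (-a + 2 * m), 1) := by
    have : ψ (1, c * q) = (ψ (x * y, c))⁻¹ * ψ (x * y, q) := by
      rw [inv_pp, mul_pp, inv_mul_cancel, inv_eq_of_mul_eq_one_right hcc]
    rw [this, ← conj_mul, ← conj_inv, e1, e2, inv_pp, mul_pp]
    congr 2 <;> group
  have e5 := conj_sq g (ψ (1, c * q))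
  rw [e4, mul_pp, mul_pp, mul_assoc c, ← mul_assoc q, ← hcq, mul_assoc c, hq, mul_one, mul_one, hcc,
    one_pp, mul_one, mul_inv_cancel, hS.eq_one_iff] at e5
  have e6 := not_z1 hW hS hg (h.eq_of_sq_eq_one e5.1) e4
  rw [← inv_eq_of_mul_eq_one_right e6, inv_eq_of_mul_eq_one_right hcc] at hv
  exact hc.elim hv.ne_one hv.ne

theorem sc_main (hu : Fu ψ (x ^ (4 * k : ℤ)) y) (hcc : c * c = 1) (n : ℕ) :
    ∀ m : ℤ, (x ^ (2 * m)) ^ 2 ^ n = 1 → ∀ g ∈ Cx (ψ (x ^ (4 * k : ℤ), 1)), ∀ p,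
      g * ψ (x ^ (2 * m), 1) * g⁻¹ = ψ p → p ∈ QQ h hcc := by
  have base : ∀ m : ℤ, x ^ (2 * m) * x ^ (2 * m) = 1 → ∀ g ∈ Cx (ψ (x ^ (4 * k : ℤ), 1)), ∀ p,
      g * ψ (x ^ (2 * m), 1) * g⁻¹ = ψ p → p ∈ QQ h hcc := fun m hm g hg p e => by
    refine ⟨m, Or.inl (hS.inj (e.symm.trans ?_))⟩
    rcases h.eq_of_sq_eq_one hm with e' | e' <;> rw [e']
    · simp [one_pp]
    · exact mem_Cx'.1 hg
  induction n with
  | zero => exact fun m hm => base m (by rw [pow_zero, pow_one] at hm; rw [hm, mul_one])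
  | succ n ih =>
    rintro m hm g hg ⟨p, q⟩ e
    by_cases h2 : x ^ (2 * m) * x ^ (2 * m) = 1
    · exact base m h2 g hg _ e
    have e1 := conj_sq g (ψ (x ^ (2 * m), 1))
    rw [e, mul_pp, mul_pp, mul_one, ← zpow_add, ← two_mul] at e1
    have hq : q * q = 1 := by
      obtain ⟨b, e2 | e2⟩ := ih (2 * m) (by
        rw [← hm, pow_succ', pow_mul, two_mul (2 * m), zpow_add, sq]) g hg _ e1.symm
      · exact (Prod.ext_iff.1 e2).2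
      · obtain ⟨b', e3⟩ := sq_eq h p
        exact absurd ((Prod.ext_iff.1 e2).1.symm.trans e3) (h.xpowy_ne _ _)
    obtain ⟨a, rfl | rfl⟩ := cases h p
    · obtain ⟨rfl, b, rfl⟩ := caseC h hW hS hu h2 hg hq e
      exact ⟨b, Or.inl rfl⟩
    obtain ⟨b, rfl | rfl⟩ := Int.even_or_odd' a
    · exact absurd (h.sq_even b) (sq_ne hS hq h2 (conj_symm e))
    obtain ⟨r, e2⟩ := odd_conj h b
    obtain rfl := caseJ h hW hS hc hg₀ e₀ hu h2 (mul_mem (hS.T_le hW ⟨(r⁻¹, 1), rfl⟩) hg) hq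
      (conj_trans e (pp_conj (conj_symm e2) (by simp)))
    exact ⟨b, Or.inr rfl⟩

end Sd

open Sd in
theorem fus_sd (h : IsQD ⊤ k x y) (hW : WD (x ^ (4 * k : ℤ)) y (x * y) (x ^ (2 * k : ℤ)))
    (hS : Syl5 ψ τ) (hu : Fu ψ (x ^ (4 * k : ℤ)) y) (hτ : IsConj (ψ (x ^ (4 * k : ℤ), 1)) τ) :
    ∃ Q, Fus ψ (x ^ (4 * k : ℤ)) y (x * y) (x ^ (2 * k : ℤ)) Q := by
  obtain ⟨c, hc, g₀, hg₀, e₀⟩ := fj_sd h hW hS hτ
  have hcc : c * c = 1 := by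
    rcases hc with rfl | rfl
    exacts [mul_one _, hW.ww]
  have hz : ∀ {d : W}, d = 1 ∨ d = x ^ (4 * k : ℤ) → d ∈ center W := by
    rintro _ (rfl | rfl)
    exacts [one_mem _, hW.w_mem]
  have key : ∀ m : ℤ, ∀ g ∈ Cx (ψ (x ^ (4 * k : ℤ), 1)), ∀ p,
      g * ψ (x ^ (2 * m), 1) * g⁻¹ = ψ p → p ∈ QQ h hcc := fun m => by
    obtain ⟨n, hn⟩ := hW.two (x ^ (2 * m))
    exact sc_main h hW hS hc hg₀ e₀ hu hcc n m hn
  refine ⟨QQ h hcc, ?_, fun p => ⟨fun hp => hz (cent_ij h ?_ ?_), fun hp => ?_⟩, hu,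
    τ * (g₀ * τ), mem_Cx'.2 (conj_trans (conj_trans (hS.swap _ _) (mem_Cx'.1 hg₀.2)) (hS.swap _ _)),
    c, hz hc, 1, one_mem _, conj_trans (conj_trans (hS.swap _ _) e₀) (hS.swap _ _)⟩
  · rintro g hg _ ⟨m, rfl | rfl⟩ p e
    · exact key m g hg p e
    · obtain ⟨r, e1⟩ := odd_conj h m
      exact key k _ (mul_mem hg (mul_mem (hS.T_le hW ⟨(r, 1), rfl⟩) (inv_mem hg₀.1))) p
        (conj_trans (conj_trans (conj_symm e₀) (pp_conj e1 (by simp))) e)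
  · exact congrArg Prod.fst (mem_centralizer_iff.1 hp _ ⟨k, Or.inl rfl⟩).symm
  · simpa using congrArg Prod.fst (mem_centralizer_iff.1 hp _ ⟨0, Or.inr rfl⟩).symm
  · rw [mem_centralizer_iff]
    rintro _ ⟨m, rfl | rfl⟩
    · exact Prod.ext (mem_center_iff.1 hp _) (by simp)
    · exact Prod.ext (mem_center_iff.1 hp _) (mem_center_iff.1 (hz hc) _).symm

end CfsgLib.GHD
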