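import Mathlib
import Cfsg.Agent.Lib.GHD.Five
import Cfsg.Agent.Lib.TwoGrp.QD2
import Cfsg.Agent.Lib.TwoGrp.Wr2

/-! Package FW of `plans/GHD.md`: quasi-dihedral and wreathed groups satisfy `WD`. -/

set_option autoImplicit false
set_option Elab.async false

namespace CfsgLib.GHD

open Subgroup Cfsg CfsgLib.W2 CfsgLib.Tech CfsgLib.PComp CfsgLib.Abel2 CfsgLib.L3K CfsgLib.GHA
open CfsgLib.TwoGrp

variable {W : Type*} [Group W] [Finite W] {k : ℕ} {x y t : W}

omit [Finite W] in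
theorem fw_sq (f : W →* Multiplicative (ZMod 2)) (v : W) : f (v * v) = 1 := by
  rw [map_mul]; exact (by decide : ∀ a : Multiplicative (ZMod 2), a * a = 1) _

omit [Finite W] in
theorem fw_cen {g : W} (hg : g ∈ center W) : g ∈ ⊤ ⊓ centralizer ((⊤ : Subgroup W) : Set W) :=
  ⟨mem_top _, mem_centralizer_iff.2 fun a _ => mem_center_iff.1 hg a⟩

theorem wd_qd (hq : IsQuasiDihedral W) (h : IsQD ⊤ k x y) :
    WD (x ^ (4 * k : ℤ)) y (x * y) (x ^ (2 * k : ℤ)) := by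
  have all : ∀ g : W, ∃ i : ℤ, g = x ^ i ∨ g = x ^ i * y := fun g => (h.mem g).1 (mem_top g)
  have wc : ∀ g : W, g * x ^ (4 * k : ℤ) = x ^ (4 * k : ℤ) * g := fun g => h.commute_z (mem_top g)
  have nc : ∀ {g : W}, Nc (x ^ (4 * k : ℤ)) g → ∃ a : ℤ, g = x ^ (2 * a) * y := fun hg =>
    (h.eq_of_orderOf_two (mem_top _) (ord_two hg.sq hg.ne_one)).resolve_left hg.ne
  have cx : ∀ a : ℤ, Cx (x ^ (2 * a) * y) = qdSub x y (4 * k) (2 * a) := fun a => by
    rw [← h.inf_centralizer_even, top_inf_eq]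
  have cd : ∀ a : ℤ, Nat.card (Cx (x ^ (2 * a) * y)) = 4 := fun a => by
    rw [cx]; simpa using h.card_qdSub (d := 4 * k) (e := 1) (mul_one _) (2 * a)
  have cen : ∀ g ∈ center W, g = 1 ∨ g = x ^ (4 * k : ℤ) := fun g hg => by
    obtain ⟨j, rfl⟩ : g ∈ zpowers (x ^ (4 * k : ℤ)) := h.inf_centralizer_self ▸ fw_cen hg
    simpa only [← zpow_mul] using h.dvd_iff_eq_one_or_z.1 (dvd_mul_right _ j)
  have zp : ∀ f : W →* Multiplicative (ZMod 2), f (x ^ (4 * k : ℤ)) = 1 := fun f => h.w_mul_w ▸ fw_sq f _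
  have yx : ∀ i : ℤ, y ≠ x ^ i := fun i => by simpa using h.xpowy_ne 0 i
  refine ⟨h.isPGroup.of_equiv topEquiv, .inl hq, h.z_mul_z, h.z_ne_one, wc, ?_, ⟨x ^ (k : ℤ), ?_⟩,
    fun g hg _ => cen g hg, fun f g hg => ?_, ⟨h.yy, by simpa using yx 0, yx _⟩, ?_, fun {a b} ha hb e => ?_,
    fun {g} hg p hp q hq => ?_, fun {g} hg => ?_, fun e => h.not_commute_w 0 (mem_center_iff.1 e _).symm,
    fun g => ?_, fun f => ?_, .inl fun v hv => ?_, ?_, 1, y, pow_one y, fun f hf => ⟨fun g e => ?_, fun e => ?_⟩⟩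
  · rw [commutator_def, h.commutator_eq, h.xpow_mem_zpowers (h.dvd_eight h.two_dvd)]
    exact h.two_dvd
  · rw [← zpow_natCast, ← zpow_mul]; congr 1; push_cast; ring
  · rcases cen g hg with rfl | rfl
    exacts [map_one f, zp f]
  · obtain ⟨j, e⟩ := h.exists_conj_xpowy 0 (2 * k)
    exact ⟨x ^ j, by rw [wc]; simpa [← mul_assoc, show (2 : ℤ) * 2 = 4 from rfl] using e⟩
  · obtain ⟨i, rfl⟩ := nc ha
    rcases (h.mem_four_iff _ b).1 (cx i ▸ mem_Cx.2 e.symm) with e | e | e | e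
    exacts [absurd e hb.ne_one, absurd e hb.ne, .inl e, .inr (e.trans (wc _).symm)]
  · obtain ⟨i, rfl⟩ := nc hg
    have e := mem_Cx.1 hq
    rcases (h.mem_four_iff _ p).1 (cx i ▸ hp) with rfl | rfl | rfl | rfl
    exacts [by simp, (wc q).symm, e.symm, by rw [mul_assoc, ← e, ← mul_assoc, ← wc, mul_assoc]]
  · obtain ⟨i, rfl⟩ := nc hg
    have := cd 0
    rw [mul_zero, zpow_zero, one_mul] at this
    rw [cd, this]
  · obtain ⟨j, rfl | rfl⟩ := all g
    · left; group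
    · right
      rw [h.xpow_conj_xpowy, wc, ← mul_assoc (x ^ _), ← zpow_add, mul_left_inj, h.eq_iff]
      exact ⟨-k, by ring⟩
  · rw [two_mul, zpow_add]; exact fw_sq f _
  · obtain ⟨i, e⟩ := nc hv
    obtain ⟨j, rfl | rfl⟩ := all v
    · exact h.xpowy_ne _ _ (e.symm.trans (zpow_add x j j).symm)
    · exact h.xpowy_ne _ _ (e.symm.trans (h.xpowy_sq j))
  · classical
    have hi : (zpowers x).index = 2 := by rw [← relIndex_top_right, h.relIndex_zpowers_x]
    refine ⟨MonoidHom.mk' (fun g => if g ∈ zpowers x then 1 else x ^ (4 * k : ℤ)) fun a b => ?_, fun g => ?_,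
      if_neg h.y_notMem⟩
    · by_cases ha : a ∈ zpowers x <;> by_cases hb : b ∈ zpowers x <;>
        simp [mul_mem_iff_of_index_two hi, ha, hb, h.z_mul_z]
    · change ite _ _ _ ∈ _
      split_ifs
      exacts [one_mem _, mem_center_iff.2 wc]
  · rw [pow_one] at e
    exact e ▸ zp f
  · rw [map_mul, e, mul_one] at hf
    ext g
    obtain ⟨j, rfl | rfl⟩ := all g <;> simp [hf, e]

theorem wd_wr (hq : IsWreathed W) (h : IsWr ⊤ k x y t) :
    WD (wu x y (2 * k) (2 * k)) (wu x y 0 (2 * k)) (wu x y k k * t) (wu x y k (-k)) := by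
  have all : ∀ g : W, ∃ a b : ℤ, g = wu x y a b ∨ g = wu x y a b * t := fun g => (h.mem g).1 (mem_top g)
  have dc : ∀ (a : ℤ) (g : W), g * wu x y a a = wu x y a a * g := fun a g => h.commute_diag (mem_top g) a
  have n2 := h.not_dvd_two
  have n3 : ¬ (4 * k : ℤ) ∣ 0 - 2 * k := by rwa [zero_sub, dvd_neg]
  have n4 : ¬ (4 * k : ℤ) ∣ 2 * k - 0 := by rwa [sub_zero]
  have nc : ∀ {g : W}, Nc (wu x y (2 * k) (2 * k)) g →
      (g = wu x y (2 * k) 0 ∨ g = wu x y 0 (2 * k)) ∨ ∃ a : ℤ, g = wu x y a (-a) * t := fun hg => by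
    rcases h.eq_of_orderOf_two (mem_top _) (ord_two hg.sq hg.ne_one) with e | e | e | e
    exacts [.inl (.inl e), .inl (.inr e), absurd e hg.ne, .inr e]
  have cu : ∀ {g : W}, g = wu x y (2 * k) 0 ∨ g = wu x y 0 (2 * k) → Cx g = wrA x y 1 1 := fun {g} hg => by
    refine le_antisymm (fun p hp => ?_) fun p hp => mem_Cx.2 (h.wrA_comm hp (by
      rcases hg with rfl | rfl <;> exact h.u_mem_U _ _))
    obtain ⟨a, b, rfl | rfl⟩ := all p
    · exact h.u_mem_U a b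
    · rcases hg with rfl | rfl
      exacts [absurd (h.commute_u_ut_iff.1 (mem_Cx.1 hp).symm) n4, absurd (h.commute_u_ut_iff.1 (mem_Cx.1 hp).symm) n3]
  have cx : ∀ a : ℤ, Cx (wu x y a (-a) * t) = wrB x y t 1 (4 * k) (a - -a) := fun a => by
    rw [← h.inf_centralizer_ut, top_inf_eq]
  have cen : ∀ g ∈ center W, ∃ a, g = wu x y a a := fun g hg => h.mem_Z.1 (h.inf_centralizer_self ▸ fw_cen hg)
  have zp : ∀ (f : W →* Multiplicative (ZMod 2)) (a : ℤ), f (wu x y a a) = 1 := fun f a => by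
    simpa only [h.ut_sq, add_zero] using fw_sq f (wu x y a 0 * t)
  have fe : ∀ (f : W →* Multiplicative (ZMod 2)) (a b : ℤ), 2 ∣ a + b → f (wu x y a b) = 1 := fun f a b ⟨c, e⟩ => by
    rw [show wu x y a b = wu x y b b * (wu x y (c - b) 0 * wu x y (c - b) 0) by
      rw [h.u_mul_u, h.u_mul_u]; congr 1 <;> omega, map_mul, zp, fw_sq, one_mul]
  have kp := h.kpos
  refine ⟨h.isPGroup.of_equiv topEquiv, .inr hq, sq_of_ord h.orderOf_z0, ne_one_of_ord h.orderOf_z0, dc _, ?_,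
    ⟨wu x y k 0 * t, ?_⟩, fun g hg e => ?_, fun f g hg => ?_,
    ⟨sq_of_ord h.orderOf_y2k, ne_one_of_ord h.orderOf_y2k, fun e => n3 (h.u_eq_iff.1 e).1⟩, ⟨t, ?_⟩,
    fun {a b} ha hb e => ?_, fun {g} hg p hp q hq => ?_, fun {g} hg => ?_, fun e => ?_,
    fun g => ?_, fun f => fe f _ _ (by simp), .inr fun R hR hc => ?_, ?_, 2 * k, y, ?_, fun f hf => ?_⟩
  · rw [commutator_def, h.commutator_eq, h.u_mem_wrA dvd_rfl]
    exact h.cY
  · rw [show 4 = 2 * 2 from rfl, pow_mul, pow_two (_ * t), h.ut_sq, pow_two, h.u_mul_u]; congr 1 <;> ring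
  · obtain ⟨a, rfl⟩ := cen g hg
    rw [h.u_mul_u, h.u_eq_one_iff] at e
    exact (h.half e.1).imp (fun e => h.u_eq_one_iff.2 ⟨e, e⟩) fun e => h.u_eq_iff.2 ⟨e, e⟩
  · obtain ⟨a, rfl⟩ := cen g hg
    exact zp f a
  · rw [h.t_conj_u, h.u_mul_u, h.u_eq_iff]
    exact ⟨⟨0, by ring⟩, -1, by ring⟩
  · rcases nc ha with ha | ⟨c, rfl⟩
    · rcases nc hb with hb | ⟨d, rfl⟩
      · rcases ha with rfl | rfl <;> rcases hb with rfl | rfl
        · exact .inl rfl
        · exact .inr (by rw [h.u_mul_u, h.u_eq_iff]; exact ⟨⟨-1, by ring⟩, 0, by ring⟩)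
        · exact .inr (by rw [h.u_mul_u, h.u_eq_iff]; exact ⟨⟨0, by ring⟩, -1, by ring⟩)
        · exact .inl rfl
      · exact absurd (cu ha ▸ mem_Cx.2 e.symm) (h.ut_notMem_wrA _ _ _ _)
    · rcases nc hb with hb | ⟨d, rfl⟩
      · exact absurd (cu hb ▸ mem_Cx.2 e) (h.ut_notMem_wrA _ _ _ _)
      · rw [h.ut_mul_u, mul_left_inj, mul_left_inj, h.u_eq_iff, h.u_eq_iff]
        rcases h.half (a := c - d) (by convert h.commute_ut_ut_iff.1 e using 1; ring) with ⟨j, e⟩ | ⟨j, e⟩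
        · exact .inl ⟨⟨-j, by linarith⟩, j, by linarith⟩
        · exact .inr ⟨⟨-j - 1, by linarith⟩, j, by linarith⟩
  · rcases nc hg with hg | ⟨c, rfl⟩
    · exact h.wrA_comm (cu hg ▸ hp) (cu hg ▸ hq)
    · exact h.wrB_comm (cx c ▸ hp) (cx c ▸ hq)
  · rw [cu (.inr rfl), h.card_U]
    rcases nc hg with hg | ⟨c, rfl⟩
    · rw [cu hg, h.card_U]
    · have := h.card_wrB (e := 1) (c := c - -c) (d := 4 * k) (f := 1) rfl (mul_one _) (by simp)
      push_cast at this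
      rw [cx, this]
      have : 0 < k := by omega
      nlinarith
  · refine n2 ?_
    convert (h.commute_u_ut_iff (c := 0) (d := 0)).1 (mem_center_iff.1 e _).symm using 1
    ring
  · obtain ⟨a, b, rfl | rfl⟩ := all g
    · exact .inl (h.u_conj_u _ _ _ _)
    · right
      rw [h.u_conj_ut, h.ut_mul_u, mul_left_inj, h.u_eq_iff]
      exact ⟨⟨0, by ring⟩, -1, by ring⟩
  · rw [h.eq_U_of_comm le_top ⟨⟨fun a b => Subtype.ext (hc a a.2 b b.2)⟩⟩ (by
      have := card_mul_index R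
      rw [hR, ← card_top (G := W), h.card_eq] at this
      linarith)]
    exact h.u_mem_U _ _
  · classical
    obtain ⟨φ, p1, p2⟩ : ∃ φ : W → W, (∀ a b, φ (wu x y a b) = wu x y (a + b) (a + b)) ∧
        ∀ a b, φ (wu x y a b * t) = wu x y (a + b) (a + b) :=
      ⟨fun g => if g ∈ wrA x y 1 1 then g * (t * g * t⁻¹) else g * g, fun a b => by
        simp only [if_pos (h.u_mem_U a b), h.t_conj_u, h.u_mul_u, add_comm b], fun a b => by
        simp only [if_neg (h.ut_notMem_wrA 1 1 a b), h.ut_sq]⟩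
    refine ⟨MonoidHom.mk' φ fun p q => ?_, fun g => ?_, (p1 _ _).trans (by rw [zero_add])⟩
    · obtain ⟨a, b, rfl | rfl⟩ := all p <;> obtain ⟨c, d, rfl | rfl⟩ := all q <;>
        simp only [h.u_mul_u, h.u_mul_ut, h.ut_mul_u, h.ut_mul_ut, p1, p2] <;> congr 1 <;> ring
    · change φ g ∈ _
      obtain ⟨a, b, rfl | rfl⟩ := all g <;> simp only [p1, p2] <;> exact mem_center_iff.2 (dc _)
  · simp [wu, ← zpow_natCast]
  · rw [map_mul, zp, one_mul] at hf
    refine ⟨fun g e => ?_, fun e => ?_⟩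
    · obtain ⟨a, b, rfl | rfl⟩ := all g
      · rw [h.u_pow, h.u_eq_iff] at e
        obtain ⟨⟨i, e1⟩, j, e2⟩ := e
        push_cast at e1 e2
        have e3 : a = 1 + 2 * i := mul_right_cancel₀ kp.ne' (by linarith)
        have e4 : b = 1 + 2 * j := mul_right_cancel₀ kp.ne' (by linarith)
        exact fe f _ _ (by omega)
      · rw [pow_mul, pow_two, h.ut_sq, h.u_pow, h.u_eq_iff] at e
        obtain ⟨i, e1⟩ := e.1
        have e3 : a + b = 2 + 4 * i := mul_right_cancel₀ kp.ne' (by linarith)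
        rw [map_mul, hf, mul_one]
        exact fe f _ _ (by omega)
    · have : f x = 1 := by rw [← h.conj']; simp [e]
      ext g
      obtain ⟨a, b, rfl | rfl⟩ := all g <;> simp [wu, hf, e, this]

end CfsgLib.GHD
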