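import Mathlib
import Cfsg.Agent.Lib.GHD.FBase
import Cfsg.Agent.Lib.TwoGrp.Wr3

/-! Package FWR1 of `plans/GHD.md`: fusion, `W` wreathed. -/

set_option autoImplicit false
set_option linter.unusedSectionVars false

namespace CfsgLib.GHD

open Subgroup Cfsg CfsgLib.W2 CfsgLib.Tech CfsgLib.PComp CfsgLib.Abel2 CfsgLib.L3K CfsgLib.GHA
open CfsgLib.TwoGrp

universe u

variable {G : Type u} [Group G] [Finite G] {W : Type*} [Group W] [Finite W]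

/-- an automorphism of an abelian 2-group that centralises `Ω₁` has 2-power order -/
theorem WrW.pow_mem_CS {A : Subgroup G} (hA : IsPGroup 2 A) (hc : ∀ a ∈ A, ∀ b ∈ A, a * b = b * a) {g : G}
    (hg : g ∈ NS A) (h1 : ∀ e ∈ A, e * e = 1 → g * e = e * g) : ∃ m : ℕ, g ^ 2 ^ m ∈ CS A := by
  have key : ∀ j : ℕ, ∀ a ∈ A, a ^ 2 ^ (j + 1) = 1 → Commute (g ^ 2 ^ j) a := by
    intro j
    induction j with
    | zero => intro a ha e; simpa [Commute, SemiconjBy] using h1 a ha (by simpa [pow_two] using e)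
    | succ j ih =>
      intro a ha e
      have h2 := ih (a * a) (mul_mem ha ha) (by rw [← pow_two, ← pow_mul, ← pow_succ', e])
      have h3 := conj_mem_of_mem_normalizer (pow_mem hg (2 ^ j)) ha
      rw [pow_succ, pow_mul]
      have h4 : g ^ 2 ^ j * a * (g ^ 2 ^ j)⁻¹ * a⁻¹ * (g ^ 2 ^ j * a * (g ^ 2 ^ j)⁻¹ * a⁻¹) = 1 := by
        rw [Commute.mul_mul_mul_comm (hc _ (inv_mem ha) _ h3), conj_mul, h2.eq]; group
      have h5 := (Commute.pow_left (h1 _ (mul_mem h3 (inv_mem ha)) h4) (2 ^ j)).eq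
      generalize g ^ 2 ^ j = β at *
      obtain ⟨c, e1⟩ : ∃ c, β * a * β⁻¹ = c * a := ⟨β * a * β⁻¹ * a⁻¹, by group⟩
      rw [e1, mul_inv_cancel_right] at h4 h5
      rw [commute_iff_eq, ← mul_inv_eq_iff_eq_mul, show β ^ 2 * a * (β ^ 2)⁻¹ = β * (β * a * β⁻¹) * β⁻¹ by
        rw [pow_two]; group, e1, ← mul_assoc, h5, mul_assoc c, mul_assoc c, e1, ← mul_assoc, h4, one_mul]
  obtain ⟨n, hn⟩ := IsPGroup.iff_card.1 hA
  refine ⟨n, mem_centralizer_iff.2 fun a ha => (key n a ha ?_).symm⟩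
  rw [pow_succ, pow_mul, ← hn, show a ^ Nat.card A = 1 from congrArg Subtype.val (pow_card_eq_one' (x := (⟨a, ha⟩ : A))), one_pow]

theorem WrW.card_pp {ψ : W × W →* G} (h : Function.Injective ψ) (P Q : Subgroup W) :
    Nat.card ((P.prod Q).map ψ) = Nat.card P * Nat.card Q := by
  rw [card_map_of_injective h, Nat.card_congr (P.prodEquiv Q).toEquiv, Nat.card_prod]

theorem WrW.mem_pp {ψ : W × W →* G} {P Q : Subgroup W} {g : G} :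
    g ∈ (P.prod Q).map ψ ↔ ∃ p ∈ P, ∃ q ∈ Q, g = ψ (p, q) :=
  ⟨fun ⟨p, hp, e⟩ => ⟨p.1, hp.1, p.2, hp.2, e.symm⟩, fun ⟨p, hp, q, hq, e⟩ => ⟨(p, q), ⟨hp, hq⟩, e.symm⟩⟩

theorem WrW.pp_mem_pp {ψ : W × W →* G} (h : Function.Injective ψ) {P Q : Subgroup W} {p q : W} :
    ψ (p, q) ∈ (P.prod Q).map ψ ↔ p ∈ P ∧ q ∈ Q := (mem_map_iff_mem h).trans mem_prod

variable {k : ℕ} {x y t : W} {ψ : W × W →* G} {τ : G} (h : IsWr ⊤ k x y t)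

local notation "𝐮" => wu x y
local notation "𝐁" => wrA x y 1 1
local notation "𝐰" => wu x y (2 * (k : ℤ)) (2 * (k : ℤ))
local notation "𝐝" => wu x y 0 (2 * (k : ℤ))
local notation "𝐀" => A4 ψ (wrA x y 1 1)

namespace WrW
include h

theorem of_notMem {p : W} (hp : p ∉ 𝐁) : ∃ a b, p = 𝐮 a b * t := by
  obtain ⟨a, b, e | e⟩ := (h.mem p).1 trivial
  exacts [(hp (e ▸ h.u_mem_U a b)).elim, ⟨a, b, e⟩]

theorem sq_mem (p : W) : p * p ∈ 𝐁 := h.mem_U.2 (h.exists_sq_eq (mem_top p))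

theorem conj_mem {p : W} (hp : p ∈ 𝐁) (n : W) : n * p * n⁻¹ ∈ 𝐁 :=
  conj_mem_of_mem_normalizer (h.mem_normalizer_wrA (by norm_num) 1 (mem_top n)) hp

theorem t_notMem : t ∉ 𝐁 := fun e => h.ut_notMem_wrA 1 1 0 0 (by rwa [h.t_eq])

theorem conj_t {p : W} (hp : p ∉ 𝐁) (h2 : p * p = 1) : ∃ v ∈ 𝐁, v * t * v⁻¹ = p := by
  obtain ⟨a, b, rfl⟩ := of_notMem h hp
  exact ⟨_, h.u_mem_U a 0, (h.conj_t a).trans (h.ut_eq_of_sq h2).symm⟩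

theorem card_Cx {p : W} (hp : p ∉ 𝐁) : Nat.card (Cx p) = 8 * k := by
  obtain ⟨a, b, rfl⟩ := of_notMem h hp
  have := h.inf_centralizer_ut a b
  rw [top_inf_eq] at this
  have h2 := h.card_wrB (e := 1) (c := a - b) (by norm_num) (d := 4 * k) (f := 1) (mul_one _) (by simp)
  rw [Cx, this]; push_cast at h2; rw [h2, mul_one]

theorem card_W : Nat.card W = 32 * k ^ 2 := by rw [← card_top, h.card_eq]; ring

theorem mem_of_comm {p : W} {a b : ℤ} (hab : ¬ (4 * k : ℤ) ∣ a - b) (e : 𝐮 a b * p = p * 𝐮 a b) : p ∈ 𝐁 :=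
  by_contra fun hp => by
    obtain ⟨c, d, rfl⟩ := of_notMem h hp
    exact hab (h.commute_u_ut_iff.1 e)

theorem mem_of_d {p : W} (e : 𝐝 * p = p * 𝐝) : p ∈ 𝐁 :=
  mem_of_comm h (fun e => h.not_dvd_two (by simpa using e)) e

theorem center_le : center W ≤ 𝐁 := fun _ hp => mem_of_d h (mem_center_iff.1 hp _)

theorem diag_mem (a : ℤ) : 𝐮 a a ∈ center W := mem_center_iff.2 fun g => h.commute_diag (mem_top g) a

theorem d_mul_w : 𝐝 * 𝐰 = 𝐮 (2 * k) 0 := by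
  rw [h.u_mul_u, h.u_eq_iff]; exact ⟨⟨0, by ring⟩, ⟨1, by ring⟩⟩

theorem four {p : W} (hp : p ∈ 𝐁) (h2 : p * p = 1) : p = 1 ∨ p = 𝐝 ∨ p = 𝐰 ∨ p = 𝐝 * 𝐰 := by
  obtain ⟨a, b, rfl⟩ := h.mem_U.1 hp
  rw [d_mul_w h]; have := h.u_eq_of_sq h2; tauto

theorem conj_four {p : W} (hp : p ∈ 𝐁) (h2 : p * p = 1) (n : W) : n * p * n⁻¹ = p ∨ n * p * n⁻¹ = p * 𝐰 := by
  have e : 𝐮 (2 * k) 0 * 𝐰 = 𝐝 := by rw [← d_mul_w h, mul_assoc, h.z0_sq, mul_one]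
  rcases four h hp h2 with rfl | rfl | rfl | rfl
  · simp
  · rw [d_mul_w h]; exact h.conj_u (mem_top n) _ _
  · exact .inl ((h.conj_u (mem_top n) _ _).elim id id)
  · rw [d_mul_w h, e]; exact h.conj_u (mem_top n) _ _

theorem nc_t : Nc 𝐰 t := ⟨h.tt, fun e => t_notMem h (e ▸ one_mem _), fun e => t_notMem h (e ▸ h.u_mem_U _ _)⟩

theorem not_conj {p q : W} (hp : p ∉ 𝐁) (hq : q ∈ 𝐁) : ¬ IsConj p q := fun e => by
  obtain ⟨n, rfl⟩ := isConj_iff.1 e.symm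
  exact hp (conj_mem h hq n)

theorem A4_comm : ∀ a ∈ 𝐀, ∀ b ∈ 𝐀, a * b = b * a := by
  rintro _ ⟨p, hp, rfl⟩ _ ⟨q, hq, rfl⟩
  rw [← map_mul, ← map_mul, Prod.mul_def, Prod.mul_def, h.wrA_comm hp.1 hq.1, h.wrA_comm hp.2 hq.2]

theorem A4_le_CS : 𝐀 ≤ CS 𝐀 := fun a ha => mem_centralizer_iff.2 fun b hb => A4_comm h b hb a ha

theorem sq_A4 {s : G} (hs : s ∈ ψ.range) : s * s ∈ 𝐀 := by
  obtain ⟨p, rfl⟩ := hs
  exact ⟨p * p, ⟨sq_mem h _, sq_mem h _⟩, map_mul _ _ _⟩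

theorem T_norm {P Q : Subgroup W} (hP : ∀ p ∈ P, ∀ n, n * p * n⁻¹ ∈ P) (hQ : ∀ p ∈ Q, ∀ n, n * p * n⁻¹ ∈ Q) :
    ψ.range ≤ NS ((P.prod Q).map ψ) := by
  rintro _ ⟨s, rfl⟩
  refine mem_normalizer_of_forall ?_
  rintro _ ⟨p, hp, rfl⟩
  exact ⟨s * p * s⁻¹, ⟨hP _ hp.1 _, hQ _ hp.2 _⟩, by simp⟩

theorem T_le_NS : ψ.range ≤ NS 𝐀 := T_norm h (fun _ => conj_mem h) fun _ => conj_mem h

end WrW

open WrW

variable (hW : WD (wu x y (2 * k) (2 * k)) (wu x y 0 (2 * k)) (wu x y k k * t) (wu x y k (-k)))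
  (hS : Syl5 ψ τ)
include h hW hS

omit h hW hS in
theorem WrW.A4_le_T (B : Subgroup W) : A4 ψ B ≤ ψ.range := map_le_range _ _

omit h hW hS in
theorem WrW.A4_le_S (B : Subgroup W) : A4 ψ B ≤ Sw ψ τ := (A4_le_T B).trans le_sup_left

theorem WrW.τ_mem_NS : τ ∈ NS 𝐀 := mem_normalizer_of_forall <| by
  rintro _ ⟨p, hp, rfl⟩
  rw [show p = (p.1, p.2) from rfl, hS.swap]
  exact mem_pp.2 ⟨_, hp.2, _, hp.1, rfl⟩

theorem WrW.S_le_NS : Sw ψ τ ≤ NS 𝐀 := sup_le (T_le_NS h) (zpowers_le.2 (τ_mem_NS h hW hS))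

theorem WrW.le_A4 {X : Subgroup G} {g : G} {v : W} (hv : Nc 𝐰 v) (hX : cj g X ≤ Sw ψ τ)
    (hc : ∀ a ∈ X, ∀ b ∈ X, a * b = b * a) (hcard : 64 * k ^ 2 < Nat.card X)
    (h0 : ∀ z ∈ center W, ∀ q ∈ 𝐁, ψ (z, q) ∈ X) (hvX : ψ (v, 1) ∈ X)
    (hv' : cj g X ≤ ψ.range → g * ψ (v, 1) * g⁻¹ ∈ 𝐀) : cj g X ≤ 𝐀 := by
  have hc' : ∀ a ∈ cj g X, ∀ b ∈ cj g X, a * b = b * a := by
    rintro _ ⟨a, ha, rfl⟩ _ ⟨b, hb, rfl⟩
    rw [← map_mul, hc a ha b hb, map_mul]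
  have hT : cj g X ≤ ψ.range := fun s hs => by
    obtain ⟨a, b, rfl | rfl⟩ := (hS.mem_Sw).1 (hX hs)
    · exact ⟨_, rfl⟩
    have h1 := card_le_of_le (show cj g X ≤ Sw ψ τ ⊓ Cx (ψ (a, b) * τ) from fun r hr => ⟨hX hr, mem_Cx.2 (hc' r hr _ hs)⟩)
    have h2 := hS.card_cent_out hW (a, b)
    rw [card_cj] at h1; rw [card_W h] at h2; omega
  have hsq : ∀ z ∈ center W, ∀ q ∈ 𝐁, ψ (z * z, q * q) ∈ cj g⁻¹ (cj g X ⊓ 𝐀) := fun z hz q hq => by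
    rw [mem_cj, inv_inv, ← mul_pp, ← conj_mul]
    have := conj_mem_cj (g := g).2 (h0 z hz q hq)
    exact ⟨mul_mem this this, sq_A4 h (hT this)⟩
  have c4 : ∀ {v : W}, Nc 𝐰 v → Nat.card ↥(zpowers v ⊔ zpowers 𝐰) = 4 := fun hv =>
    (isKleinFour_sup hv.sq hW.ww (hW.w_comm _) hv.ne_one hW.w_ne hv.ne).card_four
  have hι : 𝐮 k k * 𝐮 k k = 𝐰 := by rw [h.u_mul_u, two_mul]
  have hE : ((zpowers v ⊔ zpowers 𝐰).prod (zpowers 𝐝 ⊔ zpowers 𝐰)).map ψ ≤ cj g⁻¹ (cj g X ⊓ 𝐀) := by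
    rintro _ ⟨⟨p, q⟩, ⟨hp, hq⟩, rfl⟩
    rw [show (p, q) = MonoidHom.inl W W p * MonoidHom.inr W W q by simp, map_mul]
    refine mul_mem ((sup_le (zpowers_le.2 ?_) (zpowers_le.2 ?_) : _ ≤ comap (ψ.comp (.inl W W)) (cj g⁻¹ (cj g X ⊓ 𝐀))) hp)
      ((sup_le (zpowers_le.2 ?_) (zpowers_le.2 ?_) : _ ≤ comap (ψ.comp (.inr W W)) (cj g⁻¹ (cj g X ⊓ 𝐀))) hq)
    · exact mem_cj.2 (by rw [inv_inv]; exact ⟨conj_mem_cj.2 hvX, hv' hT⟩)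
    · simpa [hι] using hsq _ (diag_mem h k) 1 (one_mem _)
    · simpa [h.u_mul_u, ← two_mul] using hsq 1 (one_mem _) _ (h.u_mem_U 0 k)
    · simpa [hι] using hsq 1 (one_mem _) _ (h.u_mem_U k k)
  have hE2 : cj g (((zpowers v ⊔ zpowers 𝐰).prod (zpowers 𝐝 ⊔ zpowers 𝐰)).map ψ) =
      ((zpowers 𝐝 ⊔ zpowers 𝐰).prod (zpowers 𝐝 ⊔ zpowers 𝐰)).map ψ := by
    refine eq_of_le_of_card_ge (cj_le_iff.2 fun e he => ?_) (by
      rw [card_cj, card_pp hS.inj, card_pp hS.inj, c4 hv, c4 hW.nc])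
    have h1 := (mem_cj.1 (hE he)).2
    rw [inv_inv] at h1
    have h2 : g * e * g⁻¹ * (g * e * g⁻¹) = 1 := by
      obtain ⟨p, hp, q, hq, rfl⟩ := mem_pp.1 he
      have : ∀ {v p : W}, Nc 𝐰 v → p ∈ zpowers v ⊔ zpowers 𝐰 → p * p = 1 := fun hv hp => by
        rcases (mem_four_iff hv.sq hW.ww (hW.w_comm _) _).1 hp with rfl | rfl | rfl | rfl
        exacts [one_mul _, hv.sq, hW.ww, (hW.nc_mul hv).sq]
      rw [conj_mul, mul_pp, this hv hp, this hW.nc hq]; simp [one_pp]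
    obtain ⟨p, hp, q, hq, e⟩ := mem_pp.1 h1
    rw [e, mul_pp, hS.eq_one_iff] at h2
    have := mem_four_iff hW.nc.sq hW.ww (hW.w_comm _)
    exact mem_pp.2 ⟨p, (this _).2 (four h hp h2.1), q, (this _).2 (four h hq h2.2), e⟩
  have hd : ψ (𝐝, 𝐝) ∈ cj g X := by
    have := cj_mono g hE
    rw [hE2, cj_cj_inv] at this
    exact (this (mem_pp.2 ⟨_, mem_sup_left (mem_zpowers _), _, mem_sup_left (mem_zpowers _), rfl⟩)).1
  intro s hs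
  obtain ⟨⟨p, q⟩, rfl⟩ := hT hs
  have := hS.comm_iff.1 (hc' _ hd _ hs)
  exact mem_pp.2 ⟨p, mem_of_d h this.1, q, mem_of_d h this.2, rfl⟩

theorem A4_wc {g : G} (hg : cj g (A4 ψ (wrA x y 1 1)) ≤ Sw ψ τ) :
    g ∈ NS (A4 ψ (wrA x y 1 1)) := by
  have hk : 0 < k := by exact_mod_cast h.kpos
  refine mem_normalizer_of_cj_le (le_A4 h hW hS hW.nc hg (A4_comm h) ?_
    (fun z hz q hq => mem_pp.2 ⟨z, center_le h hz, q, hq, rfl⟩) (mem_pp.2 ⟨_, h.u_mem_U _ _, 1, one_mem _, rfl⟩) fun hT => ?_)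
  · rw [card_pp hS.inj, h.card_U]; nlinarith [Nat.mul_le_mul hk hk, pow_pos hk 2]
  · have := sq_A4 h (hT (conj_mem_cj.2 (mem_pp.2 ⟨_, h.u_mem_U 0 k, 1, one_mem _, rfl⟩)))
    rwa [conj_mul, mul_pp, h.u_mul_u, add_zero, ← two_mul, mul_one] at this

theorem A4_ctrl {X : Set G} {g : G} (h1 : ∀ p ∈ X, p ∈ A4 ψ (wrA x y 1 1))
    (h2 : ∀ p ∈ X, g * p * g⁻¹ ∈ A4 ψ (wrA x y 1 1)) :
    ∃ n ∈ NS (A4 ψ (wrA x y 1 1)), ∀ p ∈ X, n * p * n⁻¹ = g * p * g⁻¹ := by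
  obtain ⟨n, -, hn, e⟩ := exists_ctrl hS.syl (A4_le_S _) (fun _ _ => A4_wc h hW hS) (mem_top g)
    (fun p hp => A4_le_CS h (h1 p hp)) fun p hp => A4_le_CS h (h2 p hp)
  exact ⟨n, hn, e⟩

/-- A subgroup `Y` of `N(A₄) ⊓ C(z₁)` normalised by `T` whose squares centralise `Ω₁(A₄)` acts on
`A₄` as `Y ⊓ T` does. -/
theorem A4_act {Y : Subgroup G} (h1 : Y ≤ NS (A4 ψ (wrA x y 1 1)))
    (h2 : Y ≤ Cx (ψ (wu x y (2 * k) (2 * k), 1))) (h3 : ψ.range ≤ NS Y)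
    (h4 : ∀ g ∈ Y, ∀ e ∈ A4 ψ (wrA x y 1 1), e * e = 1 → g * g * e = e * (g * g))
    {g : G} (hg : g ∈ Y) :
    ∃ p, ψ p ∈ Y ∧ ∀ e ∈ A4 ψ (wrA x y 1 1), g * e * g⁻¹ = ψ p * e * (ψ p)⁻¹ := by
  obtain ⟨_, hs, ⟨p, rfl⟩, e⟩ := exists_mul_sylow (hS.syl_T hW) h2 h3 (h1.trans (Core.normalizer_le_normalizer_centralizer _)) (fun g hg => by
    obtain ⟨m, hm⟩ := pow_mem_CS (hS.syl.pgroup.to_le (A4_le_S _)) (A4_comm h) (h1 (mul_mem hg hg)) (h4 g hg)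
    exact ⟨m + 1, by rwa [pow_succ', pow_mul, pow_two]⟩) hg
  refine ⟨p, hs, fun a ha => ?_⟩
  calc g * a * g⁻¹ = ψ p * ((ψ p)⁻¹ * g * a) * g⁻¹ := by group
    _ = _ := by rw [← mem_centralizer_iff.1 e a ha]; group

theorem WrW.exists_conj_A4 [IsSimpleGroup G] : ∃ g, g * ψ (t, 1) * g⁻¹ ∈ 𝐀 := by
  by_contra hn
  push Not at hn
  have hk : 0 < k := by exact_mod_cast h.kpos
  obtain ⟨φ, hφ⟩ := Transfer.exists_hom_of_relIndex_two h.relIndex_U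
  have hσ : ψ (t, 1) * ψ (t, 1) = 1 := by rw [mul_pp, h.tt, one_mul, one_pp]
  obtain ⟨p, q, e, hc⟩ := hS.thompson hW (φ.comp topEquiv.symm.toMonoidHom)
    (ord_two hσ fun e => (nc_t h).ne_one (hS.eq_one_iff.1 e).1)
  obtain ⟨c, hc⟩ := isConj_iff.1 hc
  have hpq : p ∉ 𝐁 ∧ q ∉ 𝐁 := by
    have h1 := hφ ⟨p, trivial⟩
    have h2 := hφ ⟨q, trivial⟩
    have h3 : ¬ (p ∈ 𝐁 ∧ q ∈ 𝐁) := fun hb => hn c (hc ▸ mem_pp.2 ⟨p, hb.1, q, hb.2, rfl⟩)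
    have h4 : (1 : Multiplicative (ZMod 2)) ≠ Multiplicative.ofAdd 1 := by decide
    exact ⟨fun hp => h3 ⟨hp, by_contra fun hq => h4 ((h1.1 hp).symm.trans (e.trans (h2.2 hq)))⟩,
      fun hq => h3 ⟨by_contra fun hp => h4 ((h2.1 hq).symm.trans (e.symm.trans (h1.2 hp))), hq⟩⟩
  have h2 : p * p = 1 ∧ q * q = 1 := by rw [← hS.eq_one_iff, ← mul_pp, ← hc, conj_mul, hσ]; group
  obtain ⟨v, -, rfl⟩ := conj_t h hpq.1 h2.1
  obtain ⟨v', -, rfl⟩ := conj_t h hpq.2 h2.2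
  have hσ' := hS.cent_in (not_conj h (t_notMem h) (one_mem _))
  have hle : ∀ p : W, Nat.card (Cx p) ≤ 32 * k ^ 2 := fun p => card_W h ▸ card_le_card_group _
  have ext := isSylowIn_cent_of_max hS.syl (b := ψ (t, 1)) (Syl5.pp_mem _) fun n _ hm => by
    rw [hσ', hS.card_cent_T, card_Cx h (t_notMem h), show Cx (1 : W) = ⊤ from eq_top_iff.2 fun g _ => mem_Cx.2 (by simp),
      card_top, card_W h]
    obtain ⟨a, b, e | e⟩ := hS.mem_Sw.1 hm <;> rw [e]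
    · by_cases ha : a ∈ 𝐁 <;> by_cases hb : b ∈ 𝐁
      · exact (hn n (e ▸ mem_pp.2 ⟨a, ha, b, hb, rfl⟩)).elim
      · rw [hS.cent_in fun e => not_conj h hb ha e.symm, hS.card_cent_T, card_Cx h hb, mul_comm]
        exact Nat.mul_le_mul_left _ (hle _)
      · rw [hS.cent_in (not_conj h ha hb), hS.card_cent_T, card_Cx h ha]
        exact Nat.mul_le_mul_left _ (hle _)
      · refine (hS.card_cent_in hW a b).trans ?_
        rw [card_Cx h ha, card_Cx h hb]; nlinarith [pow_pos hk 2]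
    · refine (hS.card_cent_out hW _).trans ?_
      rw [card_W h]; exact Nat.mul_le_mul_right _ (by omega)
  obtain ⟨g, -, e1, e2⟩ := exists_ext hS.syl.pgroup le_top ext (mem_top (c⁻¹ * ψ (v, v'))) (a := ψ (t, t))
    (by rw [show ∀ a b : G, c⁻¹ * a * b * (c⁻¹ * a)⁻¹ = c⁻¹ * (a * b * a⁻¹) * c from fun a b => by group, conj_pp, ← hc]; group)
  have aux : ∀ s ∈ Sw ψ τ, s * ψ (t, t) = ψ (t, t) * s → ∃ p q, p ∈ Cx t ∧ g * s * g⁻¹ = ψ (p, q) := fun s hs e => by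
    have h1 : g * s * g⁻¹ ∈ Cx (ψ (t, 1)) := e1 ▸ conj_mem_Cx.2 (mem_Cx.2 e)
    obtain ⟨⟨p, q⟩, e3⟩ := (hσ'.le ⟨e2 s hs e, h1⟩).1
    exact ⟨p, q, mem_Cx.2 (hS.comm_iff.1 (mem_Cx.1 (e3 ▸ h1))).1, e3.symm⟩
  obtain ⟨p1, q1, hp1, e3⟩ := aux _ (Syl5.pp_mem (t, 1)) (hS.comm_iff.2 ⟨rfl, by simp⟩)
  obtain ⟨p2, q2, hp2, e4⟩ := aux _ Syl5.τ_mem (hS.τ_mul t t)
  have e5 : ψ (t, t) = ψ (t, 1) * (τ * (ψ (t, 1))⁻¹ * τ⁻¹) := by rw [inv_pp, hS.swap, mul_pp, h.t_inv]; simp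
  rw [e5, show ∀ a b : G, g * (a * (b * a⁻¹ * b⁻¹)) * g⁻¹ = g * a * g⁻¹ * (g * b * g⁻¹ * (g * a * g⁻¹)⁻¹ * (g * b * g⁻¹)⁻¹) from
    fun a b => by group, e3, e4, inv_pp, conj_pp, mul_pp, hS.eq_iff, hW.cab (nc_t h) p2 hp2 _ (inv_mem hp1)] at e1
  exact (nc_t h).ne_one (e1.1.symm.trans (by group))

theorem WrW.exists_refl0 [IsSimpleGroup G] : ∃ g ∈ CS (((center W).prod 𝐁).map ψ), ∃ f ∈ 𝐁, g * ψ (t, 1) * g⁻¹ = ψ (𝐝, f) := by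
  have hk : 0 < k := by exact_mod_cast h.kpos
  obtain ⟨g, hg⟩ := exists_conj_A4 h hW hS
  have hK : ∀ a ∈ ((Cx t).prod 𝐁).map ψ, ∀ b ∈ ((Cx t).prod 𝐁).map ψ, a * b = b * a := by
    rintro _ ⟨p, hp, rfl⟩ _ ⟨q, hq, rfl⟩
    exact hS.comm_iff.2 ⟨hW.cab (nc_t h) _ hp.1 _ hq.1, h.wrA_comm hp.2 hq.2⟩
  have hσ : ψ (t, 1) ∈ ((Cx t).prod 𝐁).map ψ := mem_pp.2 ⟨t, mem_Cx.2 rfl, 1, one_mem _, rfl⟩
  obtain ⟨P, hP, hAP⟩ := exists_isSylowIn_ge (hS.syl.pgroup.to_le (A4_le_S 𝐁))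
    (show 𝐀 ≤ Cx (g * ψ (t, 1) * g⁻¹) from fun a ha => mem_Cx.2 (A4_comm h a ha _ hg))
  obtain ⟨c, hc, e1⟩ := hP.exists_cj_le (isPGroup_cj g (hS.syl.pgroup.to_le ((map_le_range ψ ((Cx t).prod 𝐁)).trans le_sup_left)))
    (cj_le_iff.2 fun a ha => conj_mem_Cx.2 (mem_Cx.2 (hK a ha _ hσ)))
  obtain ⟨n, -, e2⟩ := hS.syl.exists_cj_le hP.pgroup le_top
  have hn := A4_wc h hW hS ((cj_mono n hAP).trans e2)
  have h0 : ∀ z ∈ center W, ∀ q ∈ 𝐁, ψ (z, q) ∈ ((Cx t).prod 𝐁).map ψ := fun z hz q hq =>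
    mem_pp.2 ⟨z, mem_Cx.2 (mem_center_iff.1 hz t).symm, q, hq, rfl⟩
  have h1 := cj_le_iff.1 <| le_A4 h hW hS (g := n * (c * g)) (nc_t h) (by rw [cj_mul, cj_mul]; exact (cj_mono n e1).trans e2) hK
    (by rw [card_pp hS.inj, card_Cx h (t_notMem h), h.card_U]; nlinarith [pow_pos hk 2]) h0 hσ fun _ => by
      have := conj_mem_of_mem_normalizer hn hg
      rw [← mem_Cx'.1 hc] at this
      convert this using 1; group
  obtain ⟨m, hm, e3⟩ := A4_ctrl h hW hS (X := ((center W).prod 𝐁).map ψ) (g := n * (c * g))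
    (fun p hp => map_mono (prod_mono (center_le h) le_rfl) hp) fun p hp => by
      obtain ⟨z, hz, q, hq, rfl⟩ := mem_pp.1 hp
      exact h1 _ (h0 z hz q hq)
  generalize n * (c * g) = g1 at *
  have h2 : m⁻¹ * g1 ∈ CS (((center W).prod 𝐁).map ψ) := mem_centralizer_iff.2 fun p hp => by
    rw [mul_assoc, mul_inv_eq_iff_eq_mul.1 (e3 p hp).symm]; group
  obtain ⟨p, hp, q, hq, e4⟩ := mem_pp.1 (conj_mem_of_mem_normalizer' hm (h1 _ hσ))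
  have e5 : m⁻¹ * g1 * ψ (t, 1) * (m⁻¹ * g1)⁻¹ = ψ (p, q) := by rw [← e4]; group
  generalize m⁻¹ * g1 = g2 at *
  have h3 : p * p = 1 ∧ q * q = 1 := by
    rw [← hS.eq_one_iff, ← mul_pp, ← e5, conj_mul, mul_pp, h.tt, one_mul, one_pp]; group
  have h4 : p ∉ center W := fun hz => by
    have := mem_centralizer_iff.1 h2 _ (mem_pp.2 ⟨p, hz, q, hq, rfl⟩)
    rw [← mul_inv_eq_iff_eq_mul.1 e5, mul_left_cancel_iff, hS.eq_iff] at this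
    exact t_notMem h (this.1 ▸ hp)
  rcases four h hp h3.1 with rfl | rfl | rfl | rfl
  · exact (h4 (one_mem _)).elim
  · exact ⟨g2, h2, q, hq, e5⟩
  · exact (h4 hW.w_mem).elim
  refine ⟨ψ (t, 1) * g2, mul_mem (mem_centralizer_iff.2 fun a ha => ?_) h2, q, hq, ?_⟩
  · obtain ⟨z, hz, q, -, rfl⟩ := mem_pp.1 ha
    exact hS.comm_iff.2 ⟨(mem_center_iff.1 hz t).symm, by simp⟩
  · rw [show ∀ a b : G, a * g2 * b * (a * g2)⁻¹ = a * (g2 * b * g2⁻¹) * a⁻¹ from fun a b => by group, e5, conj_pp, d_mul_w h,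
      h.t_conj_u]
    simp

theorem exists_refl [IsSimpleGroup G] : ∃ c : W, (c = 1 ∨ c = wu x y (2 * k) (2 * k)) ∧
    ∃ g : G, (∀ z ∈ center W, ∀ q ∈ wrA x y 1 1, g * ψ (z, q) * g⁻¹ = ψ (z, q)) ∧
      g * ψ (t, 1) * g⁻¹ = ψ (wu x y 0 (2 * k), c) := by
  obtain ⟨g, hg, f, hf, e⟩ := exists_refl0 h hW hS
  refine ⟨f, ?_, g, fun z hz q hq => mul_inv_eq_iff_eq_mul.2 (mem_centralizer_iff.1 hg _ (mem_pp.2 ⟨z, hz, q, hq, rfl⟩)).symm, e⟩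
  have hN : ψ.range ≤ NS (((center W).prod 𝐁).map ψ) :=
    T_norm h (fun p hp n => by rwa [mem_center_iff.1 hp n, mul_inv_cancel_right]) fun _ => conj_mem h
  have hN' := hN.trans (Core.normalizer_le_normalizer_centralizer _)
  have hle : ((center W).prod 𝐁).map ψ ≤ 𝐀 := map_mono (prod_mono (center_le h) le_rfl)
  have h1 := mul_mem (conj_mem_of_mem_normalizer (hN' ⟨(1, t), rfl⟩) hg) (inv_mem hg)
  have e1 : ψ (1, t) * g * (ψ (1, t))⁻¹ * g⁻¹ * ψ (𝐝, f) * (ψ (1, t) * g * (ψ (1, t))⁻¹ * g⁻¹)⁻¹ = ψ (𝐝, t * f * t⁻¹) := by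
    have : ψ (1, t) * ψ (t, 1) = ψ (t, 1) * ψ (1, t) := hS.comm_iff.2 (by simp)
    calc _ = ψ (1, t) * (g * ((ψ (1, t))⁻¹ * (ψ (t, 1) * ψ (1, t))) * g⁻¹) * (ψ (1, t))⁻¹ := by rw [← e]; group
      _ = _ := by rw [← this, inv_mul_cancel_left, e, conj_pp]; simp
  generalize ψ (1, t) * g * (ψ (1, t))⁻¹ * g⁻¹ = g1 at h1 e1
  have h1' : ∀ {g1 : G}, g1 ∈ CS (((center W).prod 𝐁).map ψ) → ∀ p ∈ ((center W).prod 𝐁).map ψ, g1 * p * g1⁻¹ = p :=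
    fun h1 p hp => mul_inv_eq_iff_eq_mul.2 (mem_centralizer_iff.1 h1 p hp).symm
  obtain ⟨m, hm, e2⟩ := A4_ctrl h hW hS (X := insert (ψ (𝐝, f)) (((center W).prod 𝐁).map ψ : Subgroup G)) (g := g1)
    (by rintro _ (rfl | hp); exacts [mem_pp.2 ⟨_, h.u_mem_U _ _, f, hf, rfl⟩, hle hp])
    (by
      rintro p (rfl | hp)
      · exact e1 ▸ mem_pp.2 ⟨_, h.u_mem_U _ _, _, conj_mem h hf t, rfl⟩
      · exact (h1' h1 p hp).symm ▸ hle hp)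
  have hm' : m ∈ CS (((center W).prod 𝐁).map ψ) := mem_centralizer_iff.2 fun p hp =>
    (mul_inv_eq_iff_eq_mul.1 ((e2 p (.inr hp)).trans (h1' h1 p hp))).symm
  obtain ⟨⟨p, q⟩, hp, e3⟩ := A4_act h hW hS (Y := NS 𝐀 ⊓ CS (((center W).prod 𝐁).map ψ)) inf_le_left
    (fun n hn => mem_Cx.2 (mem_centralizer_iff.1 hn.2 _ (mem_pp.2 ⟨_, hW.w_mem, 1, one_mem _, rfl⟩)).symm)
    ((le_inf ((T_le_NS h).trans le_normalizer) hN').trans inf_normalizer_le_normalizer_inf) (fun n hn e he h2 => by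
      by_cases h0 : e ∈ ((center W).prod 𝐁).map ψ
      · exact (mem_centralizer_iff.1 (mul_mem hn.2 hn.2) e h0).symm
      have key : ∀ e ∈ 𝐀, e * e = 1 → e ∉ ((center W).prod 𝐁).map ψ → ψ (𝐝, 1) * e ∈ ((center W).prod 𝐁).map ψ := by
        intro e he h2 h0
        obtain ⟨p, hp, q, hq, rfl⟩ := mem_pp.1 he
        rw [mul_pp, hS.eq_one_iff] at h2
        rw [pp_mem_pp hS.inj] at h0
        rw [mul_pp, pp_mem_pp hS.inj, one_mul]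
        rcases four h hp h2.1 with rfl | rfl | rfl | rfl
        · exact (h0 ⟨one_mem _, hq⟩).elim
        · exact ⟨hW.nc.sq ▸ one_mem _, hq⟩
        · exact (h0 ⟨hW.w_mem, hq⟩).elim
        · exact ⟨by rw [← mul_assoc, hW.nc.sq, one_mul]; exact hW.w_mem, hq⟩
      have he' := conj_mem_of_mem_normalizer hn.1 he
      have h2' : n * e * n⁻¹ * (n * e * n⁻¹) = 1 := by rw [conj_mul, h2]; group
      have h3 := h1' hn.2 _ (mul_mem (inv_mem (key e he h2 h0)) (key _ he' h2' fun h4 => h0 <| by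
        have := h1' (inv_mem hn.2) _ h4
        rwa [← this, show n⁻¹ * (n * e * n⁻¹) * n⁻¹⁻¹ = e by group] at h4))
      rw [← mul_inv_eq_iff_eq_mul]
      calc n * n * e * (n * n)⁻¹ = n * e * n⁻¹ * (n * ((ψ (𝐝, 1) * e)⁻¹ * (ψ (𝐝, 1) * (n * e * n⁻¹))) * n⁻¹) := by group
        _ = n * e * n⁻¹ * e⁻¹ * (n * e * n⁻¹) := by rw [h3]; group
        _ = e := by rw [A4_comm h _ he' _ (inv_mem he), mul_assoc, h2', mul_one, inv_eq_of_mul_eq_one_right h2])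
    (g := m) ⟨hm, hm'⟩
  have hq := mem_of_d h (hS.comm_iff.1 (mem_centralizer_iff.1 hp.2 _ (mem_pp.2 ⟨1, one_mem _, _, h.u_mem_U _ _, rfl⟩))).2
  have e4 := (e3 _ (mem_pp.2 ⟨_, h.u_mem_U _ _, f, hf, rfl⟩)).symm.trans ((e2 _ (.inl rfl)).trans e1)
  rw [conj_pp, hS.eq_iff, h.wrA_comm hq hf, mul_inv_cancel_right] at e4
  have h2 : f * f = 1 := (hS.eq_one_iff.1 (by rw [← mul_pp, ← e, conj_mul, mul_pp, h.tt, one_mul, one_pp]; group)).2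
  rcases WD.invol_cases 𝐰 h2 with e5 | e5 | e5
  exacts [.inl e5, .inr e5, (t_notMem h ((hW.four e5 (nc_t h) (mul_inv_eq_iff_eq_mul.1 e4.2.symm).symm).elim (· ▸ hf)
    (· ▸ mul_mem hf (h.u_mem_U _ _)))).elim]

end CfsgLib.GHD
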