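import Mathlib
import Cfsg.Agent.Lib.GHD.FWr1

/-! Package FWR2 of `plans/GHD.md`: fusion, `W` wreathed. -/

set_option autoImplicit false
set_option linter.unusedSectionVars false

namespace CfsgLib.GHD

open Subgroup Cfsg CfsgLib.W2 CfsgLib.Tech CfsgLib.PComp CfsgLib.Abel2 CfsgLib.L3K CfsgLib.GHA
open CfsgLib.TwoGrp WrW

universe u

variable {G : Type u} [Group G] [Finite G] {W : Type*} [Group W] [Finite W]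
  {k : ℕ} {x y t : W} {ψ : W × W →* G} {τ : G} (h : IsWr ⊤ k x y t)
  (hW : WD (wu x y (2 * k) (2 * k)) (wu x y 0 (2 * k)) (wu x y k k * t) (wu x y k (-k)))
  (hS : Syl5 ψ τ)
include h hW hS

local notation "𝐮" => wu x y
local notation "𝐁" => wrA x y 1 1
local notation "𝐰" => wu x y (2 * (k : ℤ)) (2 * (k : ℤ))
local notation "𝐝" => wu x y 0 (2 * (k : ℤ))
local notation "𝐀" => A4 ψ (wrA x y 1 1)

omit h hW hS [Finite G] in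
theorem WrW.isConj_of {g a b : G} (e : g * a * g⁻¹ = b) : IsConj a b := isConj_iff.2 ⟨g, e⟩

theorem WrW.pow_four {s : G} (hs : s ∈ Sw ψ τ) : s ^ 4 ∈ 𝐀 := by
  obtain ⟨a, b, e⟩ := hS.sq_mem hs
  rw [show s ^ 4 = s * s * (s * s) by rw [show 4 = 2 * 2 from rfl, pow_mul, pow_two, pow_two]]
  exact sq_A4 h ⟨_, e.symm⟩

theorem WrW.exists_a [IsSimpleGroup G] : ∃ e ∈ 𝐀, e ≠ ψ (𝐰, 𝐰) ∧ IsConj (ψ (𝐰, 𝐰)) e := by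
  by_contra hn
  push Not at hn
  have haa : ψ (𝐰, 𝐰) * ψ (𝐰, 𝐰) = 1 := sq_of_ord (hS.ord_a hW)
  have hι : 𝐮 k k * 𝐮 k k = 𝐰 := by rw [h.u_mul_u, two_mul]
  have h4 : ∀ s : G, s ^ 4 = s * s * (s * s) := fun s => by rw [show 4 = 2 * 2 from rfl, pow_mul, pow_two, pow_two]
  have ext : ∀ s : G, ∀ v ∈ Sw ψ τ, v * s = s * v → v ^ 4 = ψ (𝐰, 𝐰) → s ≠ ψ (𝐰, 𝐰) → ¬ IsConj (ψ (𝐰, 𝐰)) s := by
    intro s v hv e1 e2 e3 e4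
    obtain ⟨g, e5, e6⟩ := hS.ext_a hW e4.symm
    have := pow_four h hW hS (e6 v hv e1)
    rw [conj_pow, e2] at this
    refine hn _ this (fun e7 => e3 ?_) (isConj_of rfl)
    simpa using e5.trans e7.symm
  have h1 : ∀ p ∉ 𝐁, ∀ q ∈ 𝐁, p * p = 1 → ¬ IsConj (ψ (𝐰, 𝐰)) (ψ (p, q)) := fun p hp q hq h2 e => by
    obtain ⟨v, hv, rfl⟩ := conj_t h hp h2
    obtain ⟨c, hc, g, e1, e2⟩ := exists_refl h hW hS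
    have hc' : c ∈ 𝐁 := hc.elim (· ▸ one_mem _) (· ▸ h.u_mem_U _ _)
    refine hn (ψ (𝐝, c * q)) (mem_pp.2 ⟨_, h.u_mem_U _ _, _, mul_mem hc' hq, rfl⟩) (fun e => hW.nc.ne (hS.eq_iff.1 e).1)
      (e.trans ((isConj_of (g := ψ (v, 1)) (a := ψ (t, q)) (by rw [conj_pp]; simp)).symm.trans (isConj_of (g := g) ?_)))
    rw [show ψ (t, q) = ψ (t, 1) * ψ (1, q) by rw [mul_pp]; simp, ← conj_mul, e2, e1 1 (one_mem _) q hq, mul_pp, mul_one]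
  obtain ⟨n, hn1, hn2⟩ := hS.zstar hW (Syl5.pp_mem (𝐰, 𝐰)) (ne_one_of_ord (hS.ord_a hW))
  have hc : IsConj (ψ (𝐰, 𝐰)) (n * ψ (𝐰, 𝐰) * n⁻¹) := isConj_of rfl
  have h2 : n * ψ (𝐰, 𝐰) * n⁻¹ * (n * ψ (𝐰, 𝐰) * n⁻¹) = 1 := by rw [conj_mul, haa]; group
  obtain ⟨p, q, e | e⟩ := hS.mem_Sw.1 hn1 <;> rw [e] at hc h2 hn2
  · rw [mul_pp, hS.eq_one_iff] at h2
    by_cases hp : p ∈ 𝐁 <;> by_cases hq : q ∈ 𝐁
    · exact hn _ (mem_pp.2 ⟨p, hp, q, hq, rfl⟩) hn2 hc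
    · exact h1 q hq p hp h2.2 (hc.trans (isConj_of (hS.swap p q)))
    · exact h1 p hp q hq h2.1 hc
    obtain ⟨v, -, rfl⟩ := conj_t h hp h2.1
    obtain ⟨v', -, rfl⟩ := conj_t h hq h2.2
    refine ext (ψ (t, t)) _ (Syl5.ppτ_mem (𝐮 k k, 1)) (hS.comm_out_iff.2 ⟨mem_center_iff.1 (diag_mem h k) t, by simp⟩).symm
      (by rw [h4, hS.mul_ττ, mul_pp, mul_one, one_mul, hι]) (fun e => (nc_t h).ne (hS.eq_iff.1 e).1)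
      (hc.trans (isConj_of (conj_pp ψ v v' t t)).symm)
  · obtain ⟨v, hv⟩ := hW.w_four
    refine ext τ _ (Syl5.pp_mem (v, v)) (hS.τ_mul v v).symm (by rw [pow_pp, hv]) (fun e => hS.ne_τ hW (𝐰, 𝐰) (1, 1) ?_)
      (hc.trans (isConj_of (hS.invol_out h2).symm).symm)
    rw [one_pp, one_mul, e]

theorem wt_wr [IsSimpleGroup G] :
    IsConj (ψ (wu x y (2 * k) (2 * k), wu x y 0 (2 * k)))
        (ψ (wu x y (2 * k) (2 * k), wu x y (2 * k) (2 * k))) ∨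
      IsConj (ψ (1, wu x y 0 (2 * k))) (ψ (wu x y (2 * k) (2 * k), wu x y (2 * k) (2 * k))) := by
  by_contra hn
  push Not at hn
  have haa : ψ (𝐰, 𝐰) * ψ (𝐰, 𝐰) = 1 := sq_of_ord (hS.ord_a hW)
  have hD := hS.not_conj hW
  have hD' : ¬ IsConj (ψ (1, 𝐰)) (ψ (𝐰, 𝐰)) := fun e => hD ((isConj_of (hS.swap _ _)).trans e)
  obtain ⟨s, hs⟩ := hW.sw
  have hd : ∀ {p : W}, p = 𝐝 ∨ p = 𝐝 * 𝐰 → ∃ v, v * 𝐝 * v⁻¹ = p := by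
    rintro _ (rfl | rfl)
    exacts [⟨1, by simp⟩, ⟨s, hs⟩]
  have h1 : ∀ {p q : W}, p = 1 ∨ p = 𝐰 → q = 𝐝 ∨ q = 𝐝 * 𝐰 → ¬ IsConj (ψ (𝐰, 𝐰)) (ψ (p, q)) := fun {p q} hp hq e => by
    obtain ⟨v, rfl⟩ := hd hq
    have := (e.trans (isConj_of (g := ψ (1, v)) (a := ψ (p, 𝐝)) (by rw [conj_pp]; simp)).symm).symm
    rcases hp with rfl | rfl
    exacts [hn.2 this, hn.1 this]
  have key : ∀ e ∈ 𝐀, IsConj (ψ (𝐰, 𝐰)) e →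
      e = ψ (𝐰, 𝐰) ∨ ∃ p q, (p = 𝐝 ∨ p = 𝐝 * 𝐰) ∧ (q = 𝐝 ∨ q = 𝐝 * 𝐰) ∧ e = ψ (p, q) := fun e he hc => by
    obtain ⟨p, hp, q, hq, rfl⟩ := mem_pp.1 he
    have h2 : p * p = 1 ∧ q * q = 1 := by
      obtain ⟨c, hc⟩ := isConj_iff.1 hc
      rw [← hS.eq_one_iff, ← mul_pp, ← hc, conj_mul, haa]; group
    have h3 : ∀ {p : W}, p ∈ 𝐁 → p * p = 1 → (p = 1 ∨ p = 𝐰) ∨ p = 𝐝 ∨ p = 𝐝 * 𝐰 := fun hp h2 => by
      have := four h hp h2; tauto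
    rcases h3 hp h2.1 with hp' | hp' <;> rcases h3 hq h2.2 with hq' | hq'
    · rcases hp' with rfl | rfl <;> rcases hq' with rfl | rfl
      · exact (ne_one_of_ord (hS.ord_a hW) (isConj_one_left.1 (one_pp ψ ▸ hc))).elim
      exacts [(hD' hc.symm).elim, (hD hc.symm).elim, .inl rfl]
    · exact (h1 hp' hq' hc).elim
    · exact (h1 hq' hp' (hc.trans (isConj_of (hS.swap p q)))).elim
    · exact .inr ⟨p, q, hp', hq', rfl⟩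
  obtain ⟨e, he, e1, e2⟩ := exists_a h hW hS
  obtain ⟨g, rfl⟩ := isConj_iff.1 e2
  obtain ⟨n, hn, e3⟩ := A4_ctrl h hW hS (X := {ψ (𝐰, 𝐰)}) (g := g)
    (by rintro _ rfl; exact mem_pp.2 ⟨_, h.u_mem_U _ _, _, h.u_mem_U _ _, rfl⟩) (by rintro _ rfl; exact he)
  obtain ⟨p0, q0, hp0, hq0, e4⟩ := (key _ he e2).resolve_left e1
  have hA : ∀ {p q : W}, p = 𝐝 ∨ p = 𝐝 * 𝐰 → q = 𝐝 ∨ q = 𝐝 * 𝐰 → IsConj (ψ (𝐰, 𝐰)) (ψ (p, q)) := fun hp hq => by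
    obtain ⟨v, rfl⟩ := hd hp
    obtain ⟨v', rfl⟩ := hd hq
    obtain ⟨v1, rfl⟩ := hd hp0
    obtain ⟨v2, rfl⟩ := hd hq0
    exact ((e4 ▸ e2).trans (isConj_of (conj_pp ψ v1 v2 _ _)).symm).trans (isConj_of (conj_pp ψ v v' _ _))
  have m1 : ∀ {p : W}, p = 𝐝 ∨ p = 𝐝 * 𝐰 → (p * 𝐰 = 𝐝 ∨ p * 𝐰 = 𝐝 * 𝐰) ∧ p ∈ 𝐁 := by
    rintro _ (rfl | rfl)
    exacts [⟨.inr rfl, h.u_mem_U _ _⟩, ⟨.inl (by rw [mul_assoc, hW.ww, mul_one]), mul_mem (h.u_mem_U _ _) (h.u_mem_U _ _)⟩]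
  have m2 : ∀ {p q : W}, p = 𝐝 ∨ p = 𝐝 * 𝐰 → q = 𝐝 ∨ q = 𝐝 * 𝐰 → p * q = 1 ∨ p * q = 𝐰 := by
    rintro _ _ (rfl | rfl) (rfl | rfl)
    · exact .inl hW.nc.sq
    · exact .inr (by rw [← mul_assoc, hW.nc.sq, one_mul])
    · exact .inr (by rw [hW.w_comm, mul_assoc, hW.nc.sq, mul_one])
    · exact .inl (hW.nc_mul hW.nc).sq
  have hz : ∀ n ∈ NS 𝐀, n * ψ (𝐰, 1) * n⁻¹ = ψ (𝐰, 1) ∨ n * ψ (𝐰, 1) * n⁻¹ = ψ (1, 𝐰) := fun n hn => by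
    have k1 : ∀ {p q : W}, p = 𝐝 ∨ p = 𝐝 * 𝐰 → q = 𝐝 ∨ q = 𝐝 * 𝐰 → _ := fun {p q} hp hq =>
      key _ (conj_mem_of_mem_normalizer hn (mem_pp.2 ⟨p, (m1 hp).2, q, (m1 hq).2, rfl⟩)) ((hA hp hq).trans (isConj_of rfl))
    have e5 : n * ψ (𝐰, 1) * n⁻¹ = n * ψ (𝐝, 𝐝) * n⁻¹ * (n * ψ (𝐝 * 𝐰, 𝐝) * n⁻¹) := by
      rw [conj_mul, mul_pp, ← mul_assoc, hW.nc.sq, one_mul]
    have hc : IsConj (ψ (𝐰, 1)) (n * ψ (𝐰, 1) * n⁻¹) := isConj_of rfl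
    have h1 : ¬ IsConj (ψ (𝐰, 1)) 1 := fun e => ne_one_of_ord (hS.ord_z1 hW) (isConj_one_left.1 e)
    rcases k1 (.inl rfl) (.inl rfl) with a1 | ⟨p1, q1, hp1, hq1, a1⟩ <;>
      rcases k1 (.inr rfl) (.inl rfl) with a2 | ⟨p2, q2, hp2, hq2, a2⟩ <;> rw [a1, a2] at e5 <;> rw [e5] at hc ⊢
    · exact (h1 (haa ▸ hc)).elim
    · rw [mul_pp, ← hW.w_comm, ← hW.w_comm] at hc
      exact (hD (hc.trans (hA (m1 hp2).1 (m1 hq2).1).symm)).elim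
    · rw [mul_pp] at hc
      exact (hD (hc.trans (hA (m1 hp1).1 (m1 hq1).1).symm)).elim
    · rw [mul_pp] at hc ⊢
      rcases m2 hp1 hp2 with b1 | b1 <;> rcases m2 hq1 hq2 with b2 | b2 <;> rw [b1, b2] at hc ⊢
      exacts [(h1 (one_pp ψ ▸ hc)).elim, .inr rfl, .inl rfl, (hD hc).elim]
  have e6 := hz _ (mul_mem hn (τ_mem_NS h hW hS))
  rw [show n * τ * ψ (𝐰, 1) * (n * τ)⁻¹ = n * (τ * ψ (𝐰, 1) * τ⁻¹) * n⁻¹ by group, hS.swap] at e6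
  have e7 : ψ (𝐰, 1) ≠ ψ (1, 𝐰) := fun e => hW.w_ne (hS.eq_iff.1 e).1
  refine e1 ((e3 _ rfl).symm.trans ?_)
  rw [show ψ (𝐰, 𝐰) = ψ (𝐰, 1) * ψ (1, 𝐰) by rw [mul_pp]; simp, ← conj_mul]
  rcases hz n hn with a1 | a1 <;> rcases e6 with a2 | a2
  · exact (e7 (by simpa using a1.trans a2.symm)).elim
  · rw [a1, a2]
  · rw [a1, a2, mul_pp, mul_pp]; simp
  · exact (e7 (by simpa using a1.trans a2.symm)).elim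

theorem WrW.fu_of (e : IsConj (ψ (𝐰, 𝐝)) (ψ (𝐰, 𝐰))) : Fu ψ 𝐰 𝐝 := by
  obtain ⟨g, e1, e2⟩ := hS.ext_a hW e
  have hg : g ∈ NS 𝐀 := A4_wc h hW hS (cj_le_iff.2 fun a ha =>
    e2 a (A4_le_S _ ha) (A4_comm h a ha _ (mem_pp.2 ⟨_, h.u_mem_U _ _, _, h.u_mem_U _ _, rfl⟩)))
  have hD := hS.not_conj hW
  have hz : g * ψ (𝐰, 1) * g⁻¹ = ψ (𝐰, 1) ∨ g * ψ (𝐰, 1) * g⁻¹ = ψ (1, 𝐰) := by
    have hc : IsConj (ψ (𝐰, 1)) (g * ψ (𝐰, 1) * g⁻¹) := isConj_of rfl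
    have cm : ∀ {p : W}, p ∈ 𝐁 → p * p = 1 → ∀ n, n * p * n⁻¹ * p⁻¹ = 1 ∨ n * p * n⁻¹ * p⁻¹ = 𝐰 := fun hp h2 n =>
      (conj_four h hp h2 n).imp (fun e => by rw [e, mul_inv_cancel]) fun e => by rw [e, hW.w_comm, mul_inv_cancel_right]
    have cj : ∀ a b : G, g * a * g⁻¹ * (g * b * g⁻¹) * (g * a * g⁻¹)⁻¹ * (g * b * g⁻¹)⁻¹ = g * (a * b * a⁻¹ * b⁻¹) * g⁻¹ :=
      fun a b => by group
    obtain ⟨a, b, e3 | e3⟩ := hS.mem_Sw.1 (e2 _ (Syl5.pp_mem (t, 1)) (hS.comm_iff.2 ⟨hW.w_comm t, by simp⟩))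
    · obtain ⟨p, hp, q, hq, e4⟩ := mem_pp.1 (conj_mem_of_mem_normalizer hg (mem_pp.2 ⟨_, h.u_mem_U 0 (2 * k), 1, one_mem _, rfl⟩))
      have h2 : p * p = 1 ∧ q * q = 1 := by rw [← hS.eq_one_iff, ← mul_pp, ← e4, conj_mul, mul_pp, hW.nc.sq, mul_one, one_pp]; group
      have e5 := cj (ψ (t, 1)) (ψ (𝐝, 1))
      rw [e3, e4, conj_pp, conj_pp, inv_pp, inv_pp, mul_pp, mul_pp, h.t_conj_u, ← d_mul_w h, hW.w_comm, mul_inv_cancel_right,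
        show (1 : W) * 1 * 1⁻¹ * 1⁻¹ = 1 by simp] at e5
      rw [← e5] at hc ⊢
      rcases cm hp h2.1 a with b1 | b1 <;> rcases cm hq h2.2 b with b2 | b2 <;> rw [b1, b2] at hc ⊢
      exacts [(ne_one_of_ord (hS.ord_z1 hW) (isConj_one_left.1 (one_pp ψ ▸ hc))).elim, .inr rfl, .inl rfl, (hD hc).elim]
    · obtain ⟨p, hp, q, hq, e4⟩ := mem_pp.1 (conj_mem_of_mem_normalizer' hg (mem_pp.2 ⟨_, h.u_mem_U (2 * k) (2 * k), 1, one_mem _, rfl⟩))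
      have h2 : p * p = 1 ∧ q * q = 1 := by
        rw [← hS.eq_one_iff, ← mul_pp, ← e4, show ∀ a : G, g⁻¹ * a * g * (g⁻¹ * a * g) = g⁻¹ * (a * a) * g from fun a => by group,
          mul_pp, hW.ww, mul_one, one_pp]; group
      have e5 := cj (ψ (t, 1)) (ψ (p, q))
      rw [e3, conj_pp, inv_pp ψ p, mul_pp, ← e4, show ∀ a : G, g * (g⁻¹ * a * g) * g⁻¹ = a from fun a => by group, hS.τ_conj,
        inv_pp, mul_pp, hW.w_comm b, hW.w_inv] at e5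
      simp only [mul_one, one_mul, inv_one, mul_inv_cancel, mul_inv_cancel_right] at e5
      rcases cm hp h2.1 t with b1 | b1 <;> rw [b1] at e5
      · exact (hW.w_ne (hS.eq_one_iff.1 (by rw [e5, one_pp]; group)).1).elim
      · exact (hD (e5 ▸ hc)).elim
  have fin : ∀ g : G, g * ψ (𝐰, 𝐝) * g⁻¹ = ψ (𝐰, 𝐰) → g * ψ (𝐰, 1) * g⁻¹ = ψ (𝐰, 1) → Fu ψ 𝐰 𝐝 := fun g e1 e2 =>
    ⟨g, mem_Cx'.2 e2, by
      rw [show ψ (1, 𝐝) = ψ (𝐰, 1) * ψ (𝐰, 𝐝) by rw [mul_pp, hW.ww, one_mul], ← conj_mul, e1, e2, mul_pp, hW.ww, one_mul]⟩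
  have cτ : ∀ a : G, τ * g * a * (τ * g)⁻¹ = τ * (g * a * g⁻¹) * τ⁻¹ := fun a => by group
  exact hz.elim (fin g e1) fun e => fin (τ * g) (by rw [cτ, e1, hS.swap]) (by rw [cτ, e, hS.swap])

theorem fu_wr [IsSimpleGroup G] : ∃ ψ' : W × W →* G, Syl5 ψ' τ ∧
    Fu ψ' (wu x y (2 * k) (2 * k)) (wu x y 0 (2 * k)) := by
  rcases wt_wr h hW hS with e | e
  · exact ⟨ψ, hS, fu_of h hW hS e⟩
  obtain ⟨φ, h1, h2⟩ := hW.nu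
  obtain ⟨ψ', hS', e'⟩ := hS.twist hW h1
  exact ⟨ψ', hS', fu_of h hW hS' (by rwa [e', e', h2, hW.map_w h1, hW.ww, one_mul, mul_one, one_mul])⟩

end CfsgLib.GHD
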