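import Mathlib
import Cfsg.Agent.Lib.GHD.FWr1

/-! Package FWR3 of `plans/GHD.md`: fusion, `W` wreathed. -/

set_option autoImplicit false
set_option linter.unusedSectionVars false

namespace CfsgLib.GHD

open Subgroup Cfsg CfsgLib.W2 CfsgLib.Tech CfsgLib.PComp CfsgLib.Abel2 CfsgLib.L3K CfsgLib.GHA
open CfsgLib.TwoGrp WrW

universe u

variable {G : Type u} [Group G] [Finite G] {W : Type*} [Group W] [Finite W]
  {k : ℕ} {x y t : W} {ψ : W × W →* G} {τ : G}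

local notation "𝐮" => wu x y
local notation "𝐁" => wrA x y 1 1
local notation "𝐰" => wu x y (2 * (k : ℤ)) (2 * (k : ℤ))
local notation "𝐝" => wu x y 0 (2 * (k : ℤ))
local notation "𝐀" => A4 ψ (wrA x y 1 1)
local notation "𝐃" => Subgroup.map ψ (Subgroup.prod (wrA x y (-1) (4 * (k : ℤ))) ⊥)
local notation "𝐇" => Cx (ψ (wu x y (2 * (k : ℤ)) (2 * (k : ℤ)), 1))

theorem WrW.dv {n a b : ℤ} (h : n ∣ a) (e : a = b := by ring) : n ∣ b := e ▸ h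

/-- the elements of `N(A) ⊓ C(z)` that centralise `Ω₁(A)` modulo `z` -/
def WrW.YY (A : Subgroup G) (z : G) : Subgroup G where
  carrier := {n | n ∈ NS A ⊓ Cx z ∧ ∀ e ∈ A, e * e = 1 → n * e * n⁻¹ * e⁻¹ ∈ zpowers z}
  one_mem' := ⟨one_mem _, fun e _ _ => by simp⟩
  mul_mem' := fun {a b} ha hb => ⟨mul_mem ha.1 hb.1, fun e he h2 => by
    obtain ⟨m, hm⟩ := hb.2 e he h2
    have := mul_mem (zpow_mem (mem_zpowers z) m) (ha.2 e he h2)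
    rw [← mul_inv_eq_iff_eq_mul.2 (Commute.zpow_right (mem_Cx.1 ha.1.2) m).eq, show z ^ m = _ from hm] at this
    convert this using 1; group⟩
  inv_mem' := fun {a} ha => ⟨inv_mem ha.1, fun e he h2 => by
    have := inv_mem (ha.2 _ (conj_mem_of_mem_normalizer' ha.1.1 he) (by
      rw [show a⁻¹ * e * a * (a⁻¹ * e * a) = a⁻¹ * (e * e) * a by group, h2]; group))
    convert this using 1; group⟩

theorem WrW.YY_norm (A : Subgroup G) (z : G) : NS A ⊓ Cx z ≤ NS (YY A z) := fun m hm =>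
  mem_normalizer_of_forall fun n hn => ⟨mul_mem (mul_mem hm hn.1) (inv_mem hm), fun e he h2 => by
    obtain ⟨j, hj⟩ := hn.2 _ (conj_mem_of_mem_normalizer' hm.1 he) (by
      rw [show m⁻¹ * e * m * (m⁻¹ * e * m) = m⁻¹ * (e * e) * m by group, h2]; group)
    have := zpow_mem (mem_zpowers z) j
    rw [← mul_inv_eq_iff_eq_mul.2 (Commute.zpow_right (mem_Cx.1 hm.2) j).eq, show z ^ j = _ from hj] at this
    convert this using 1; group⟩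

/-- the strongly closed quaternion subgroup -/
def WrW.QQ (h : IsWr ⊤ k x y t) {c : W} (hc : c * c = 1) : Subgroup (W × W) where
  carrier := {p | ∃ a b, (4 * k : ℤ) ∣ a + b ∧ (p = (𝐮 a b, 1) ∨ p = (𝐮 a (b + 2 * k) * t, c))}
  one_mem' := ⟨0, 0, by simp, .inl (by rw [wu_zero]; rfl)⟩
  mul_mem' := by
    rintro _ _ ⟨a, b, h1, rfl | rfl⟩ ⟨a', b', h2, rfl | rfl⟩
    · exact ⟨a + a', b + b', dv (dvd_add h1 h2), .inl (by rw [Prod.mk_mul_mk, h.u_mul_u, one_mul])⟩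
    · exact ⟨a + a', b + b', dv (dvd_add h1 h2), .inr (by rw [Prod.mk_mul_mk, h.u_mul_ut, one_mul, add_assoc])⟩
    · exact ⟨a + b', b + a', dv (dvd_add h1 h2),
        .inr (by rw [Prod.mk_mul_mk, h.ut_mul_u, mul_one, add_right_comm b])⟩
    · exact ⟨a + (b' + 2 * k), b + 2 * k + a', dv (dvd_add (dvd_add h1 h2) (dvd_refl _)), .inl (by rw [Prod.mk_mul_mk, h.ut_mul_ut, hc])⟩
  inv_mem' := by
    rintro _ ⟨a, b, h1, rfl | rfl⟩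
    · exact ⟨-a, -b, dv (h1.neg_right), .inl (by rw [Prod.inv_mk, h.u_inv, inv_one])⟩
    · exact ⟨-(b + 2 * k), -a - 2 * k, dv (dvd_sub h1.neg_right (dvd_refl _)),
        .inr (by rw [Prod.inv_mk, h.ut_inv, inv_eq_of_mul_eq_one_right hc, sub_add_cancel])⟩

variable (h : IsWr ⊤ k x y t)
  (hW : WD (wu x y (2 * k) (2 * k)) (wu x y 0 (2 * k)) (wu x y k k * t) (wu x y k (-k)))
  (hS : Syl5 ψ τ)
include h hW hS

namespace WrW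

theorem u_mem_D {a b : ℤ} {q : W} : ψ (𝐮 a b, q) ∈ 𝐃 ↔ (4 * k : ℤ) ∣ a + b ∧ q = 1 := by
  rw [pp_mem_pp hS.inj, h.u_mem_wrA dvd_rfl, mem_bot, neg_mul, one_mul, sub_neg_eq_add]

theorem mem_D {g : G} (hg : g ∈ 𝐃) : ∃ a b, (4 * k : ℤ) ∣ a + b ∧ g = ψ (𝐮 a b, 1) := by
  obtain ⟨p, hp, q, hq, rfl⟩ := mem_pp.1 hg
  obtain ⟨a, b, rfl, e⟩ := h.mem_wrA.1 hp
  exact ⟨a, b, by simpa using e, by rw [mem_bot.1 hq]⟩

theorem D_le : 𝐃 ≤ 𝐀 := fun g hg => by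
  obtain ⟨a, b, -, rfl⟩ := mem_D h hW hS hg
  exact mem_pp.2 ⟨_, h.u_mem_U a b, 1, one_mem _, rfl⟩

theorem D_inv {g : G} (hg : g ∈ 𝐃) (h2 : g * g = 1) : g = 1 ∨ g = ψ (𝐰, 1) := by
  obtain ⟨a, b, e, rfl⟩ := mem_D h hW hS hg
  rw [mul_pp, hS.eq_one_iff] at h2
  rcases four h (h.u_mem_U a b) h2.1 with e1 | e1 | e1 | e1 <;> rw [e1]
  · exact .inl (one_pp ψ)
  · rw [h.u_eq_iff] at e1
    exact (h.not_dvd_two (dv (dvd_sub e (dvd_add e1.1 e1.2)))).elim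
  · exact .inr rfl
  · rw [d_mul_w h, h.u_eq_iff] at e1
    exact (h.not_dvd_two (dv (dvd_sub e (dvd_add e1.1 e1.2)))).elim

theorem norm_D : NS 𝐀 ⊓ 𝐇 ≤ NS 𝐃 := fun m hm => by
  have z2 : ψ (𝐰, 1) * ψ (𝐰, 1) = 1 := sq_of_ord (hS.ord_z1 hW)
  have hY : ∀ n ∈ YY 𝐀 (ψ (𝐰, 1)), ∀ e ∈ 𝐀, n * e * n⁻¹ * e⁻¹ ∈ 𝐃 := fun n hn e he => by
    obtain ⟨⟨p, q⟩, hp, e1⟩ := A4_act h hW hS (Y := YY 𝐀 (ψ (𝐰, 1))) (fun n hn => hn.1.1) (fun n hn => hn.1.2)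
      ((le_inf (T_le_NS h) (hS.T_le hW)).trans (YY_norm _ _)) (fun n hn e he h2 => by
        rw [← mul_inv_eq_iff_eq_mul, show n * n * e * (n * n)⁻¹ = n * (n * e * n⁻¹) * n⁻¹ by group]
        rcases (mem_zpowers_iff_of_mul_self z2).1 (hn.2 e he h2) with e1 | e1 <;> rw [mul_inv_eq_iff_eq_mul] at e1
        · rw [one_mul] at e1; rw [e1, e1]
        · rw [e1, ← conj_mul, e1, mem_Cx'.1 hn.1.2, ← mul_assoc, z2, one_mul]) hn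
    have hq : q ∈ 𝐁 := mem_of_d h <| by
      have := (mem_zpowers_iff_of_mul_self z2).1 (hp.2 _ (mem_pp.2 ⟨1, one_mem _, _, h.u_mem_U 0 (2 * k), rfl⟩)
        (by rw [mul_pp, hW.nc.sq, one_mul, one_pp]))
      rw [conj_pp, inv_pp, mul_pp, hS.eq_one_iff, hS.eq_iff] at this
      exact (mul_inv_eq_iff_eq_mul.1 (mul_inv_eq_one.1 (this.elim (·.2) (·.2)))).symm
    obtain ⟨e2, h2, e3, h3, rfl⟩ := mem_pp.1 he
    rw [e1 _ he, conj_pp, inv_pp, mul_pp, pp_mem_pp hS.inj, h.wrA_comm hq h3, ← h.commutator_eq]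
    exact ⟨commutator_mem_commutator (mem_top p) (mem_top e2), by simp⟩
  have hσ : ψ (t, 1) ∈ YY 𝐀 (ψ (𝐰, 1)) := ⟨⟨T_le_NS h ⟨_, rfl⟩, hS.T_le hW ⟨_, rfl⟩⟩, fun e he h2 => by
    obtain ⟨p, hp, q, hq, rfl⟩ := mem_pp.1 he
    rw [mul_pp, hS.eq_one_iff] at h2
    rw [conj_pp, inv_pp, mul_pp, mem_zpowers_iff_of_mul_self z2, hS.eq_one_iff, hS.eq_iff]
    exact (conj_four h hp h2.1 t).imp (fun e => by rw [e]; simp) fun e => by rw [e, hW.w_comm]; simp⟩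
  refine mem_normalizer_of_forall fun g hg => ?_
  obtain ⟨a, b, e, rfl⟩ := mem_D h hW hS hg
  have := hY _ (conj_mem_of_mem_normalizer (YY_norm _ _ hm) hσ) _
    (conj_mem_of_mem_normalizer hm.1 (mem_pp.2 ⟨_, h.u_mem_U 0 a, 1, one_mem _, rfl⟩))
  rw [show ∀ s e : G, m * s * m⁻¹ * (m * e * m⁻¹) * (m * s * m⁻¹)⁻¹ * (m * e * m⁻¹)⁻¹ = m * (s * e * s⁻¹ * e⁻¹) * m⁻¹ from
    fun s e => by group, conj_pp, inv_pp, mul_pp, h.t_conj_u, h.u_inv, h.u_mul_u] at this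
  rwa [show 𝐮 a b = 𝐮 (a + -0) (0 + -a) from h.u_eq_iff.2 ⟨by simp, dv (e)⟩,
    show (1 : W) = 1 * 1 * 1⁻¹ * 1⁻¹ by simp]

theorem sc_D {g p : G} (hg : g ∈ 𝐇) (hp : p ∈ 𝐃) (h1 : g * p * g⁻¹ ∈ 𝐀) : g * p * g⁻¹ ∈ 𝐃 := by
  have hz : ψ (𝐰, 1) ∈ 𝐀 := mem_pp.2 ⟨_, h.u_mem_U _ _, 1, one_mem _, rfl⟩
  obtain ⟨n, hn, e⟩ := A4_ctrl h hW hS (X := {p, ψ (𝐰, 1)}) (g := g) (by rintro _ (rfl | rfl); exacts [D_le h hW hS hp, hz])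
    (by rintro _ (rfl | rfl); exacts [h1, (mem_Cx'.1 hg).symm ▸ hz])
  exact e p (.inl rfl) ▸ conj_mem_of_mem_normalizer (norm_D h hW hS ⟨hn, mem_Cx'.2 ((e _ (.inr rfl)).trans (mem_Cx'.1 hg))⟩) hp

end WrW

theorem fus_wr [IsSimpleGroup G] (hu : Fu ψ (wu x y (2 * k) (2 * k)) (wu x y 0 (2 * k))) :
    ∃ Q, Fus ψ (wu x y (2 * k) (2 * k)) (wu x y 0 (2 * k)) (wu x y k k * t) (wu x y k (-k)) Q := by
  obtain ⟨c, hc, g0, e1, e2⟩ := exists_refl h hW hS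
  have hcc : c * c = 1 := hc.elim (fun e => by rw [e, one_mul]) fun e => by rw [e, hW.ww]
  have hcZ : c ∈ center W := hc.elim (· ▸ one_mem _) (· ▸ hW.w_mem)
  have hcB := center_le h hcZ
  have hg0 : g0 ∈ 𝐇 := mem_Cx'.2 (e1 _ hW.w_mem 1 (one_mem _))
  have hT : ∀ p, ψ p ∈ 𝐇 := fun p => hS.T_le hW ⟨p, rfl⟩
  have e3 : ∀ q ∈ 𝐁, g0 * ψ (𝐮 k k * t, q) * g0⁻¹ = ψ (𝐮 k (-k), q * c) := fun q hq => by
    rw [show ψ (𝐮 k k * t, q) = ψ (𝐮 k k, q) * ψ (t, 1) by rw [mul_pp, mul_one], ← conj_mul, e2, e1 _ (diag_mem h k) q hq, mul_pp,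
      h.u_mul_u, show 𝐮 (k + 0) (k + 2 * k) = 𝐮 k (-k) from h.u_eq_iff.2 ⟨by simp, 1, by ring⟩]
  have cτ : ∀ a b : W, τ * g0 * τ⁻¹ * ψ (a, b) * (τ * g0 * τ⁻¹)⁻¹ = τ * (g0 * ψ (b, a) * g0⁻¹) * τ⁻¹ := fun a b => by
    rw [← hS.swap b a]; group
  have hg1 : τ * g0 * τ⁻¹ ∈ 𝐇 := mem_Cx'.2 (by rw [cτ, e1 1 (one_mem _) _ (h.u_mem_U _ _), hS.swap])
  have cc : ∀ a b s : G, a * b * s * (a * b)⁻¹ = a * (b * s * b⁻¹) * a⁻¹ := fun a b s => by group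
  have cb : ∀ a b : ℤ, (4 * k : ℤ) ∣ a + b → 𝐮 (k - a) 0 * (𝐮 a (b + 2 * k) * t) * (𝐮 (k - a) 0)⁻¹ = 𝐮 k k * t := fun a b e => by
    rw [h.u_conj_ut, mul_left_inj, h.u_eq_iff]
    exact ⟨⟨0, by ring⟩, dv (e)⟩
  have inv : ∀ g ∈ 𝐇, ∀ p ∈ 𝐃, g * p * g⁻¹ * (g * p * g⁻¹) = 1 → g * p * g⁻¹ = 1 ∨ g * p * g⁻¹ = ψ (𝐰, 1) := fun g hg p hp e =>
    (D_inv h hW hS hp (by simpa using (conj_mul.symm.trans e))).imp (fun e => by rw [e]; group) fun e => by rw [e, mem_Cx'.1 hg]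
  -- squares
  have sq : ∀ g ∈ 𝐇, ∀ p ∈ 𝐃, ∀ a b, g * p * g⁻¹ = ψ (a, b) → b * b = 1 ∧
      (a ∉ 𝐁 → ∃ i j, (4 * k : ℤ) ∣ i + j ∧ a = 𝐮 i (j + 2 * k) * t) := fun g hg p hp a b e => by
    have h1 := sc_D h hW hS hg (mul_mem hp hp) (by rw [← conj_mul, e]; exact sq_A4 h ⟨_, rfl⟩)
    rw [← conj_mul, e, mul_pp] at h1
    have hb := mem_bot.1 ((pp_mem_pp hS.inj).1 h1).2
    refine ⟨hb, fun ha => ?_⟩
    obtain ⟨i, j, rfl⟩ := of_notMem h ha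
    rw [h.ut_sq, u_mem_D h hW hS] at h1
    rcases h.half h1.1 with h2 | h2
    · have := inv g hg p hp (by rw [e, mul_pp, h.ut_sq, hb, h.u_eq_one_iff.2 ⟨h2, h2⟩, one_pp])
      rw [e, hS.eq_one_iff, hS.eq_iff] at this
      exact (ha (this.elim (·.1 ▸ one_mem _) (·.1 ▸ h.u_mem_U _ _))).elim
    · exact ⟨i, j - 2 * k, dv (h2), by rw [sub_add_cancel]⟩
  have s1 : ∀ g ∈ 𝐇, ∀ p ∈ 𝐃, ∀ a ∈ 𝐁, ∀ b, g * p * g⁻¹ = ψ (a, b) → ψ (a, b) ∈ 𝐃 := fun g hg p hp a ha b e => by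
    by_cases hb : b ∈ 𝐁
    · exact e ▸ sc_D h hW hS hg hp (e ▸ mem_pp.2 ⟨a, ha, b, hb, rfl⟩)
    obtain ⟨v, -, rfl⟩ := conj_t h hb (sq g hg p hp a _ e).1
    have e4 : τ * g0 * τ⁻¹ * (ψ (1, v⁻¹) * g) * p * (τ * g0 * τ⁻¹ * (ψ (1, v⁻¹) * g))⁻¹ = ψ (c * a, 𝐝) := by
      rw [cc, cc (ψ _), e, conj_pp, cτ, show ψ (v⁻¹ * (v * t * v⁻¹) * v⁻¹⁻¹, 1 * a * 1⁻¹) = ψ (t, 1) * ψ (1, a) by
        rw [mul_pp]; congr 2 <;> group, ← conj_mul (b := g0), e2, e1 1 (one_mem _) a ha, mul_pp, hS.swap, mul_one]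
    have := sc_D h hW hS (mul_mem hg1 (mul_mem (hT _) hg)) hp (e4 ▸ mem_pp.2 ⟨_, mul_mem hcB ha, _, h.u_mem_U _ _, rfl⟩)
    rw [e4, pp_mem_pp hS.inj] at this
    exact (hW.nc.ne_one (mem_bot.1 this.2)).elim
  have hi : ψ (𝐮 k (-k), 1) ∈ 𝐃 := (u_mem_D h hW hS).2 ⟨by simp, rfl⟩
  have e5 : g0 * ψ (𝐮 k k * t, c) * g0⁻¹ = ψ (𝐮 k (-k), 1) := by rw [e3 c hcB, hcc]
  have s2 : ∀ g ∈ 𝐇, ∀ p ∈ 𝐃, ∀ a b, g * p * g⁻¹ = ψ (a, b) → (a, b) ∈ QQ h hcc := fun g hg p hp a b e => by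
    by_cases ha : a ∈ 𝐁
    · obtain ⟨i, j, e4, e6⟩ := mem_D h hW hS (s1 g hg p hp a ha b e)
      exact ⟨i, j, e4, .inl (hS.inj e6)⟩
    obtain ⟨hb, h1⟩ := sq g hg p hp a b e
    obtain ⟨i, j, e4, rfl⟩ := h1 ha
    by_cases hb' : b ∈ 𝐁
    · refine ⟨i, j, e4, .inr (Prod.ext rfl ?_)⟩
      have := s1 _ (mul_mem hg0 (mul_mem (hT (𝐮 (k - i) 0, 1)) hg)) p hp _ (h.u_mem_U k (-k)) (b * c) (by
        rw [cc, cc (ψ _), e, conj_pp, cb i j e4, one_mul, inv_one, mul_one, e3 b hb'])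
      exact (eq_inv_of_mul_eq_one_left (mem_bot.1 ((pp_mem_pp hS.inj).1 this).2)).trans (inv_eq_of_mul_eq_one_right hcc)
    exfalso
    obtain ⟨v, -, rfl⟩ := conj_t h hb' hb
    have e6 : ψ (𝐮 (k - i) 0, v⁻¹) * g * p * (ψ (𝐮 (k - i) 0, v⁻¹) * g)⁻¹ = ψ (𝐮 k k * t, t) := by
      rw [cc, e, conj_pp, cb i j e4]; congr 2; group
    have hg2 := mul_mem (hT (𝐮 (k - i) 0, v⁻¹)) hg
    generalize ψ (𝐮 (k - i) 0, v⁻¹) * g = g2 at e6 hg2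
    have pp : p * p = ψ (𝐰, 1) := by
      have : g2 * (p * p) * g2⁻¹ = g2 * ψ (𝐰, 1) * g2⁻¹ := by rw [← conj_mul, e6, mem_Cx'.1 hg2, mul_pp, h.ut_sq, h.tt, two_mul]
      simpa using this
    obtain ⟨i', j', -, rfl⟩ := mem_D h hW hS hp
    have hn : ¬ (4 * k : ℤ) ∣ i' - j' := fun e7 => by
      rw [mul_pp, hS.eq_iff, h.u_mul_u, h.u_eq_iff] at pp
      exact h.not_dvd_two (dv (dvd_sub (dvd_add e7 ((u_mem_D h hW hS).1 hp).1) pp.1.1))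
    have hC : Cx (𝐮 i' j') = 𝐁 :=
      le_antisymm (fun s hs => mem_of_comm h hn (mem_Cx.1 hs).symm) fun s hs => mem_Cx.2 (h.wrA_comm hs (h.u_mem_U _ _))
    have ext := isSylowIn_cent_of_index (hS.syl_T hW) (b := ψ (𝐮 i' j', 1)) ⟨_, rfl⟩ (by
      rw [hS.card_T, hS.card_cent_T, hC, show Cx (1 : W) = ⊤ from eq_top_iff.2 fun g _ => mem_Cx.2 (by simp), card_top, card_W h,
        h.card_U]; ring) (by
      rintro n hn ⟨⟨a, b⟩, e7⟩ h2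
      have h3 : a ∈ center W := mem_center_iff.2 fun s => (hS.comm_iff.1 (mem_Cx.1 (e7 ▸ h2 ⟨(s, 1), rfl⟩))).1
      obtain ⟨i, j, e8, e9⟩ := mem_D h hW hS (s1 n hn _ hp a (center_le h h3) b e7.symm)
      have e10 := (hS.eq_iff.1 e9).1
      have e11 := h.commute_u_ut_iff.1 (e10 ▸ mem_center_iff.1 h3 (𝐮 0 0 * t)).symm
      have : n * ψ (𝐰, 1) * n⁻¹ = 1 := by
        rw [← pp, ← conj_mul, ← e7, e9, mul_pp, h.u_mul_u, mul_one, hS.eq_one_iff, h.u_eq_one_iff]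
        exact ⟨⟨dv (dvd_add e8 e11), dv (dvd_sub e8 e11)⟩, rfl⟩
      exact ne_one_of_ord (hS.ord_z1 hW) (by simpa using this))
    obtain ⟨n, hn, e7, e8⟩ := exists_ext (hS.syl_T hW).pgroup (hS.syl_T hW).le ext (inv_mem hg2) (a := ψ (𝐮 k k * t, t))
      (by rw [← e6]; group)
    have e9 : ψ (𝐮 k k * t, c) * ψ (𝐮 k k * t, t) = ψ (𝐮 k k * t, t) * ψ (𝐮 k k * t, c) :=
      hS.comm_iff.2 ⟨rfl, (mem_center_iff.1 hcZ t).symm⟩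
    obtain ⟨⟨a, b⟩, e10⟩ := e8 _ ⟨_, rfl⟩ e9
    have ha : a ∈ 𝐁 := hC ▸ mem_Cx.2 (hS.comm_iff.1 (by rw [e10, ← e7, conj_mul, conj_mul, e9])).1
    have h2 := mul_mem (inv_mem (s1 _ (mul_mem hn (inv_mem hg0)) _ hi a ha b (by rw [e10, ← e5]; group))) hp
    rw [e10, ← e7, show ∀ a b : G, (n * a * n⁻¹)⁻¹ * (n * b * n⁻¹) = n * (a⁻¹ * b) * n⁻¹ from fun a b => by group, inv_pp, mul_pp,
      inv_mul_cancel, inv_eq_of_mul_eq_one_right hcc] at h2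
    have := inv _ (inv_mem hn) _ h2
    rw [show ∀ a : G, n⁻¹ * (n * a * n⁻¹) * n⁻¹⁻¹ = a from fun a => by group, hS.eq_one_iff, hS.eq_iff] at this
    have h3 : c * t = 1 := (this (by
      rw [mul_pp, one_mul, ← mul_assoc, mul_assoc c, mem_center_iff.1 hcZ t, ← mul_assoc, hcc, one_mul, h.tt, one_pp])).elim (·.2) (·.2)
    exact t_notMem h (eq_inv_of_mul_eq_one_right h3 ▸ inv_mem hcB)
  refine ⟨QQ h hcc, ⟨?_, fun p => ⟨fun hp => ?_, fun hp => mem_centralizer_iff.2 ?_⟩, hu,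
    _, hg1, c, hcZ, 1, one_mem _, by rw [cτ, e5, hS.swap]⟩⟩
  · rintro g hg _ ⟨a, b, e, rfl | rfl⟩ ⟨p, q⟩ e4
    · exact s2 g hg _ ((u_mem_D h hW hS).2 ⟨e, rfl⟩) p q e4
    · refine s2 _ (mul_mem hg (inv_mem (mul_mem hg0 (hT (𝐮 (k - a) 0, 1))))) _ hi p q ?_
      rw [← e4, ← e5, ← cb a b e, show c = 1 * c * 1⁻¹ by simp, ← conj_pp, one_mul, inv_one, mul_one]; group
  · have h1 := congrArg Prod.fst (mem_centralizer_iff.1 hp _ ⟨k, -k, by simp, .inl rfl⟩)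
    have h2 := congrArg Prod.fst (mem_centralizer_iff.1 hp _ ⟨0, 0, by simp, .inr rfl⟩)
    obtain ⟨a, b, e⟩ := h.mem_U.1 (mem_of_comm h (fun e => h.not_dvd_two (dv (e))) h1)
    simp only [Prod.fst_mul, e] at h2
    rw [e, show 𝐮 a b = 𝐮 a a from h.u_eq_iff.2 ⟨by simp, dvd_sub_comm.1 (h.commute_u_ut_iff.1 h2.symm)⟩]
    exact diag_mem h a
  · rintro _ ⟨a, b, -, rfl | rfl⟩
    exacts [Prod.ext (mem_center_iff.1 hp _) (by simp), Prod.ext (mem_center_iff.1 hp _) (mem_center_iff.1 hcZ _).symm]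

end CfsgLib.GHD
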