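import Mathlib
import Cfsg.Agent.Lib.GHD.Lab
import Cfsg.Agent.Lib.Gold.Tools
import Cfsg.Agent.Lib.FT.OddOrder
import Cfsg.Agent.S0217

/-! Package SIG of `plans/GHD.md`: a signalizer functor from weak balance in corank 2. -/

set_option autoImplicit false

namespace CfsgLib.GHD

open Subgroup Cfsg CfsgLib.W2 CfsgLib.Tech CfsgLib.PComp CfsgLib.Abel2 CfsgLib.L3K
open scoped MatrixGroups commutatorElement

universe u

variable {G : Type u} [Group G] [Finite G] {E : Subgroup G}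

namespace Sig

variable {A B F F' : Subgroup G}

omit [Finite G] in
theorem comm (hE : ∀ e ∈ E, e * e = 1) {a b : G} (ha : a ∈ E) (hb : b ∈ E) : a * b = b * a := by
  have h1 := inv_eq_of_mul_eq_one_right (hE a ha)
  have h2 := inv_eq_of_mul_eq_one_right (hE b hb)
  have h3 := inv_eq_of_mul_eq_one_right (hE _ (mul_mem ha hb))
  rw [mul_inv_rev, h1, h2] at h3
  exact h3.symm

omit [Finite G] in
theorem E_le_CS (hE : ∀ e ∈ E, e * e = 1) (hA : A ≤ E) : E ≤ CS A := fun _ hb =>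
  mem_centralizer_iff.2 fun _ ha => comm hE (hA ha) hb

omit [Finite G] in
theorem CS_anti (h : A ≤ B) : CS B ≤ CS A := centralizer_le h

omit [Finite G] in
theorem CS_le_NS (A : Subgroup G) : CS A ≤ NS A := centralizer_le_normalizer _

omit [Finite G] in
theorem CS_le_NS_OC (A : Subgroup G) : CS A ≤ NS (OC A) := le_normalizer_opOf _

omit [Finite G] in
theorem OC_le (A : Subgroup G) : OC A ≤ CS A := opOf_le _

theorem odd_OC (A : Subgroup G) : Odd (Nat.card (OC A)) := W2.odd_card_opOf _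

omit [Finite G] in
theorem E_le_NS_OC (hE : ∀ e ∈ E, e * e = 1) (hA : A ≤ E) : E ≤ NS (OC A) :=
  (E_le_CS hE hA).trans (CS_le_NS_OC A)

theorem OC_inf_le (h : A ≤ B) : OC A ⊓ CS B ≤ OC B := by
  rw [inf_comm]
  exact inf_opOf_le (CS_anti h)

theorem cj_OC (g : G) (A : Subgroup G) : cj g (OC A) = OC (cj g A) := by
  rw [OC, Gold.cj_opOf, cj_centralizer]

omit [Finite G] in
theorem CS_sup_zpowers (F : Subgroup G) (e : G) : CS F ⊓ Cx e ≤ CS (F ⊔ zpowers e) := by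
  intro x hx
  have : F ⊔ zpowers e ≤ Cx x := sup_le
    (fun f hf => mem_Cx.2 (mem_centralizer_iff.1 hx.1 f hf))
    (zpowers_le.2 (mem_Cx.2 (mem_Cx.1 hx.2).symm))
  exact mem_centralizer_iff.2 fun y hy => mem_Cx.1 (this hy)

omit [Finite G] in
theorem comm_sup_le {X Y : Subgroup G} (h1 : Y ≤ NS X) (h2 : Y ≤ CS A) : ⁅X ⊔ Y, A⁆ ≤ ⁅X, A⁆ := by
  rw [commutator_le]
  intro z hz a ha
  obtain ⟨x, hx, y, hy, rfl⟩ := (LAE.mem_sup_iff_of_right_le_normalizer h1).1 hz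
  have e := mem_centralizer_iff.1 (h2 hy) a ha
  have : ⁅x * y, a⁆ = ⁅x, a⁆ := by
    rw [commutatorElement_def, commutatorElement_def, mul_assoc x, ← e]
    group
  rw [this]
  exact commutator_mem_commutator hx ha

theorem odd_sup {X Y : Subgroup G} (h : Y ≤ NS X) (hX : Odd (Nat.card X)) (hY : Odd (Nat.card Y)) :
    Odd (Nat.card ↥(X ⊔ Y)) := by
  have := PLocal.card_sup_mul_card_inf h
  rw [sup_comm]
  exact Odd.of_dvd_nat (hY.mul hX) ⟨_, this.symm⟩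

/-- the signalizer functor -/
def th (E F : Subgroup G) : Subgroup G := (⨆ A, ⨆ _ : Hyp A E ∧ F ≤ A, ⁅OC A, E⁆) ⊔ OC E

omit [Finite G] in
theorem le_th (hA : Hyp A E) (h : F ≤ A) : ⁅OC A, E⁆ ≤ th E F :=
  le_sup_of_le_left (le_iSup₂_of_le (f := fun A (_ : Hyp A E ∧ F ≤ A) => ⁅OC A, E⁆) A ⟨hA, h⟩ le_rfl)

omit [Finite G] in
theorem OE_le_th : OC E ≤ th E F := le_sup_right

omit [Finite G] in
theorem th_le {K : Subgroup G} (h1 : ∀ A, Hyp A E → F ≤ A → ⁅OC A, E⁆ ≤ K) (h2 : OC E ≤ K) :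
    th E F ≤ K :=
  sup_le (iSup₂_le fun A hA => h1 A hA.1 hA.2) h2

omit [Finite G] in
theorem th_anti (h : F ≤ F') : th E F' ≤ th E F :=
  th_le (fun _ hA h' => le_th hA (h.trans h')) OE_le_th

omit [Finite G] in
theorem comm_OC_le (hE : ∀ e ∈ E, e * e = 1) (hA : A ≤ E) : ⁅OC A, E⁆ ≤ OC A :=
  Coprime.commutator_le_of_le_normalizer (E_le_NS_OC hE hA)

omit [Finite G] in
theorem th_le_CS (hE : ∀ e ∈ E, e * e = 1) (hF : F ≤ E) : th E F ≤ CS F :=
  th_le (fun A hA h => ((comm_OC_le hE hA.1).trans (OC_le A)).trans (CS_anti h))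
    ((OC_le E).trans (CS_anti hF))

theorem cj_th_le (g : G) : cj g (th E F) ≤ th (cj g E) (cj g F) := by
  rw [cj, map_le_iff_le_comap]
  refine th_le (fun A hA h => ?_) ?_
  · rw [← map_le_iff_le_comap, ← cj, cj_commutator, cj_OC]
    exact le_th (hA.cj g) (cj_mono g h)
  · rw [← map_le_iff_le_comap, ← cj, cj_OC]
    exact OE_le_th

theorem mem_NS_th {g : G} (h1 : g ∈ NS E) (h2 : g ∈ NS F) : g ∈ NS (th E F) := by
  refine mem_normalizer_of_cj_le ?_
  have := cj_th_le (E := E) (F := F) g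
  rwa [mem_normalizer_iff_cj.1 h1, mem_normalizer_iff_cj.1 h2] at this

theorem E_le_NS_th (hE : ∀ e ∈ E, e * e = 1) (hF : F ≤ E) : E ≤ NS (th E F) := fun _ he =>
  mem_NS_th (le_normalizer he) (CS_le_NS F (E_le_CS hE hF he))

theorem OC_le_th (hE : ∀ e ∈ E, e * e = 1) (hF : F ≤ E) : OC F ≤ th E F := by
  refine Gold.le_of_commutator_of_inf (Gold.isPGroup_of_elem hE) (odd_OC F) (E_le_NS_OC hE hF) ?_
    ((OC_inf_le hF).trans OE_le_th)
  refine Gold.commutator_le_of_hyperplanes hE le_rfl (odd_OC F) (E_le_NS_OC hE hF)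
    fun B h1 h2 => ?_
  have hB : Hyp B E := ⟨h1, h2⟩
  by_cases h : F ≤ B
  · exact (commutator_mono (OC_inf_le h) le_rfl).trans (le_th hB h)
  · obtain ⟨f, hf, hn⟩ := SetLike.not_le_iff_exists.1 h
    have : OC F ⊓ CS B ≤ CS E := by
      rw [← hB.cent_inf (hF hf) hn]
      exact le_inf inf_le_right fun x hx =>
        mem_Cx.2 (mem_centralizer_iff.1 (OC_le F hx.1) f hf).symm
    rw [commutator_eq_bot_iff_le_centralizer.2 this]
    exact bot_le

/-- `F` is close to `E` -/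
def Small (E F : Subgroup G) : Prop := ∀ A, Hyp A E → F ≤ A → ⁅OC A, E⁆ ≤ OC F

omit [Finite G] in
theorem Small.th_le (h : Small E F) : th E F ≤ OC F ⊔ OC E :=
  Sig.th_le (fun A hA h' => le_sup_of_le_left (h A hA h')) le_sup_right

omit [Finite G] in
theorem small_hyp (hE : ∀ e ∈ E, e * e = 1) (hA : Hyp A E) : Small E A := fun B hB h => by
  rw [hA.eq_of_le hB h]
  exact comm_OC_le hE hA.1

omit [Finite G] in
theorem small_two (h : WB E) (hF : Hyp F A) (hA : Hyp A E) : Small E F := fun B hB h' => by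
  refine h F B ⟨h', ?_⟩ hB
  have h1 := relIndex_mul_relIndex F B E h' hB.1
  have h2 := relIndex_mul_relIndex F A E hF.1 hA.1
  rw [hB.2] at h1
  rw [hF.2, hA.2] at h2
  omega

omit [Finite G] in
theorem OE_le_NS (hF : F ≤ E) : OC E ≤ NS (OC F) :=
  ((OC_le E).trans (CS_anti hF)).trans (CS_le_NS_OC F)

omit [Finite G] in
theorem mem_sup_zp (hE : ∀ e ∈ E, e * e = 1) (hB : B ≤ E) {e x : G} (he : e ∈ E)
    (hx : x ∈ B ⊔ zpowers e) : x ∈ B ∨ x * e ∈ B := by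
  have hn : zpowers e ≤ NS B := (zpowers_le.2 (E_le_CS hE hB he)).trans (CS_le_NS B)
  obtain ⟨b, hb, y, ⟨k, rfl⟩, rfl⟩ := (LAE.mem_sup_iff_of_right_le_normalizer hn).1 hx
  have h2 : e ^ (2 : ℤ) = 1 := by rw [zpow_two, hE e he]
  rcases Int.even_or_odd' k with ⟨m, rfl | rfl⟩
  · left
    simp only [zpow_mul, h2, one_zpow, mul_one, hb]
  · right
    simp only [zpow_add, zpow_mul, h2, one_zpow, one_mul, zpow_one, mul_assoc, hE e he, mul_one, hb]

theorem exists_compl (hE : ∀ e ∈ E, e * e = 1) (hF : F ≤ E) :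
    ∃ B, B ≤ E ∧ B ⊓ F = ⊥ ∧ B ⊔ F = E := by
  obtain ⟨B, ⟨h1, h2⟩, hm⟩ := exists_maximal_of_wellFoundedGT
    (fun B : Subgroup G => B ≤ E ∧ B ⊓ F = ⊥) ⟨⊥, bot_le, bot_inf_eq F⟩
  refine ⟨B, h1, h2, le_antisymm (sup_le h1 hF) fun e he => by_contra fun hn => hn ?_⟩
  have h3 : (B ⊔ zpowers e) ⊓ F = ⊥ := by
    refine eq_bot_iff.2 fun x hx => ?_
    rcases mem_sup_zp hE h1 he hx.1 with h | h
    · exact h2.le (mem_inf.2 ⟨h, hx.2⟩)
    · exact absurd ((mul_mem_cancel_left (mem_sup_right hx.2)).1 (mem_sup_left h)) hn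
  exact mem_sup_left (hm ⟨sup_le h1 (zpowers_le.2 he), h3⟩ le_sup_left
    (mem_sup_right (mem_zpowers e)))

theorem eight_le (hE : ∀ e ∈ E, e * e = 1) (h : WB E) (hn : ¬ Small E F) :
    8 ≤ F.relIndex E := by
  simp only [Small, not_forall] at hn
  obtain ⟨A, hA, hF, hn⟩ := hn
  have h1 := relIndex_mul_relIndex F A E hF hA.1
  rw [hA.2] at h1
  have h2 : F.relIndex A ≠ 2 := fun e => hn (h F A ⟨hF, e⟩ hA)
  have h3 : F.relIndex A ≠ 1 := fun e => hn (by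
    rw [le_antisymm hF (relIndex_eq_one.1 e)]
    exact comm_OC_le hE hA.1)
  obtain ⟨n, hn⟩ := (Gold.isPGroup_of_elem fun e he => hE e (hA.1 he)).index (F.subgroupOf A)
  change F.relIndex A = _ at hn
  rw [hn] at h1 h2 h3
  rcases n with _ | _ | n
  · exact absurd rfl h3
  · exact absurd rfl h2
  · have : 0 < 2 ^ n := by positivity
    rw [pow_succ, pow_succ] at h1
    omega

theorem main (hE : ∀ e ∈ E, e * e = 1) (h : WB E) (hF : F ≤ E) :
    Odd (Nat.card (th E F)) ∧ ∀ e ∈ E, th E F ⊓ Cx e ≤ th E (F ⊔ zpowers e) := by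
  induction F using WellFoundedGT.induction with
  | ind F ih =>
  by_cases hs : Small E F
  · refine ⟨Gold.odd_of_le (odd_sup (OE_le_NS hF) (odd_OC F) (odd_OC E)) hs.th_le,
      fun e he x hx => ?_⟩
    obtain ⟨y, hy, o, ho, rfl⟩ :=
      (LAE.mem_sup_iff_of_right_le_normalizer (OE_le_NS hF)).1 (hs.th_le hx.1)
    have h1 : o ∈ Cx e := mem_Cx.2 (mem_centralizer_iff.1 (OC_le E ho) e he).symm
    have h2 : y ∈ Cx e := (mul_mem_cancel_right h1).1 hx.2
    refine mul_mem (OC_le_th hE (sup_le hF (zpowers_le.2 he)) (OC_inf_le le_sup_left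
      (mem_inf.2 ⟨hy, CS_sup_zpowers F e (mem_inf.2 ⟨OC_le F hy, h2⟩)⟩))) (OE_le_th ho)
  obtain ⟨B, hB, hi, hu⟩ := exists_compl hE hF
  have h8 : 2 ^ 3 ≤ Nat.card B := by
    have h1 := PLocal.card_sup_mul_card_inf ((hB.trans (E_le_CS hE hF)).trans (CS_le_NS F))
    rw [hi, hu, card_bot, mul_one] at h1
    have h2 := relIndex_mul_relIndex ⊥ F E bot_le hF
    rw [relIndex_bot_left, relIndex_bot_left, h1, mul_comm] at h2
    rw [← Nat.eq_of_mul_eq_mul_right Nat.card_pos h2]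
    exact eight_le hE h hs
  have hle : ∀ b ∈ B, F ⊔ zpowers b ≤ E := fun b hb => sup_le hF (zpowers_le.2 (hB hb))
  have hlt : ∀ b ∈ B, b ≠ 1 → F < F ⊔ zpowers b := fun b hb h1 =>
    lt_of_le_of_ne le_sup_left fun e => h1
      (mem_bot.1 (hi.le (mem_inf.2 ⟨hb, e ▸ mem_sup_right (mem_zpowers b)⟩)))
  have hex : ∀ A, Hyp A E → ∃ b ∈ B, b ≠ 1 ∧ b ∈ A := fun A hA => by
    by_contra! hn
    have h1 : A ⊓ B = ⊥ := eq_bot_iff.2 fun b hb => by_contra fun h1 => hn b hb.2 h1 hb.1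
    have h2 := relIndex_le_of_le_right (H := A) hB (by rw [hA.2]; decide)
    rw [← inf_relIndex_right, h1, relIndex_bot_left, hA.2] at h2
    omega
  obtain ⟨r1, r2⟩ := Cfsg.Agent.S0217.result (p := 2) B
    (fun a ha b hb => comm hE (hB ha) (hB hb)) (fun a ha => by rw [sq, hE a (hB ha)]) h8
    (fun b => th E (F ⊔ zpowers b))
    (fun a ha _ => (th_le_CS hE (hle a ha)).trans
      (centralizer_le (Set.singleton_subset_iff.2 (mem_sup_right (mem_zpowers a)))))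
    (fun a ha h1 => (ih _ (hlt a ha h1) (hle a ha)).1.not_two_dvd_nat)
    (fun a ha _ b hb x hx => (mem_normalizer_iff.1 (E_le_NS_th hE (hle a ha) (hB hb)) x).1 hx)
    (fun a ha h1 => FT.odd_order_solvable (ih _ (hlt a ha h1) (hle a ha)).1)
    (fun a ha h1 b hb _ => ((ih _ (hlt a ha h1) (hle a ha)).2 b (hB hb)).trans
      (th_anti (sup_le_sup_right le_sup_left _)))
  have hj : (⨆ a : {a : G // a ∈ B ∧ a ≠ 1}, th E (F ⊔ zpowers a.1)) = th E F := by
    refine le_antisymm (iSup_le fun a => th_anti le_sup_left) (th_le (fun A hA h1 => ?_) ?_)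
    · obtain ⟨b, hb, h2, h3⟩ := hex A hA
      exact le_iSup_of_le ⟨b, hb, h2⟩ (le_th hA (sup_le h1 (zpowers_le.2 h3)))
    · simp only [Small, not_forall] at hs
      obtain ⟨A, hA, -⟩ := hs
      obtain ⟨b, hb, h2, -⟩ := hex A hA
      exact le_iSup_of_le ⟨b, hb, h2⟩ OE_le_th
  rw [hj] at r1 r2
  refine ⟨Nat.odd_iff.2 (Nat.two_dvd_ne_zero.1 r1), fun e he => ?_⟩
  obtain ⟨f, hf, b, hb, rfl⟩ := (LAE.mem_sup_iff_of_right_le_normalizer
    ((hB.trans (E_le_CS hE hF)).trans (CS_le_NS F))).1 (sup_comm B F ▸ hu ▸ he)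
  by_cases h1 : b = 1
  · rw [h1, mul_one]
    exact inf_le_left.trans (th_anti (sup_le le_rfl (zpowers_le.2 hf)))
  · refine le_trans (fun x hx => ?_) (((r2 b hb h1).le).trans (th_anti (sup_le le_sup_left
      (zpowers_le.2 (mul_mem (mem_sup_left hf) (mem_sup_right (mem_zpowers b)))))))
    refine mem_inf.2 ⟨hx.1, mem_Cx.2 ?_⟩
    have h2 := mem_Cx.1 hx.2
    have h3 := mem_centralizer_iff.1 (th_le_CS hE hF hx.1) f hf
    rw [← mul_assoc, ← h3, mul_assoc, mul_assoc] at h2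
    exact mul_left_cancel h2

theorem th_inf_le (hE : ∀ e ∈ E, e * e = 1) (h : WB E) (hF : F ≤ F') (hF' : F' ≤ E) :
    th E F ⊓ CS F' ≤ th E F' := by
  induction F using WellFoundedGT.induction with
  | ind F ih =>
  by_cases h1 : F' ≤ F
  · exact inf_le_left.trans (th_anti h1)
  obtain ⟨e, he, hn⟩ := SetLike.not_le_iff_exists.1 h1
  refine le_trans (le_inf ?_ inf_le_right) (ih (F ⊔ zpowers e) (lt_of_le_of_ne le_sup_left
    fun h2 => hn (h2 ▸ mem_sup_right (mem_zpowers e))) (sup_le hF (zpowers_le.2 he)))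
  exact le_trans (inf_le_inf_left _ (centralizer_le (Set.singleton_subset_iff.2 he)))
    ((main hE h (hF.trans hF')).2 e (hF' he))

/-- the `N(A)`-invariant description of `[W₀, A]` -/
def UU (A : Subgroup G) : Subgroup G := ⨆ F, ⨆ _ : Hyp F A, ⁅OC F, A⁆

omit [Finite G] in
theorem le_UU (hF : Hyp F A) : ⁅OC F, A⁆ ≤ UU A :=
  le_iSup₂_of_le (f := fun F (_ : Hyp F A) => ⁅OC F, A⁆) F hF le_rfl

theorem cj_UU_le (g : G) : cj g (UU A) ≤ UU (cj g A) := by
  rw [cj, map_le_iff_le_comap]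
  refine iSup₂_le fun F hF => ?_
  rw [← map_le_iff_le_comap, ← cj, cj_commutator, cj_OC]
  exact le_UU (hF.cj g)

theorem NS_le_NS_UU (A : Subgroup G) : NS A ≤ NS (UU A) := fun g hg => by
  refine mem_normalizer_of_cj_le ?_
  have := cj_UU_le (A := A) g
  rwa [mem_normalizer_iff_cj.1 hg] at this

/-- `U_A O_A` -/
def RR (A : Subgroup G) : Subgroup G := UU A ⊔ OC A

theorem cj_RR_le (g : G) : cj g (RR A) ≤ RR (cj g A) := by
  rw [RR, cj_sup, cj_OC]
  exact sup_le_sup_right (cj_UU_le g) _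

theorem NS_le_NS_RR (A : Subgroup G) : NS A ≤ NS (RR A) := fun g hg => by
  refine mem_normalizer_of_cj_le ?_
  have := cj_RR_le (A := A) g
  rwa [mem_normalizer_iff_cj.1 hg] at this

theorem NS_le_NS_W : NS E ≤ NS (th E ⊥) := fun g hg =>
  mem_NS_th hg (mem_normalizer_iff_cj.2 (cj_bot g))

theorem OC_le_W (hE : ∀ e ∈ E, e * e = 1) (hF : F ≤ E) : OC F ≤ th E ⊥ :=
  (OC_le_th hE hF).trans (th_anti bot_le)

theorem UU_le (hE : ∀ e ∈ E, e * e = 1) (hA : A ≤ E) : UU A ≤ ⁅th E ⊥, E⁆ :=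
  iSup₂_le fun _ hF => commutator_mono (OC_le_W hE (hF.1.trans hA)) hA

theorem comm_W_le : ⁅th E ⊥, E⁆ ≤ th E ⊥ :=
  Coprime.commutator_le_of_le_normalizer (le_normalizer.trans NS_le_NS_W)

theorem RR_le (hE : ∀ e ∈ E, e * e = 1) (hA : A ≤ E) : RR A ≤ th E ⊥ :=
  sup_le ((UU_le hE hA).trans comm_W_le) (OC_le_W hE hA)

theorem W_le (hE : ∀ e ∈ E, e * e = 1) (h : WB E) (hA : Hyp A E) : th E ⊥ ≤ RR A ⊔ OC E := by
  have hA2 : ∀ e ∈ A, e * e = 1 := fun e he => hE e (hA.1 he)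
  have hn : A ≤ NS (th E ⊥) := hA.1.trans (le_normalizer.trans NS_le_NS_W)
  have ho := (main hE h bot_le).1
  refine Gold.le_of_commutator_of_inf (Gold.isPGroup_of_elem hA2) ho hn ?_ ?_
  · refine Gold.commutator_le_of_hyperplanes hA2 le_rfl ho hn fun F h1 h2 => ?_
    have hF : Hyp F A := ⟨h1, h2⟩
    refine (commutator_mono ((th_inf_le hE h bot_le (h1.trans hA.1)).trans
      (small_two h hF hA).th_le) le_rfl).trans ?_
    exact (comm_sup_le (OE_le_NS (h1.trans hA.1)) ((OC_le E).trans (CS_anti hA.1))).trans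
      (le_sup_of_le_left (le_sup_of_le_left (le_UU hF)))
  · exact ((th_inf_le hE h bot_le hA.1).trans (small_hyp hE hA).th_le).trans
      (sup_le_sup_right le_sup_right _)

theorem comm_W_le_RR (hE : ∀ e ∈ E, e * e = 1) (h : WB E) (hA : Hyp A E) :
    ⁅th E ⊥, E⁆ ≤ RR A := by
  have h1 : CS A ≤ NS (RR A) := (CS_le_NS A).trans (NS_le_NS_RR A)
  refine (commutator_mono (W_le hE h hA) le_rfl).trans ((comm_sup_le
    (((OC_le E).trans (CS_anti hA.1)).trans h1) (OC_le E)).trans ?_)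
  exact Coprime.commutator_le_of_le_normalizer ((E_le_CS hE hA.1).trans h1)

theorem comm_cj_le (hE : ∀ e ∈ E, e * e = 1) (h : WB E) (hA : Hyp A E) (hB : Hyp B E) {g : G}
    (hg : g ∈ CS A) : ⁅OC A, cj g E⁆ ≤ RR B := by
  by_cases e : A ≤ B
  · rw [hA.eq_of_le hB e]
    refine le_sup_of_le_right (Coprime.commutator_le_of_le_normalizer (le_trans ?_ (CS_le_NS_OC A)))
    exact (cj_mono g (E_le_CS hE hA.1)).trans (cj_eq_of_mem hg).le
  have e' : ¬ B ≤ A := fun e' => e (hB.eq_of_le hA e').le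
  have h1 : Hyp (B ⊓ A) A := hB.inf hA.1 e
  have h2 : Hyp (B ⊓ A) B := inf_comm A B ▸ hA.inf hB.1 e'
  have h3 := cj_mono g (h _ _ h1 hA)
  rw [cj_commutator, mem_normalizer_iff_cj.1 (CS_le_NS_OC A hg),
    mem_normalizer_iff_cj.1 (CS_le_NS_OC _ (CS_anti inf_le_right hg))] at h3
  refine h3.trans (Gold.le_of_commutator_of_inf (Gold.isPGroup_of_elem fun e he => hE e (hB.1 he))
    (odd_OC _) (hB.1.trans (E_le_NS_OC hE (h2.1.trans hB.1))) (le_sup_of_le_left (le_UU h2))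
    (le_sup_of_le_right (OC_inf_le h2.1)))

end Sig

open Sig

theorem sig0 (hE : ∀ e ∈ E, e * e = 1) (h : WB E) :
    ∃ W : Subgroup G, Odd (Nat.card W) ∧ NS E ≤ NS W ∧
      ∀ A, Hyp A E → OC A ≤ W ∧ (OC E ≤ OC A → NS A ≤ NS W) := by
  refine ⟨th E ⊥, (main hE h bot_le).1, NS_le_NS_W, fun A hA => ⟨OC_le_W hE hA.1, fun h1 => ?_⟩⟩
  rw [le_antisymm ((W_le hE h hA).trans (sup_le le_rfl (le_sup_of_le_right h1))) (RR_le hE hA.1)]
  exact NS_le_NS_RR A

theorem sig (hE : ∀ e ∈ E, e * e = 1) (h : WB E) :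
    ∃ W : Subgroup G, Odd (Nat.card W) ∧ NS E ≤ NS W ∧
      ∀ A, Hyp A E → ⁅OC A, E⁆ ≤ W ∧ ∀ g ∈ CS A, cj g E ≤ NS W := by
  have hW : ∀ {X : Subgroup G}, X ≤ th E ⊥ → (∀ A, Hyp A E → X ≤ RR A) →
      X ≤ th E ⊥ ⊓ ⨅ A, ⨅ _ : Hyp A E, RR A := fun h1 h2 => le_inf h1 (le_iInf₂ h2)
  have hR : ∀ A, Hyp A E → th E ⊥ ⊓ (⨅ A, ⨅ _ : Hyp A E, RR A) ≤ RR A := fun A hA =>
    inf_le_right.trans (iInf₂_le A hA)
  have hc := hW comm_W_le fun A hA => comm_W_le_RR hE h hA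
  refine ⟨th E ⊥ ⊓ ⨅ A, ⨅ _ : Hyp A E, RR A, Gold.odd_of_le (main hE h bot_le).1 inf_le_left,
    fun g hg => mem_normalizer_of_cj_le (hW ?_ fun A hA => ?_), fun A hA =>
      ⟨(commutator_mono (OC_le_W hE hA.1) le_rfl).trans hc, fun g hg k hk => ?_⟩⟩
  · exact (cj_mono g inf_le_left).trans (mem_normalizer_iff_cj.1 (NS_le_NS_W hg)).le
  · have h1 := hA.cj g⁻¹
    rw [mem_normalizer_iff_cj.1 (inv_mem hg)] at h1
    have h2 := (cj_mono g (hR _ h1)).trans (cj_RR_le g)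
    rwa [cj_cj_inv] at h2
  · have hk' : k ∈ CS A := ((cj_mono g (E_le_CS hE hA.1)).trans (cj_eq_of_mem hg).le) hk
    refine mem_normalizer_of_cj_le (cj_le_iff.2 fun w hw => ?_)
    obtain ⟨u, hu, o, ho, rfl⟩ := (LAE.mem_sup_iff_of_right_le_normalizer
      (((OC_le A).trans (CS_le_NS A)).trans (NS_le_NS_UU A))).1 (hR A hA hw)
    have hU := (UU_le hE hA.1).trans hc
    have h1 := (mul_mem_cancel_left (hU hu)).1 hw
    have h2 := hU ((mem_normalizer_iff.1 (NS_le_NS_UU A (CS_le_NS A hk')) u).1 hu)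
    have h3 := hW ((comm_cj_le hE h hA hA hg).trans (RR_le hE hA.1))
      (fun B hB => comm_cj_le hE h hA hB hg) (commutator_mem_commutator ho hk)
    have : k * (u * o) * k⁻¹ = k * u * k⁻¹ * (⁅o, k⁆⁻¹ * o) := by
      rw [commutatorElement_def]
      group
    rw [this]
    exact mul_mem h2 (mul_mem (inv_mem h3) h1)

end CfsgLib.GHD
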