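import Mathlib
import Cfsg.Agent.Lib.U43.Main
import Cfsg.Agent.Lib.Transfer.Thompson
import Cfsg.Agent.Lib.Schur.QuotUniq
import Cfsg.Agent.Lib.Unitary.Simple
import Cfsg.Agent.S2090

/-! Package U43 of `plans/GHD.md`, the abstract part: three copies of `SL₂(3)` with the relations
of the fundamental subgroups generate `U₄(3)`. -/

set_option autoImplicit false

namespace CfsgLib.GHD.U4

open Subgroup CfsgLib.U43 CfsgLib.U43.SL Function

variable {Γ : Type*} [Group Γ]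

/-- Thompson transfer with an abelian complement having a unique involution -/
theorem transfer_cyc [Finite Γ] {H N T : Subgroup Γ} (hi : Odd H.index) (hT : T ≤ H)
    (nT : T ≤ normalizer (N : Set Γ)) (ab : ∀ a ∈ T, ∀ b ∈ T, a * b = b * a)
    (fac : ∀ c ∈ H, ∃ n ∈ N, ∃ d ∈ T, c = n * d) (dis : ∀ d ∈ T, d ∈ N → d = 1) (e4 : ∀ d ∈ T, d ^ 4 = 1) {t : Γ}
    (ht : t ∈ T) (t1 : t ≠ 1) (tt : t * t = 1) (un : ∀ d ∈ T, d * d = 1 → d = 1 ∨ d = t)
    (nc : ∀ g, g⁻¹ * t * g ∉ N) : ∃ K : Subgroup Γ, t ∉ K ∧ ∀ x, x ^ 3 = 1 → x ∈ K := by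
  have nH : (N.subgroupOf H).Normal := ⟨fun x hx c => by
    obtain ⟨n, hn, d, hd, e⟩ := fac c c.2
    rw [mem_subgroupOf, coe_mul, coe_mul, coe_inv, e, ← conj_conj]
    exact mul_mem (mul_mem hn ((mem_normalizer_iff.1 (nT hd) _).1 hx)) (inv_mem hn)⟩
  let π := QuotientGroup.mk' (N.subgroupOf H)
  have k0 : ∀ c : H, π c = 1 → c.1 ∈ N := fun c => (QuotientGroup.eq_one_iff c).1
  have k1 : ∀ c : H, ∃ d, ∃ hd : d ∈ T, π c = π ⟨d, hT hd⟩ ∧ (c * d⁻¹ : Γ) ∈ N := fun c => by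
    obtain ⟨n, hn, d, hd, e⟩ := fac c c.2
    have : (c * d⁻¹ : Γ) ∈ N := by rwa [e, mul_inv_cancel_right]
    exact ⟨d, hd, mul_inv_eq_one.1 ((QuotientGroup.eq_one_iff (c * (⟨d, hT hd⟩ : H)⁻¹)).2 this), this⟩
  have k2 : ∀ a : H ⧸ N.subgroupOf H, ∃ d, ∃ hd : d ∈ T, a = π ⟨d, hT hd⟩ := fun a => by
    obtain ⟨c, rfl⟩ := QuotientGroup.mk'_surjective _ a
    exact (k1 c).imp fun _ h => h.imp fun _ h => h.1
  let : CommGroup (H ⧸ N.subgroupOf H) := { (inferInstance : Group (H ⧸ N.subgroupOf H)) with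
    mul_comm := fun a b => by
      obtain ⟨a, ha, rfl⟩ := k2 a
      obtain ⟨b, hb, rfl⟩ := k2 b
      rw [← map_mul, ← map_mul]
      exact congrArg π (Subtype.ext (ab a ha b hb)) }
  have a2 : π ⟨t, hT ht⟩ ^ 2 = 1 := by
    rw [← map_pow, ← map_one π]; exact congrArg π (Subtype.ext ((pow_two t).trans tt))
  refine ⟨(MonoidHom.transfer π).ker, fun hk => ?_, fun x hx => ?_⟩
  · have := Transfer.transfer_mul_inv_pow_mem_of_prime π ⊥ Nat.prime_two t (StrEmb.orderOf_eq_two tt t1)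
      (π ⟨t, hT ht⟩) a2 fun g hg => by
        obtain ⟨d, hd, e, k⟩ := k1 ⟨_, hg⟩
        have h2 : π ⟨d * d, hT (mul_mem hd hd)⟩ = 1 := by
          have : (⟨_, hg⟩ : H) * ⟨_, hg⟩ = 1 := Subtype.ext (by simp [mul_assoc, ← mul_assoc t t, tt])
          rw [← map_one π, ← this, map_mul, e, ← map_mul]; rfl
        rcases un d hd (dis _ (mul_mem hd hd) (k0 _ h2)) with rfl | rfl
        · exact absurd (by simpa using k) (nc g)
        · rw [e, mul_inv_cancel]; exact one_mem _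
    obtain ⟨m, hm⟩ := hi
    rw [(hk : MonoidHom.transfer π t = 1), one_mul, inv_mem_iff, hm, pow_succ, pow_mul, a2, one_pow, one_mul] at this
    exact t1 (dis t ht (k0 _ this))
  · obtain ⟨d, hd, e⟩ := k2 (MonoidHom.transfer π x)
    have h4 : MonoidHom.transfer π x ^ 4 = 1 := by
      rw [e, ← map_pow, ← map_one π]; exact congrArg π (Subtype.ext (e4 d hd))
    rwa [pow_succ, ← map_pow, hx, map_one, one_mul] at h4

/-- `SU₄(3)` covers every perfect central extension of `U₄(3)` by a 2-group -/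
theorem exists_surj {F : Type*} [Field F] [Fintype F] (hF : Fintype.card F = 9) [Group.IsPerfect Γ]
    (e : Γ ⧸ center Γ ≃* Cfsg.PSU 4 F 3) (h2 : IsPGroup 2 (center Γ)) : ∃ g : Cfsg.SU 4 F 3 →* Γ, Surjective g := by
  have hA := Cfsg.Agent.S2090.result hF
  have p1 : Group.IsPerfect (Cfsg.SU 4 F 3) :=
    ⟨Unitary.su_commutator_eq_top (q := 3) hF (by norm_num) (by norm_num)⟩
  have h₁ : Cfsg.IsStemExtension (QuotientGroup.mk' (center (Cfsg.SU 4 F 3))) :=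
    ⟨QuotientGroup.mk'_surjective _, (QuotientGroup.ker_mk' _).le, p1.commutator_eq_top ▸ le_top⟩
  have k2 : (e.toMonoidHom.comp (QuotientGroup.mk' (center Γ))).ker = center Γ := by
    ext x; exact e.map_eq_one_iff.trans (QuotientGroup.eq_one_iff x)
  have h₂ : Cfsg.IsStemExtension (e.toMonoidHom.comp (QuotientGroup.mk' (center Γ))) :=
    ⟨e.surjective.comp (QuotientGroup.mk'_surjective _), k2.le, Group.IsPerfect.commutator_eq_top (G := Γ) ▸ le_top⟩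
  obtain ⟨Δ, _, _, σ, hσ, ⟨ε⟩⟩ := hA.1
  have : Group.IsPerfect (Cfsg.PSU 4 F 3) := Group.IsPerfect.ofSurjective h₁.1
  have := Schur.perfect_of_stem hσ
  have hk := Schur.card_le_card_stemKer_of_cover hσ ⟨ε⟩
  obtain ⟨η₁, hη₁⟩ := Schur.exists_lift_of_perfect_cover hA (Schur.centralExt_of_stem hσ) hk
    (Schur.centralExt_of_stem h₁)
  obtain ⟨η₂, hη₂⟩ := Schur.exists_lift_of_perfect_cover hA (Schur.centralExt_of_stem hσ) hk
    (Schur.centralExt_of_stem h₂)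
  have s₁ := Schur.surjective_of_lift hσ.1 h₁ η₁ hη₁
  have s₂ := Schur.surjective_of_lift hσ.1 h₂ η₂ hη₂
  obtain ⟨f₁, hf₁, k₁⟩ := Schur.exists_ker_data ε η₁ hη₁ s₁
  obtain ⟨f₂, -, k₂⟩ := Schur.exists_ker_data ε η₂ hη₂ s₂
  have c4 : Nat.card (QuotientGroup.mk' (center (Cfsg.SU 4 F 3))).ker = 4 := by
    rw [QuotientGroup.ker_mk', Unitary.card_center_SU (q := 3) hF (by norm_num)]; rfl
  have hle : f₁.ker ≤ f₂.ker := by
    rw [Schur.ker_eq_pow_range 4 f₁ hf₁ (fun b => (congrArg (b ^ ·) c4).symm.trans pow_card_eq_one') (by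
      rw [c4, Nat.card_eq_fintype_card, Nat.card_eq_fintype_card]; decide +kernel)]
    rintro _ ⟨a, rfl⟩
    obtain ⟨n, hn⟩ := (k2.symm ▸ h2 : IsPGroup 2 _) (f₂ (powMonoidHom 4 a))
    have h3 : f₂ (powMonoidHom 4 a) ^ 3 = 1 := by
      rw [← map_pow, ← map_one f₂]; exact congrArg f₂ (by clear hn; revert a; decide +kernel)
    have := pow_gcd_eq_one.2 ⟨hn, h3⟩
    rwa [Nat.Coprime.pow_left n (by norm_num : Nat.Coprime 2 3), pow_one] at this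
  refine ⟨η₁.liftOfSurjective s₁ ⟨η₂, by rw [k₁, k₂]; exact map_mono (comap_mono hle)⟩, fun y => ?_⟩
  obtain ⟨x, rfl⟩ := s₂ y
  exact ⟨η₁ x, MonoidHom.liftOfRightInverse_comp_apply _ _ _ _ _⟩

/-! ### The group `SL` -/

theorem ext2 {f g : SL →* Γ} (hf : Injective f) (hg : ∀ a, ∃ b, g a = f b) (h1 : g (o 2) = f (o 2))
    (h2 : g (o 4) = f (o 4)) (a : SL) : g a = f a := by
  obtain ⟨c, hc⟩ := hg (o 8)
  refine DFunLike.congr_fun (hom_ext h1 h2 (hc.trans (congrArg f ((by decide +kernel : ∀ c : SL,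
    c * o 2 * c⁻¹ = o 4 → c * o 4 * c⁻¹ = o 2 * o 4 → c * c * c = 1 → c = o 8) c (hf ?_) (hf ?_) (hf ?_))))) a <;>
    simp only [map_mul, map_inv, map_one, ← hc, ← h1, ← h2] <;> simp only [← map_mul, ← map_inv, ← map_one g] <;>
    exact congrArg g (by decide +kernel)

/-- `f` embeds `SL₂(3)`, `h` and `j` are the images of the standard quaternions -/
structure Q (f : SL →* Γ) (h j : Γ) : Prop where
  inj : Injective f
  eh : f (o 2) = h
  ej : f (o 4) = j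

namespace Q

variable {f : SL →* Γ} {h j g : Γ} (q : Q f h j)
include q

theorem ez : f (o 1) = h * h := by rw [← q.eh, ← map_mul]; exact congrArg f (by decide +kernel)

theorem h4 : h * h * (h * h) = 1 := by rw [← q.ez, ← map_mul, ← map_one f]; exact congrArg f (by decide +kernel)

theorem jj : j * j = h * h := by rw [← q.ez, ← q.ej, ← map_mul]; exact congrArg f (by decide +kernel)

theorem jh : j * h * j⁻¹ = h⁻¹ := by
  rw [← q.eh, ← q.ej, ← map_mul, ← map_inv, ← map_inv, ← map_mul]; exact congrArg f (by decide +kernel)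

theorem z1 : h * h ≠ 1 := by rw [← q.ez, ← map_one f]; exact q.inj.ne (by decide +kernel)

theorem ord : orderOf h = 4 := by
  rw [← q.eh, orderOf_injective f q.inj, orderOf_eq_iff (by norm_num)]; decide +kernel

theorem aut (hn : ∀ a, ∃ b, g * f a * g⁻¹ = f b) (h1 : g * h = h * g) (h2 : g * j = j * g) (a : SL) :
    g * f a = f a * g :=
  mul_inv_eq_iff_eq_mul.1 (ext2 (g := (MulAut.conj g).toMonoidHom.comp f) q.inj hn
    (mul_inv_eq_iff_eq_mul.2 (q.eh.symm ▸ h1)) (mul_inv_eq_iff_eq_mul.2 (q.ej.symm ▸ h2)) a)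

theorem cent_h (a : SL) (h1 : f a * h = h * f a) : f a ∈ zpowers h := by
  obtain ⟨e, rfl⟩ := (by decide +kernel : ∀ a : SL, a * o 2 = o 2 * a → ∃ e : Fin 4, a = o 2 ^ e.val) a
    (q.inj (by rwa [map_mul, map_mul, q.eh]))
  rw [map_pow, q.eh]; exact npow_mem_zpowers h e

theorem lam (hn : ∀ a, ∃ b, g * f a * g⁻¹ = f b) (h1 : g * h = h * g) :
    ∃ e : Fin 4, g * j * g⁻¹ = j * h ^ e.val := by
  obtain ⟨b, hb⟩ := hn (o 4)
  obtain ⟨e, rfl⟩ := (by decide +kernel : ∀ b : SL, b * o 2 * b⁻¹ = (o 2)⁻¹ → ∃ e : Fin 4, b = o 4 * o 2 ^ e.val) b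
    (q.inj (by
      have := congrArg (fun x => g * x * g⁻¹) q.jh
      simp only [← conj_mul (b := g), ← conj_inv (b := g), h1, mul_inv_cancel_right] at this
      rwa [map_mul, map_mul, map_inv, map_inv, ← hb, q.eh, q.ej]))
  exact ⟨e, by rwa [map_mul, map_pow, q.eh, q.ej] at hb⟩

omit q in
theorem pw {k : Γ} (c : k * h = h * k) {e : ℕ} (r : k * j * k⁻¹ = j * h ^ e) (n : ℕ) :
    k ^ n * j * (k ^ n)⁻¹ = j * h ^ (e * n) := by
  induction n with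
  | zero => simp
  | succ n ih =>
    rw [pow_succ', ← conj_conj, ih, ← conj_mul, r, ← conj_pow, c, mul_inv_cancel_right, mul_assoc, ← pow_add,
      mul_add_one, add_comm]

theorem four (hn : ∀ a, ∃ b, g * f a * g⁻¹ = f b) (h1 : g * h = h * g) : g ^ 4 * j = j * g ^ 4 := by
  obtain ⟨e, he⟩ := q.lam hn h1
  rw [← mul_inv_eq_iff_eq_mul, pw h1 he, orderOf_dvd_iff_pow_eq_one.1 (q.ord.dvd.trans (dvd_mul_left _ _)),
    mul_one]

theorem invol (hn : ∀ a, ∃ b, g * f a * g⁻¹ = f b) (h1 : g * h = h * g) (h2 : g * g = 1) :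
    g * j = j * g ∨ g * j * g⁻¹ = j * (h * h) := by
  obtain ⟨e, he⟩ := q.lam hn h1
  have := pw h1 he 2
  rw [pow_two, h2, one_mul, inv_one, mul_one, left_eq_mul, ← orderOf_dvd_iff_pow_eq_one, q.ord] at this
  rcases (by clear he; revert e; decide : e = 0 ∨ e = 2) with rfl | rfl
  · exact .inl (by simpa [mul_inv_eq_iff_eq_mul] using he)
  · exact .inr (he.trans (congrArg _ (pow_two h)))

theorem flip {k : Γ} (c : h * k = k * h) (r : k * j * k⁻¹ = j * h) : j * k * j⁻¹ = h * k := by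
  calc _ = j * j * (j⁻¹ * (k * j * k⁻¹) * k) * (j * j)⁻¹ := by group
    _ = _ := by
      rw [r, q.jj, inv_mul_cancel_left, mul_inv_eq_iff_eq_mul]
      exact ((Commute.refl h).mul_right c).mul_left ((Commute.refl h).mul_right c)

omit q in
theorem le {K : Subgroup Γ} (hK : ∀ x, x ^ 3 = 1 → x ∈ K) : f.range ≤ K := by
  rintro _ ⟨a, rfl⟩
  obtain ⟨x, y, hx, hy, rfl | rfl⟩ := (by decide +kernel : ∀ a : SL, ∃ x : SL, ∃ y : SL,
    x ^ 3 = 1 ∧ y ^ 3 = 1 ∧ (a = x * y ∨ a = x * y * x * y)) a <;>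
  have h1 := hK (f x) (by rw [← map_pow, hx, map_one]) <;> have h2 := hK (f y) (by rw [← map_pow, hy, map_one]) <;>
    simp only [map_mul]
  exacts [mul_mem h1 h2, mul_mem (mul_mem (mul_mem h1 h2) h1) h2]

theorem rules : h⁻¹ = h * (h * h) ∧ j⁻¹ = h * (h * j) ∧ (∀ y, h * (h * (h * (h * y))) = y) ∧
    (∀ y, j * (h * y) = h * (h * (h * (j * y)))) ∧ ∀ y, j * (j * y) = h * (h * y) := by
  have h1 : h⁻¹ = h * (h * h) := inv_eq_of_mul_eq_one_right (by rw [← q.h4, mul_assoc])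
  refine ⟨h1, inv_eq_of_mul_eq_one_left (by rw [← q.h4, mul_assoc, mul_assoc, q.jj, mul_assoc]), fun y => ?_,
    fun y => ?_, fun y => by rw [← mul_assoc, q.jj, mul_assoc]⟩
  · rw [← mul_assoc, ← mul_assoc, ← mul_assoc, mul_assoc (h * h), q.h4, one_mul]
  · rw [← mul_assoc, mul_inv_eq_iff_eq_mul.1 q.jh, h1]; simp only [mul_assoc]

end Q

theorem tail {a b : Γ} (h : a * 1 = b * 1) : a = b := mul_right_cancel h

theorem sfx {a b c d : Γ} (h : a * b * a⁻¹ = c * d) (e : c * d = d * c) :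
    (∀ y, a * (b * y) = c * (d * (a * y))) ∧ ∀ y, a * (b * y) = d * (c * (a * y)) := by
  have := mul_inv_eq_iff_eq_mul.1 h
  exact ⟨fun y => by rw [← mul_assoc, this]; simp only [mul_assoc],
    fun y => by rw [← mul_assoc, this, e]; simp only [mul_assoc]⟩

/-- the fundamental subgroups of `U₄(3)` -/
structure Dat (f1 f2 f3 : SL →* Γ) (D : Subgroup Γ) (h1 j1 h2 j2 h3 j3 : Γ) : Prop where
  q1 : Q f1 h1 j1
  q2 : Q f2 h2 j2
  q3 : Q f3 h3 j3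
  c13 : ∀ a b, f1 a * f3 b = f3 b * f1 a
  r21 : h2 * j1 * h2⁻¹ = j1 * h1
  r12 : h1 * j2 * h1⁻¹ = j2 * h2
  r32 : h3 * j2 * h3⁻¹ = j2 * h2
  r23 : h2 * j3 * h2⁻¹ = j3 * h3
  b12 : j2 * j1 * j2 = j1 * j2 * j1
  b23 : j3 * j2 * j3 = j2 * j3 * j2
  ab : ∀ a ∈ D, ∀ b ∈ D, a * b = b * a
  m1 : h1 ∈ D
  m2 : h2 ∈ D
  m3 : h3 ∈ D
  n1 : ∀ d ∈ D, ∀ a, ∃ b, d * f1 a * d⁻¹ = f1 b
  n2 : ∀ d ∈ D, ∀ a, ∃ b, d * f2 a * d⁻¹ = f2 b
  n3 : ∀ d ∈ D, ∀ a, ∃ b, d * f3 a * d⁻¹ = f3 b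
  gen : f1.range ⊔ f2.range ⊔ f3.range = ⊤
  zc : center Γ = ⊥
  sw : ∀ a, ∃ b, j2 * (j1 * j3) * j2⁻¹ * f1 a * (j2 * (j1 * j3) * j2⁻¹)⁻¹ = f3 b
  cent : ∀ c, c * (h1 * h1) = h1 * h1 * c →
    ∃ n ∈ f1.range ⊔ f3.range ⊔ zpowers (j2 * (j1 * j3) * j2⁻¹), ∃ d ∈ D, c = n * d
  seven : ∃ y ∈ f2.range ⊔ f3.range, y ≠ 1 ∧ y ^ 7 = 1

/-- the preimage of `h₂` -/
def eta : H0 := hs0 * hu0 * (hj * (hs0 * hj * hs0)⁻¹)⁻¹

namespace Dat

variable {f1 f2 f3 : SL →* Γ} {D : Subgroup Γ} {h1 j1 h2 j2 h3 j3 c : Γ} (d : Dat f1 f2 f3 D h1 j1 h2 j2 h3 j3)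
include d

theorem le23 (hc : c ∈ D) (c2 : c * j2 = j2 * c) (c3 : c * j3 = j3 * c) :
    f2.range ⊔ f3.range ≤ centralizer {c} := by
  refine sup_le ?_ ?_ <;> rintro _ ⟨a, rfl⟩ <;> refine mem_centralizer_singleton_iff.2 (Eq.symm ?_)
  exacts [d.q2.aut (d.n2 c hc) (d.ab c hc _ d.m2) c2 a, d.q3.aut (d.n3 c hc) (d.ab c hc _ d.m3) c3 a]

theorem triv (hc : c ∈ D) (c1 : c * j1 = j1 * c) (c2 : c * j2 = j2 * c) (c3 : c * j3 = j3 * c) : c = 1 := by
  have : ⊤ ≤ centralizer {c} := by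
    rw [← d.gen, sup_assoc]
    refine sup_le ?_ (d.le23 hc c2 c3)
    rintro _ ⟨a, rfl⟩
    exact mem_centralizer_singleton_iff.2 (d.q1.aut (d.n1 c hc) (d.ab c hc _ d.m1) c1 a).symm
  exact mem_bot.1 (d.zc.le (mem_center_iff.2 fun g => mem_centralizer_singleton_iff.1 (this (mem_top g))))

theorem rules : (∀ y, h2 * (h1 * y) = h1 * (h2 * y)) ∧ (∀ y, h3 * (h1 * y) = h1 * (h3 * y)) ∧
    (∀ y, h3 * (h2 * y) = h2 * (h3 * y)) ∧ (∀ y, j1 * (h2 * y) = h1 * (h2 * (j1 * y))) ∧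
    (∀ y, j2 * (h1 * y) = h1 * (h2 * (j2 * y))) ∧ (∀ y, j2 * (h3 * y) = h2 * (h3 * (j2 * y))) ∧
    (∀ y, j3 * (h2 * y) = h2 * (h3 * (j3 * y))) ∧ (∀ y, j1 * (h3 * y) = h3 * (j1 * y)) ∧
    (∀ y, j3 * (h1 * y) = h1 * (j3 * y)) ∧ (∀ y, j3 * (j1 * y) = j1 * (j3 * y)) ∧
    (∀ y, j2 * (j1 * (j2 * y)) = j1 * (j2 * (j1 * y))) ∧ (∀ y, j3 * (j2 * (j3 * y)) = j2 * (j3 * (j2 * y))) ∧
    ∀ y, j3 * (j2 * (j1 * (j3 * y))) = j2 * (j3 * (j2 * (j1 * y))) := by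
  have c12 := d.ab _ d.m1 _ d.m2
  have c23 := d.ab _ d.m2 _ d.m3
  have k : ∀ {a b : Γ}, a * b = b * a → ∀ y, a * (b * y) = b * (a * y) := fun e => Commute.left_comm e
  have e1 := k (d.c13 (o 4) (o 4)).symm
  have e2 : ∀ y, j3 * (j2 * (j3 * y)) = j2 * (j3 * (j2 * y)) := fun y => by simp only [← mul_assoc, d.b23]
  have e3 := k (d.c13 (o 4) (o 2))
  have e4 := k (d.c13 (o 2) (o 4)).symm
  simp only [d.q1.eh, d.q1.ej, d.q3.eh, d.q3.ej] at e1 e3 e4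
  exact ⟨k c12.symm, k (d.ab _ d.m3 _ d.m1), k c23.symm, (sfx (d.q1.flip c12 d.r21) c12).1,
    (sfx (d.q2.flip c12.symm d.r12) c12.symm).2, (sfx (d.q2.flip c23 d.r32) c23).1,
    (sfx (d.q3.flip c23.symm d.r23) c23.symm).2, e3, e4, e1, fun y => by simp only [← mul_assoc, d.b12], e2,
    fun y => by rw [← e1, e2]⟩

theorem e3 : h3 = h1 * (h2 * h2) := by
  refine (mul_inv_eq_one.1 (d.triv (mul_mem (mul_mem d.m1 (mul_mem d.m2 d.m2)) (inv_mem d.m3)) ?_ ?_ ?_)).symm <;>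
    refine tail ?_ <;> simp only [mul_assoc, d.rules, d.q1.rules, d.q2.rules, d.q3.rules]

omit d in
/-- a complete rewriting system for the monomial subgroup -/
theorem mono {a b : Γ} (h : a * 1 = b * 1 := by
    simp only [mul_assoc, one_mul, mul_inv_rev, inv_inv, d.rules, d.q1.rules, d.q2.rules, d.q3.rules]
    try simp only [mul_assoc, d.e3, d.rules, d.q1.rules, d.q2.rules]) : a = b := tail h

theorem ss : j2 * (j1 * j3) * j2⁻¹ * (j2 * (j1 * j3) * j2⁻¹) = 1 := mono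

theorem sf (a : SL) : j2 * (j1 * j3) * j2⁻¹ * f1 a * (j2 * (j1 * j3) * j2⁻¹) = f3 (o 2 * a * (o 2)⁻¹) := by
  nth_rewrite 2 [← inv_eq d.ss]
  refine ext2 (f := f3.comp (MulAut.conj (o 2)).toMonoidHom) (g := (MulAut.conj _).toMonoidHom.comp f1)
    (d.q3.inj.comp (MulAut.conj (o 2)).injective) (fun a => ?_) ?_ ?_ a
  · obtain ⟨b, hb⟩ := d.sw a
    exact ⟨(o 2)⁻¹ * b * o 2, hb.trans (congrArg f3 (by simp [mul_assoc]))⟩
  all_goals
    change _ * f1 _ * _ = f3 (_ * _ * _)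
    simp only [map_mul, map_inv, d.q1.eh, d.q1.ej, d.q3.eh, d.q3.ej]
    exact mono

theorem hd : HD f1 (j2 * (j1 * j3) * j2⁻¹) (j2 * (j1 * j3) * j2⁻¹ * (h2 * (j1 * j3))) := by
  have uu : j2 * (j1 * j3) * j2⁻¹ * (h2 * (j1 * j3)) * (j2 * (j1 * j3) * j2⁻¹ * (h2 * (j1 * j3))) = 1 := mono
  have vf : ∀ a, h2 * (j1 * j3) * f1 a * (h2 * (j1 * j3))⁻¹ = f1 (th a) := fun a => by
    refine ext2 (f := f1.comp th) (g := (MulAut.conj _).toMonoidHom.comp f1)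
      (d.q1.inj.comp (LeftInverse.injective th_th)) (fun a => ?_) ?_ ?_ a
    · obtain ⟨b, hb⟩ := d.n1 h2 d.m2 (o 4 * a * (o 4)⁻¹)
      refine ⟨th b, Eq.trans ?_ (hb.trans (congrArg f1 (th_th b).symm))⟩
      change _ * f1 _ * _ = _
      rw [← conj_conj, ← conj_conj, ← d.q3.ej, ← d.c13, mul_inv_cancel_right, map_mul, map_mul, map_inv, d.q1.ej]
    · change _ * f1 _ * _ = f1 (th _)
      rw [show th (o 2) = (o 2)⁻¹ by decide +kernel, map_inv, d.q1.eh]; exact mono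
    · change _ * f1 _ * _ = f1 (th _)
      rw [show th (o 4) = o 4 * o 2 by decide +kernel, map_mul, d.q1.eh, d.q1.ej]; exact mono
  refine ⟨d.q1.inj, d.ss, uu, fun a b => by rw [d.sf, d.c13], fun a b e => ?_, by rw [d.q1.ez]; exact mono,
    by rw [d.q1.ez]; exact mono, fun a => ?_⟩
  · refine (by decide +kernel : ∀ a : SL, (∀ b, b * a = a * b) → a = 1 ∨ a = o 1) a fun c => d.q1.inj ?_
    rw [map_mul, map_mul, e, d.sf, d.c13]
  · nth_rewrite 2 [← inv_eq uu]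
    rw [← conj_conj, vf, inv_eq d.ss]

/-- the embedding of the group of order 1152 -/
def φ : H0 →* Γ := d.hd.hom

theorem inj : Injective d.φ := d.hd.hom_injective

theorem hi' : d.φ hi = h1 := d.hd.hom_i.trans d.q1.eh

theorem hj1 : d.φ hj = j1 := d.hd.hom_j.trans d.q1.ej

theorem hz' : d.φ hz = h1 * h1 := d.hd.hom_z.trans d.q1.ez

theorem hs' : d.φ hs0 = j2 * (j1 * j3) * j2⁻¹ := d.hd.hom_s

theorem hu' : d.φ hu0 = j2 * (j1 * j3) * j2⁻¹ * (h2 * (j1 * j3)) := d.hd.hom_u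

theorem hj' : d.φ (hs0 * hj * hs0)⁻¹ = j3 := by
  simp only [map_mul, map_inv, d.hs', d.hj1]; exact mono

theorem eta' : d.φ eta = h2 := by
  simp only [eta, map_mul, map_inv, d.hs', d.hu', d.hj1]; exact mono

theorem fus : Fus f1 (j2 * (j1 * j3) * j2⁻¹) (j2 * j1) ∧
    Fus f1 (j2 * (j1 * j3) * j2⁻¹ * (h2 * (j1 * j3))) (j1 * j2) := by
  have k : ∀ {a b x : Γ}, x = a ∨ x = b → x ∈ closure {a, b} := fun h => subset_closure h
  refine ⟨⟨?_, ?_, k (.inr ?_), k (.inl ?_)⟩, ?_, ?_, ?_, ?_⟩ <;> simp only [d.q1.ez, d.q1.eh, d.q1.ej]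
  exacts [mono, mono, mono, mono, mono, mono, k (.inr mono), k (.inl mono)]

/-- all involutions of the subgroup of order 1152 are conjugate -/
theorem cl {k : H0} (k2 : k * k = 1) (k1 : k ≠ 1) : IsConj (d.φ hz) (d.φ k) := by
  have c : ∀ {a b : Γ} (g : Γ), g * a * g⁻¹ = b → IsConj a b := fun g e => isConj_iff.2 ⟨g, e⟩
  have c' : ∀ {a b : H0} (g : H0), g * a * g⁻¹ = b → IsConj (d.φ a) (d.φ b) := fun g e => c _ (d.hd.cj e)
  have e2 : IsConj (d.φ hz) (d.φ (el 2)) := c _ (d.hd.hom_z ▸ d.fus.1.mz.trans d.hd.el2.symm)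
  have e3 := e2.trans (c' (b := el 3) hj (by decide +kernel))
  have k4 : ∀ x : H0, (∃ a b, H0.mk a b false false * el 2 * (H0.mk a b false false)⁻¹ = x) →
      IsConj (d.φ hz) (d.φ x) := fun x ⟨_, _, e⟩ => e2.trans (c' _ e)
  have es : IsConj (d.φ hz) (d.φ hs0) := (k4 (hj * (hs0 * hj * hs0)⁻¹) (by decide +kernel)).trans
    (c j2 (by rw [map_mul, d.hj', d.hj1, d.hs']))
  have eu : IsConj (d.φ hz) (d.φ hu0) :=
    (k4 (hj * (hs0 * hj * hs0)⁻¹ * (hi * eta * eta)) (by decide +kernel)).trans (c (j1 * j2) (by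
      simp only [map_mul _ _ (hi * _ * _), map_mul _ hj, d.hj']
      simp only [map_mul, d.hi', d.eta', d.hj1, d.hu']; exact mono))
  rcases (by decide +kernel : ∀ k : H0, k * k = 1 → k ≠ 1 → k = hz ∨ ∃ a : SL, ∃ p : Bool,
    let c := H0.mk a 0 p (!p)
    c * hs0 * c⁻¹ = k ∨ H0.mk a 0 false false * hs0 * (H0.mk a 0 false false)⁻¹ = k ∨
    c * hu0 * c⁻¹ = k ∨ H0.mk a 0 false false * hu0 * (H0.mk a 0 false false)⁻¹ = k ∨
    ∃ b : Fin 3, H0.mk a (Fin.ofNat 12 (4 * b)) false false * el 3 *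
      (H0.mk a (Fin.ofNat 12 (4 * b)) false false)⁻¹ = k) k k2 k1 with rfl | ⟨a, p, e | e | e | e | ⟨b, e⟩⟩
  exacts [.refl _, es.trans (c' _ e), es.trans (c' _ e), eu.trans (c' _ e), eu.trans (c' _ e), e3.trans (c' _ e)]

theorem lam_le {N : Subgroup Γ} (m1 : h1 ∈ N) (m2 : h2 ∈ N) {k : H0} (c1 : d.φ k * h1 = h1 * d.φ k)
    (c2 : d.φ k * h2 = h2 * d.φ k) : d.φ k ∈ N := by
  obtain ⟨a, b, rfl⟩ := (by decide +kernel : ∀ k : H0, k * hi = hi * k → k * eta = eta * k →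
    ∃ a b : Fin 4, k = hi ^ a.val * eta ^ b.val) k (d.inj (by rwa [map_mul, map_mul, d.hi']))
    (d.inj (by rwa [map_mul, map_mul, d.eta']))
  rw [map_mul, map_pow, map_pow, d.hi', d.eta']
  exact mul_mem (pow_mem m1 _) (pow_mem m2 _)

theorem d4 (hc : c ∈ D) : c ^ 4 = 1 :=
  d.triv (pow_mem hc 4) (d.q1.four (d.n1 c hc) (d.ab c hc _ d.m1)) (d.q2.four (d.n2 c hc) (d.ab c hc _ d.m2))
    (d.q3.four (d.n3 c hc) (d.ab c hc _ d.m3))

theorem mem1 (a : SL) : f1 a ∈ d.φ.range := ⟨_, d.hd.hom_inl a⟩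

theorem memh : h1 ∈ d.φ.range ∧ h2 ∈ d.φ.range := ⟨⟨_, d.hi'⟩, _, d.eta'⟩

theorem fac (hc : c * (h1 * h1) = h1 * h1 * c) :
    ∃ n ∈ d.φ.range, ∃ e ∈ D ⊓ centralizer {j2} ⊓ centralizer {j3}, c = n * e := by
  obtain ⟨n, hn, e, he, rfl⟩ := d.cent c hc
  have hs : j2 * (j1 * j3) * j2⁻¹ ∈ d.φ.range := ⟨_, d.hs'⟩
  have h0 : f1.range ⊔ f3.range ⊔ zpowers (j2 * (j1 * j3) * j2⁻¹) ≤ d.φ.range := by
    refine sup_le (sup_le ?_ ?_) (zpowers_le.2 hs) <;> rintro _ ⟨a, rfl⟩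
    · exact d.mem1 a
    · rw [show a = o 2 * ((o 2)⁻¹ * a * o 2) * (o 2)⁻¹ by group, ← d.sf]
      exact mul_mem (mul_mem hs (d.mem1 _)) hs
  obtain ⟨a, ha⟩ := d.q3.lam (d.n3 e he) (d.ab e he _ d.m3)
  have m := mul_mem (inv_mem (pow_mem d.m2 a)) he
  obtain ⟨b, hb⟩ := d.q2.lam (d.n2 _ m) (d.ab _ m _ d.m2)
  have k : ∀ {h j k e : Γ} {a : ℕ}, k * h = h * k → k * j * k⁻¹ = j * h → e * j * e⁻¹ = j * h ^ a →
      (k ^ a)⁻¹ * e ∈ centralizer {j} := fun {h j k e a} c r he => by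
    have := Q.pw c (e := 1) (by rwa [pow_one]) a
    rw [one_mul, ← he] at this
    rw [mem_centralizer_singleton_iff, ← mul_inv_eq_iff_eq_mul, ← conj_conj, ← this]; group
  refine ⟨n * h2 ^ a.val * h1 ^ b.val, mul_mem (mul_mem (h0 hn) (pow_mem d.memh.2 _)) (pow_mem d.memh.1 _), _,
    mem_inf.2 ⟨mem_inf.2 ⟨mul_mem (inv_mem (pow_mem d.m1 b)) m, k (d.ab _ d.m1 _ d.m2) d.r12 hb⟩, mul_mem (inv_mem (pow_mem
      (mem_centralizer_singleton_iff.2 (by exact mono)) b)) (k (d.ab _ d.m2 _ d.m3) d.r23 ha)⟩, by group⟩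

theorem odd_index [Finite Γ] : Odd (centralizer {h1 * h1}).index := by
  have n1 : j1 ∈ normalizer (D : Set Γ) := SylTools.mem_normalizer_of_conj_le fun x hx => by
    obtain ⟨e, he⟩ := d.q1.lam (d.n1 _ (inv_mem hx)) (d.ab _ (inv_mem hx) _ d.m1)
    rw [show j1 * x * j1⁻¹ = x * (j1 * h1 ^ e.val * j1⁻¹) by rw [← he]; group, ← conj_pow, d.q1.jh]
    exact mul_mem hx (pow_mem (inv_mem d.m1) _)
  have n3 : j3 ∈ normalizer (D : Set Γ) := SylTools.mem_normalizer_of_conj_le fun x hx => by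
    obtain ⟨e, he⟩ := d.q3.lam (d.n3 _ (inv_mem hx)) (d.ab _ (inv_mem hx) _ d.m3)
    rw [show j3 * x * j3⁻¹ = x * (j3 * h3 ^ e.val * j3⁻¹) by rw [← he]; group, ← conj_pow, d.q3.jh]
    exact mul_mem hx (pow_mem (inv_mem d.m3) _)
  have p : ∀ {j : Γ}, j * j * (j * j) = 1 → IsPGroup 2 (zpowers j) := by
    rintro j hj ⟨_, a, rfl⟩
    exact ⟨2, Subtype.ext (by
      rw [coe_pow, ← zpow_natCast, zpow_comm, zpow_natCast, show j ^ 2 ^ 2 = 1 by
        rw [← hj, ← pow_two, ← pow_two, ← pow_mul]; rfl]; simp)⟩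
  have pD : IsPGroup 2 D := fun x => ⟨2, Subtype.ext (d.d4 x.2)⟩
  obtain ⟨P, hP⟩ := ((p (j := j3) mono).to_sup_of_normal_right' ((p (j := j1) mono).to_sup_of_normal_right' pD
    (zpowers_le.2 n1)) (zpowers_le.2 (SylTools.mem_normalizer_of_conj_le fun x hx =>
      (show _ ≤ comap (MulAut.conj j3).toMonoidHom (zpowers j1 ⊔ D) from sup_le (zpowers_le.2 (by
        rw [mem_comap, show (MulAut.conj j3).toMonoidHom j1 = j1 from mul_inv_eq_iff_eq_mul.2 mono]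
        exact mem_sup_left (mem_zpowers j1)))
        fun y hy => mem_sup_right ((mem_normalizer_iff.1 n3 y).1 hy)) hx))).exists_le_sylow
  have hD : D ≤ P := (le_sup_right.trans le_sup_right).trans hP
  have zD := mul_mem d.m1 d.m1
  have : Nontrivial P := ⟨⟨⟨_, hD zD⟩, 1, fun e => d.q1.z1 (congrArg Subtype.val e)⟩⟩
  have := P.isPGroup'.center_nontrivial
  obtain ⟨⟨⟨w, hw⟩, wc⟩, w2⟩ := exists_prime_orderOf_dvd_card' (G := center P) 2 (by
    obtain ⟨n, h0, hn⟩ := (P.isPGroup'.to_subgroup (center P)).nontrivial_iff_card.1 this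
    exact hn ▸ dvd_pow_self 2 h0.ne')
  rw [orderOf_mk, orderOf_mk] at w2
  replace wc : ∀ y ∈ P, w * y = y * w := fun y hy => (congrArg Subtype.val (mem_center_iff.1 wc ⟨y, hy⟩)).symm
  have c1 := wc j1 (hP (mem_sup_right (mem_sup_left (mem_zpowers j1))))
  have c3 := wc j3 (hP (mem_sup_left (mem_zpowers j3)))
  have wD : w ∈ D := by
    obtain ⟨_, ⟨k, rfl⟩, e, he, rfl⟩ := d.fac (wc _ (hD zD))
    have k : ∀ h ∈ D, d.φ k * h = h * d.φ k := fun h hh => mul_right_cancel (b := e) (by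
      rw [mul_assoc, d.ab h hh e he.1.1, ← mul_assoc, wc h (hD hh), mul_assoc h])
    exact mul_mem (d.lam_le d.m1 d.m2 (k _ d.m1) (k _ d.m2)) he.1.1
  have wz : w = h1 * h1 := by
    rcases d.q2.invol (d.n2 w wD) (d.ab w wD _ d.m2) (StrEmb.mul_self_of_orderOf w2) with e | e
    · exact absurd (d.triv wD c1 e c3) (StrEmb.ne_one_of_orderOf w2)
    · refine inv_mul_eq_one.1 (d.triv (mul_mem (inv_mem wD) zD) (Commute.mul_left (Commute.inv_left c1) mono) ?_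
        (Commute.mul_left (Commute.inv_left c3) mono))
      rw [← mul_inv_eq_iff_eq_mul, ← conj_conj, show h1 * h1 * j2 * (h1 * h1)⁻¹ = j2 * (h2 * h2) from mono, ← e]; group
  refine Odd.of_dvd_nat (Nat.not_even_iff_odd.1 fun e => P.not_dvd_index e.two_dvd) (index_dvd_of_le fun y hy => ?_)
  exact mem_centralizer_singleton_iff.2 (wz ▸ (wc y hy).symm)

theorem bot [Finite Γ] (hc : c ∈ D ⊓ centralizer {j2} ⊓ centralizer {j3}) : c = 1 := by
  by_contra c1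
  have tr : ∀ c ∈ D ⊓ centralizer {j2} ⊓ centralizer {j3}, c * j1 = j1 * c → c = 1 := fun c hc e =>
    d.triv hc.1.1 e (mem_centralizer_singleton_iff.1 hc.1.2) (mem_centralizer_singleton_iff.1 hc.2)
  obtain ⟨t, ht, t1, tt⟩ : ∃ t ∈ D ⊓ centralizer {j2} ⊓ centralizer {j3}, t ≠ 1 ∧ t * t = 1 := by
    by_cases e : c * c = 1
    exacts [⟨c, hc, c1, e⟩, ⟨c * c, mul_mem hc hc, e, by rw [← d.d4 hc.1.1, ← pow_two, ← pow_two, ← pow_mul]⟩]
  have iv : ∀ c ∈ D ⊓ centralizer {j2} ⊓ centralizer {j3}, c * c = 1 → c = 1 ∨ c * j1 * c⁻¹ = j1 * (h1 * h1) :=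
    fun c hc e => (d.q1.invol (d.n1 c hc.1.1) (d.ab c hc.1.1 _ d.m1) e).imp_left (tr c hc)
  have nT : D ⊓ centralizer {j2} ⊓ centralizer {j3} ≤ normalizer (d.φ.range : Set Γ) := fun e he => by
    have k : ∀ {x}, e * x = x * e → e * x * e⁻¹ = x := fun h => mul_inv_eq_iff_eq_mul.2 h
    obtain ⟨a, ha⟩ := d.q1.lam (d.n1 e he.1.1) (d.ab e he.1.1 _ d.m1)
    have k1 : ∀ a, e * f1 a * e⁻¹ ∈ d.φ.range := fun a => by
      obtain ⟨b, hb⟩ := d.n1 e he.1.1 a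
      exact hb ▸ d.mem1 b
    have k3 := k (mem_centralizer_singleton_iff.1 he.2)
    have ks : e * (j2 * (j1 * j3) * j2⁻¹) * e⁻¹ ∈ d.φ.range := by
      rw [← conj_mul, ← conj_mul, ← conj_mul, ← conj_inv, k (mem_centralizer_singleton_iff.1 he.1.2), k3, ha,
        mul_assoc j1, (Commute.pow_left (mono : h1 * j3 = j3 * h1) a).eq, ← mul_assoc j1, ← conj_mul, ← conj_pow,
        show j2 * h1 * j2⁻¹ = h1 * h2 from mono]
      exact mul_mem ⟨_, d.hs'⟩ (pow_mem (mul_mem d.memh.1 d.memh.2) _)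
    have ku : e * (j2 * (j1 * j3) * j2⁻¹ * (h2 * (j1 * j3))) * e⁻¹ ∈ d.φ.range := by
      rw [← conj_mul]
      refine mul_mem ks ?_
      rw [← conj_mul, ← conj_mul, k3, k (d.ab e he.1.1 _ d.m2)]
      exact mul_mem ⟨_, d.eta'⟩ (mul_mem (d.q1.ej ▸ k1 (o 4)) ⟨_, d.hj'⟩)
    refine SylTools.mem_normalizer_of_conj_le ?_
    rintro _ ⟨⟨⟨a, b, p, q⟩, _⟩, rfl⟩
    have M : ∀ {x y}, e * x * e⁻¹ ∈ d.φ.range → e * y * e⁻¹ ∈ d.φ.range →
      e * (x * y) * e⁻¹ ∈ d.φ.range := fun hx hy => by rw [← conj_mul]; exact mul_mem hx hy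
    have O : e * 1 * e⁻¹ ∈ d.φ.range := by simp
    exact M (M (k1 a) (M (M ks (k1 b)) ks)) (M (by cases p; exacts [O, ks]) (by cases q; exacts [O, ku]))
  have dis : ∀ c ∈ D ⊓ centralizer {j2} ⊓ centralizer {j3}, c ∈ d.φ.range → c = 1 := by
    rintro _ hc ⟨k, rfl⟩
    obtain ⟨a, rfl⟩ := (by decide +kernel : ∀ k : H0, k * hi = hi * k → k * eta = eta * k →
      k * (hs0 * hj * hs0)⁻¹ = (hs0 * hj * hs0)⁻¹ * k → ∃ a : Fin 4, k = hi ^ a.val) k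
      (d.inj (by rw [map_mul, map_mul, d.hi', d.ab _ hc.1.1 _ d.m1]))
      (d.inj (by rw [map_mul, map_mul, d.eta', d.ab _ hc.1.1 _ d.m2]))
      (d.inj (by rw [map_mul, map_mul, d.hj', mem_centralizer_singleton_iff.1 hc.2]))
    rw [map_pow, d.hi'] at hc ⊢
    have := Q.pw (d.ab _ d.m1 _ d.m2) (e := 1) (by rw [pow_one, d.r12]) a
    rw [mem_centralizer_singleton_iff.1 hc.1.2, mul_inv_cancel_right, left_eq_mul, one_mul,
      ← orderOf_dvd_iff_pow_eq_one, d.q2.ord] at this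
    exact orderOf_dvd_iff_pow_eq_one.1 (d.q1.ord.dvd.trans this)
  obtain ⟨K, k1, k2⟩ := transfer_cyc (T := D ⊓ centralizer {j2} ⊓ centralizer {j3}) d.odd_index
    (fun e he => mem_centralizer_singleton_iff.2 (d.ab e he.1.1 _ (mul_mem d.m1 d.m1))) nT
    (fun a ha b hb => d.ab a ha.1.1 b hb.1.1) (fun c hc => d.fac (mem_centralizer_singleton_iff.1 hc)) dis
    (fun c hc => d.d4 hc.1.1) ht t1 tt (fun c hc e => (iv c hc e).imp_right fun e => inv_mul_eq_one.1 (tr _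
      (mul_mem (inv_mem hc) ht) (by
        rw [← mul_inv_eq_iff_eq_mul, ← conj_conj, (iv t ht tt).resolve_left t1, ← e]; group))) fun g ⟨k, hk⟩ => by
    obtain ⟨a, ha⟩ := isConj_iff.1 (d.cl (k := k) (d.inj (by
      rw [map_mul, hk, map_one]; simp [mul_assoc, ← mul_assoc t t, tt])) fun e => t1 (by
        rw [e, map_one] at hk; exact conj_eq_one_iff.1 (by rw [hk, inv_inv])))
    obtain ⟨y, hy, y1, y7⟩ := d.seven
    have yt := mem_centralizer_singleton_iff.1 (d.le23 ht.1.1 (mem_centralizer_singleton_iff.1 ht.1.2)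
      (mem_centralizer_singleton_iff.1 ht.2) hy)
    rw [hk, d.hz'] at ha
    obtain ⟨_, ⟨k, rfl⟩, e, he, e1⟩ := d.fac (c := (g * a)⁻¹ * y * (g * a)) (by
      rw [show h1 * h1 = (g * a)⁻¹ * t * (g * a) by rw [mul_inv_rev, mul_assoc a⁻¹, mul_assoc, ← mul_assoc _ g, ← ha]; group]
      simp [mul_assoc, ← mul_assoc y t, yt])
    have h4 : ∀ m : ℕ, (d.φ k * e) ^ m * (e ^ m)⁻¹ ∈ d.φ.range := fun m => by
      induction m with
      | zero => simp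
      | succ m ih =>
        rw [show (d.φ k * e) ^ (m + 1) * (e ^ (m + 1))⁻¹ = d.φ k * (e * ((d.φ k * e) ^ m * (e ^ m)⁻¹) * e⁻¹) by
          rw [pow_succ', pow_succ']; group]
        exact mul_mem ⟨k, rfl⟩ ((mem_normalizer_iff.1 (nT he) _).1 ih)
    obtain ⟨k', hk'⟩ := h4 4
    rw [d.d4 he.1.1, inv_one, mul_one, ← e1] at hk'
    have h7 : ((g * a)⁻¹ * y * (g * a)) ^ 7 = 1 := by
      nth_rewrite 2 [← inv_inv (g * a)]; rw [conj_pow, y7]; simp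
    have h8 := pow_gcd_eq_one.2 ⟨d.inj (show d.φ (k' ^ 7) = d.φ 1 by
      rw [map_pow, hk', ← pow_mul, mul_comm, pow_mul, h7, one_pow, map_one]), pow_card_eq_one' (x := k')⟩
    rw [H0.card_eq, show Nat.gcd 7 1152 = 1 by norm_num, pow_one] at h8
    rw [h8, map_one] at hk'
    have := pow_gcd_eq_one.2 ⟨h7, hk'.symm⟩
    exact y1 (by simpa [mul_assoc, mul_eq_one_iff_eq_inv, inv_mul_eq_iff_eq_mul] using this)
  exact k1 ((d.gen.ge.trans (sup_le (sup_le (Q.le k2) (Q.le k2)) (Q.le k2))) (mem_top t))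

theorem iso [Finite Γ] : Nonempty (PM ≃* Γ) := by
  refine (d.hd.main ?_ d.fus.1 d.fus.2).1
  rw [← H0.card_eq, Nat.card_congr (MonoidHom.ofInjective d.inj).toEquiv, d.q1.ez]
  refine congrArg (fun H : Subgroup Γ => Nat.card H) (le_antisymm (fun c hc => ?_) ?_)
  · obtain ⟨n, hn, e, he, rfl⟩ := d.fac (mem_centralizer_singleton_iff.1 hc)
    rwa [d.bot he, mul_one]
  · rintro _ ⟨k, rfl⟩
    rw [← d.hz']
    exact mem_centralizer_singleton_iff.2 (d.hd.com ((by decide +kernel : ∀ k : H0, k * hz = hz * k) k))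

end Dat

end CfsgLib.GHD.U4
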